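import Cfsg.Agent.Lib.OrderSixCHZ.SixExtra
import Cfsg.Agent.Lib.Recog.CentralizerFourA5
import Cfsg.Agent.Lib.Dickson.Involutions
import Cfsg.Agent.S1644

/-!
# The centraliser with `A₅` as a quotient
-/

set_option autoImplicit false
set_option linter.style.haveILetI false
set_option linter.unusedSectionVars false

namespace Cfsg.Lib.OrderSixCHZ

open Subgroup
open scoped Pointwise

universe u v

set_option synthInstance.maxSize 4096 in
set_option maxRecDepth 4000 in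
/-- An element of order three of `A₅` normalises the centraliser of some involution. -/
theorem a5_invariant_four : ∀ y : Recog.CentFour.A5, y ^ 3 = 1 → ∃ v, v ^ 2 = 1 ∧ v ≠ 1 ∧
    ∀ w, v * w = w * v → v * (y * w * y⁻¹) = y * w * y⁻¹ * v := by
  decide +kernel

variable {G : Type u} [Group G] [Finite G] {t : G}

local notation "Cz" => centralizer ({t ^ 3} : Set G)

/-- With one class of involutions in the image and one lifting to an involution, all do. -/
theorem sq_eq_one_of_lift (h : Hyp t) {H : Type v} [Group H] (f : ↥(Cz) →* H) (hf : Function.Surjective f)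
    (hker : ∀ c, f c = 1 ↔ (c : G) = 1 ∨ (c : G) = t ^ 3)
    (hconj : ∀ x y : H, x ^ 2 = 1 → x ≠ 1 → y ^ 2 = 1 → y ≠ 1 → ∃ d, d * x * d⁻¹ = y)
    {a : ↥(Cz)} (ha : a ^ 2 = 1) (ha1 : f a ≠ 1) {c : ↥(Cz)} (hc : f c ^ 2 = 1) : c ^ 2 = 1 := by
  have hk2 : ∀ w, f w = 1 → w ^ 2 = 1 ∧ ∀ u, w * u = u * w := by
    intro w hw
    rcases (hker w).1 hw with e | e
    · rw [show w = 1 from Subtype.ext e]
      exact ⟨one_pow 2, fun u => by rw [one_mul, mul_one]⟩
    · refine ⟨Subtype.ext ?_, fun u => Subtype.ext ?_⟩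
      · rw [SubmonoidClass.coe_pow, e, pow_two, h.z_sq]; rfl
      · rw [Subgroup.coe_mul, Subgroup.coe_mul, e]
        exact (mem_centralizer_singleton_iff.1 u.2).symm
  by_cases hc1 : f c = 1
  · exact (hk2 c hc1).1
  obtain ⟨d, hd⟩ := hconj (f a) (f c) (by rw [← map_pow, ha, map_one]) ha1 hc hc1
  obtain ⟨d', rfl⟩ := hf d
  set w := c * (d' * a * d'⁻¹)⁻¹ with hw
  obtain ⟨hw2, hwc⟩ := hk2 w (by rw [hw, map_mul, map_inv, map_mul, map_mul, map_inv, hd, mul_inv_cancel])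
  rw [show c = w * (d' * a * d'⁻¹) by rw [hw, inv_mul_cancel_right], (show Commute w _ from hwc _).mul_pow,
    hw2, conj_pow, ha, one_mul, mul_one, mul_inv_cancel]

namespace Alt

variable (h : Hyp t) (D : Alt t)
include h D

theorem card_eq : ∃ k : ℕ, Nat.card D.E = 2 ^ k ∧ Nat.card ↥(Cz) = 60 * 2 ^ k := by
  haveI : Fact (Nat.Prime 2) := ⟨Nat.prime_two⟩
  obtain ⟨k, hk⟩ := IsPGroup.iff_card.1 D.E_two
  obtain ⟨f, hf, hker⟩ := D.quot
  refine ⟨k, hk, ?_⟩
  have h1 := card_mul_index f.ker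
  rw [index_ker, MonoidHom.range_eq_top.2 hf, card_top, hker,
    Nat.card_congr (subgroupOfEquivOfLe D.E_le).toEquiv, hk] at h1
  have h60 : Nat.card (alternatingGroup (Fin 5)) = 60 := by
    rw [Nat.card_eq_fintype_card]; decide +kernel
  rw [h60] at h1
  omega

theorem not_nine : ¬ 9 ∣ Nat.card ↥(Cz) := by
  obtain ⟨k, -, hC⟩ := D.card_eq h
  rw [hC]
  intro hd
  have : 9 ∣ 60 := (Nat.Coprime.pow_right k (show Nat.Coprime 9 2 by norm_num)).dvd_of_dvd_mul_right hd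
  omega

/-- A Sylow subgroup normalised by `x`. -/
theorem exists_sylow : ∃ S : Sylow 2 G, (S : Subgroup G) ≤ Cz ∧ D.E ≤ (S : Subgroup G) ∧
    (∀ a ∈ (S : Subgroup G), t ^ 2 * a * (t ^ 2)⁻¹ ∈ (S : Subgroup G)) ∧
    Nat.card (S : Subgroup G) = 4 * Nat.card D.E ∧
    ∃ f : ↥(Cz) →* Recog.CentFour.A5, Function.Surjective f ∧ f.ker = D.E.subgroupOf Cz ∧
      (∀ c : ↥(Cz), (c : G) ∈ (S : Subgroup G) → f c ^ 2 = 1) ∧
      ∃ c : ↥(Cz), (c : G) ∈ (S : Subgroup G) ∧ f c ≠ 1 := by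
  classical
  haveI : Fact (Nat.Prime 2) := ⟨Nat.prime_two⟩
  obtain ⟨k, hk, hC⟩ := D.card_eq h
  obtain ⟨f, hf, hker⟩ := D.quot
  set y := f ⟨t ^ 2, h.x_mem_cen⟩ with hy
  obtain ⟨v, hv2, hv1, hv⟩ := a5_invariant_four y (by
    rw [hy, ← map_pow, show (⟨t ^ 2, h.x_mem_cen⟩ : ↥(Cz)) ^ 3 = 1 from Subtype.ext h.x_cube, map_one])
  set V := centralizer ({v} : Set Recog.CentFour.A5) with hV
  set T : Subgroup G := (V.comap f).map (Cz).subtype with hT
  have hmemT : ∀ c : ↥(Cz), (c : G) ∈ T ↔ v * f c = f c * v := by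
    intro c
    show (Cz).subtype c ∈ T ↔ _
    rw [hT, mem_map_iff_mem (subtype_injective _), mem_comap, hV, mem_centralizer_singleton_iff]
    exact eq_comm
  have hcardT : Nat.card T = 4 * 2 ^ k := by
    have hV4 : Nat.card V = 4 := by
      rw [← Recog.CentFour.a5_card_commuting v hv2 hv1, ← Nat.card_eq_finsetCard]
      exact Nat.card_congr (Equiv.subtypeEquivRight fun w => by
        rw [hV, mem_centralizer_singleton_iff, Finset.mem_filter]
        exact ⟨fun e => ⟨Finset.mem_univ _, e.symm⟩, fun e => e.2.symm⟩)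
    have h1 := card_mul_index (V.comap f)
    rw [index_comap_of_surjective V hf, hC] at h1
    have h2 := card_mul_index V
    rw [hV4, show Nat.card Recog.CentFour.A5 = 60 by rw [Nat.card_eq_fintype_card]; decide +kernel] at h2
    have h3 : V.index = 15 := by omega
    rw [h3] at h1
    rw [hT, card_map_of_injective (subtype_injective _)]
    omega
  obtain ⟨S₀, hS₀⟩ := h.exists_sylow
  have hS₀card : Nat.card (S₀ : Subgroup G) = 2 ^ (2 + k) := by
    have h1 := (S₀.subtype hS₀).card_eq_multiplicity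
    rw [hC, show 60 * 2 ^ k = 2 ^ (2 + k) * 15 by rw [pow_add]; omega,
      Nat.factorization_mul (by positivity) (by norm_num), Finsupp.add_apply,
      Nat.Prime.factorization_pow Nat.prime_two, Finsupp.single_eq_same,
      Nat.factorization_eq_zero_of_not_dvd (show ¬ 2 ∣ 15 by norm_num), add_zero] at h1
    exact (Nat.card_congr (subgroupOfEquivOfLe hS₀).toEquiv).symm.trans h1
  let S : Sylow 2 G := Sylow.ofCard T (by
    rw [hcardT, ← S₀.card_eq_multiplicity, hS₀card, pow_add]; norm_num)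
  have hST : (S : Subgroup G) = T := rfl
  refine ⟨S, by rw [hST]; exact map_subtype_le _, fun e he => ?_, fun a ha => ?_,
    by rw [hST, hcardT, hk], f, hf, hker, fun c hc => ?_, ?_⟩
  · rw [hST, hmemT ⟨e, D.E_le he⟩, MonoidHom.mem_ker.1 (hker.ge (show (⟨e, D.E_le he⟩ : ↥(Cz)) ∈ D.E.subgroupOf Cz from he)),
      mul_one, one_mul]
  · rw [hST] at ha ⊢
    have haC : a ∈ Cz := map_subtype_le _ ha
    rw [hmemT ⟨_, h.conj_x_mem_cen haC⟩]
    have := hv _ ((hmemT ⟨a, haC⟩).1 ha)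
    rw [show (⟨_, h.conj_x_mem_cen haC⟩ : ↥(Cz)) = ⟨t ^ 2, h.x_mem_cen⟩ * ⟨a, haC⟩ * ⟨t ^ 2, h.x_mem_cen⟩⁻¹ from rfl,
      map_mul, map_mul, map_inv]
    exact this
  · rw [hST] at hc
    exact Recog.CentFour.a5_sq_commuting v hv2 hv1 _ ((hmemT c).1 hc)
  · obtain ⟨c, hc⟩ := hf v
    exact ⟨c, by rw [hST, hmemT c, hc], by rw [hc]; exact hv1⟩

/-- A local subgroup over a Sylow subgroup normalised by `x` moving `z`. -/
theorem card_two {S : Sylow 2 G} (hS : (S : Subgroup G) ≤ Cz)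
    (hxS : ∀ a ∈ (S : Subgroup G), t ^ 2 * a * (t ^ 2)⁻¹ ∈ (S : Subgroup G))
    (hcard : Nat.card (S : Subgroup G) = 4 * Nat.card D.E)
    {M K : Subgroup G} (hSM : (S : Subgroup G) ≤ M) (hxM : t ^ 2 ∈ M) (hKM : K ≤ M)
    (hKn : ∀ m ∈ M, ∀ k ∈ K, m * k * m⁻¹ ∈ K) (hK : IsPGroup 2 K) (hzK : t ^ 3 ∈ K)
    (hmove : ∃ m ∈ M, m * t ^ 3 ≠ t ^ 3 * m) : Nat.card D.E = 2 := by
  haveI : Fact (Nat.Prime 2) := ⟨Nat.prime_two⟩
  obtain ⟨E, hE⟩ := h.local_structure hS hSM hxM hKM hKn hK hzK hmove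
  rcases hE.cases with ⟨-, hES, htop⟩ | ⟨hn, -⟩
  swap
  · exact absurd hxS hn
  obtain ⟨R, hRM, hR6, hRx, hRmove⟩ := h.exists_moving hS hSM hxM hE htop hmove
  have hRS : ∀ r ∈ R, ∀ a ∈ (S : Subgroup G), r * a * r⁻¹ ∈ (S : Subgroup G) := fun r hr a ha =>
    hES ▸ hE.norm r (hRM hr) a (hES ▸ ha)
  have hzS := h.z_mem_sylow hS
  have h8 := h.card_eight_mul hS hE hRM hR6 hRx hRmove S.2 hS hzS hxS hRS
  by_cases hbot : (S : Subgroup G) ⊓ centralizer (R : Set G) = ⊥
  · rw [hbot, card_bot, hcard] at h8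
    omega
  exfalso
  obtain ⟨j, hj⟩ := IsPGroup.iff_card.1 (S.2.to_le (inf_le_left : (S : Subgroup G) ⊓ centralizer (R : Set G) ≤ _))
  have hdvd : 2 ∣ Nat.card ↥((S : Subgroup G) ⊓ centralizer (R : Set G)) := by
    rw [hj]
    refine dvd_pow_self 2 fun e => hbot ?_
    rw [e, pow_zero] at hj
    exact card_eq_one.1 hj
  obtain ⟨⟨a, haS, haR⟩, ha⟩ := exists_prime_orderOf_dvd_card' 2 hdvd
  have ha2 : orderOf a = 2 := by rw [← ha, ← Subgroup.orderOf_coe]
  obtain ⟨g, hg⟩ := isConj_iff.1 (h.one (t ^ 3) a h.orderOf_z ha2)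
  obtain ⟨k, -, hC⟩ := D.card_eq h
  have hRd : Nat.card R ∣ 5 := by
    have h1 : Nat.card ↥(centralizer ({a} : Set G)) = 60 * 2 ^ k := by
      rw [← hC, ← hg, show g * t ^ 3 * g⁻¹ = g⁻¹⁻¹ * t ^ 3 * g⁻¹ by rw [inv_inv]]
      exact Dickson.card_centralizer_conj g⁻¹ (t ^ 3)
    have h2 : Nat.card R ∣ 60 * 2 ^ k := h1 ▸ card_dvd_of_le (fun r hr =>
      mem_centralizer_singleton_iff.2 (mem_centralizer_iff.1 haR r hr))
    have hc2 := (hR6.coprime_dvd_right (show 2 ∣ 6 by norm_num))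
    have h3 := (hc2.pow_right k).dvd_of_dvd_mul_right h2
    rw [show (60 : ℕ) = 12 * 5 from rfl] at h3
    refine Nat.Coprime.dvd_of_dvd_mul_left ?_ h3
    rw [show (12 : ℕ) = 2 * 6 from rfl]
    exact Nat.Coprime.mul_right hc2 hR6
  obtain ⟨w, hw, hwz⟩ := hRmove
  have hR5 : Nat.card R = 5 := ((Nat.dvd_prime (by norm_num)).1 hRd).resolve_left fun e => hwz (by
    rw [card_eq_one.1 e, mem_bot] at hw
    rw [hw, one_mul, mul_one])
  have hall : ∀ r ∈ R, t ^ 2 * r = r * t ^ 2 → r = 1 := by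
    intro r hr hrx
    have hm : r * t ^ 3 * r⁻¹ ∈ (S : Subgroup G) := hRS r hr _ hzS
    have e2 : t ^ 2 * (r * t ^ 3 * r⁻¹) = r * t ^ 3 * r⁻¹ * t ^ 2 := by
      have hc' : Commute (t ^ 2) r := hrx
      exact ((hc'.mul_right h.xz_comm).mul_right hc'.inv_right).eq
    have e3 := h.eq_z_of_fixed (by rw [Invol.orderOf_conj_eq, h.orderOf_z]) e2
      (mem_centralizer_singleton_iff.1 (hS hm)).symm
    have hrt : r ∈ zpowers t := h.mem_zpowers_of_comm hrx (mul_inv_eq_iff_eq_mul.1 e3).symm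
    exact orderOf_eq_one_iff.1 (Nat.eq_one_of_dvd_coprimes hR6 (Subgroup.orderOf_dvd_natCard R hr)
      (h.ord ▸ orderOf_dvd_of_mem_zpowers hrt))
  have h5 := card_mod_three_of_fpf h.x_cube hRx hall
  rw [hR5] at h5
  omega

variable [IsSimpleGroup G]

/-- The radical is `⟨z⟩`. -/
theorem card_E (hna : ¬ IsMulCommutative G) : Nat.card D.E = 2 := by
  classical
  haveI : Fact (Nat.Prime 2) := ⟨Nat.prime_two⟩
  by_contra h2
  obtain ⟨S, hS, hES, hxS, hcard, f, hf, hker, -, c₀, hc₀S, hc₀⟩ := D.exists_sylow h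
  have hzS := h.z_mem_sylow hS
  have q : QHyp t (S : Subgroup G) := ⟨h, S.2, hS, hzS, hxS⟩
  have hxN : t ^ 2 ∈ normalizer ((S : Subgroup G) : Set G) := mem_norm hxS
  have hV : ∀ a ∈ (S : Subgroup G), a * a = 1 → (∀ b ∈ (S : Subgroup G), b * a = a * b) → a = 1 ∨ a = t ^ 3 := by
    by_contra hV
    push Not at hV
    obtain ⟨a, haS, ha2, hac, ha1, haz⟩ := hV
    obtain ⟨g, hg⟩ := isConj_iff.1 (h.one (t ^ 3) a h.orderOf_z (Invol.orderOf_eq_two_of ha1 ha2))
    obtain ⟨n, hnS, hn⟩ := exists_normalizer_conj S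
      (fun s hs => mem_centralizer_singleton_iff.1 (hS hs)) hac hg
    exact h2 (D.card_two h hS hxS hcard (M := normalizer ((S : Subgroup G) : Set G)) le_normalizer hxN
      le_normalizer (fun m hm k hk => (mem_normalizer_iff.1 hm k).1 hk) S.2 hzS
      ⟨n, mem_norm hnS, fun e => haz (by rw [← hn, e, mul_inv_cancel_right])⟩)
  rcases q.exists_u hV with ⟨u, hu, hu2, hu1, huz, huc⟩ | hQ | ⟨-, huniq⟩
  rotate_left
  · rw [hQ, Nat.card_zpowers, h.orderOf_z] at hcard
    omega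
  · exact not_unique_involution hna S h.orderOf_z huniq
  obtain ⟨P⟩ := h.exists_parab S hS hV (D.not_nine h) hu hu2 hu1 huz huc
  have hchar : ∀ K : Subgroup G, K ≤ (S : Subgroup G) → K ≠ ⊥ →
      (∀ g : G, (∀ s ∈ (S : Subgroup G), g * s * g⁻¹ ∈ (S : Subgroup G)) → ∀ k ∈ K, g * k * g⁻¹ ∈ K) →
      ¬ ∀ a ∈ P.X, ∀ k ∈ K, a * k * a⁻¹ ∈ K := by
    intro K hKS hK1 hKchar hKX
    have hSK : ∀ s ∈ (S : Subgroup G), s ∈ normalizer (K : Set G) := fun s hs =>
      mem_norm (hKchar s fun s' hs' => mul_mem (mul_mem hs hs') (inv_mem hs))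
    obtain ⟨e, heK, he2, he1, hec⟩ := LenEight.exists_fixed_involution S.2 hKS hK1 hSK
    have hzK : t ^ 3 ∈ K := by
      rcases hV e (hKS heK) he2 hec with r | r
      · exact absurd r he1
      · exact r ▸ heK
    obtain ⟨y, hy, hyz⟩ := P.move
    exact h2 (D.card_two h hS hxS hcard (M := normalizer (K : Set G)) hSK (mem_norm (hKchar _ hxS))
      le_normalizer (fun m hm k hk => (mem_normalizer_iff.1 hm k).1 hk) (S.2.to_le hKS) hzK
      ⟨y, mem_norm (hKX y hy), hyz⟩)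
  have hclass := (q.of_class_two hV (P.class_two hchar)).2
  -- the centraliser of `E` modulo `⟨z⟩`
  have hZc : ∀ g : ↥(Cz), ∀ w ∈ zpowers (t ^ 3), (g : G) * w * (g : G)⁻¹ = w := by
    intro g w hw
    rcases q.mem_zz.1 hw with rfl | rfl
    · group
    · rw [mem_centralizer_singleton_iff.1 g.2, mul_inv_cancel_right]
  let N : Subgroup ↥(Cz) :=
    { carrier := {c | ∀ e ∈ D.E, (c : G) * e * (c : G)⁻¹ * e⁻¹ ∈ zpowers (t ^ 3)}
      one_mem' := fun e _ => by simp
      mul_mem' := by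
        intro c d hc hd e he
        rw [Subgroup.coe_mul, show (c : G) * d * e * ((c : G) * d)⁻¹ * e⁻¹ =
          (c : G) * ((d : G) * e * (d : G)⁻¹ * e⁻¹) * (c : G)⁻¹ * ((c : G) * e * (c : G)⁻¹ * e⁻¹) by group,
          hZc c _ (hd e he)]
        exact mul_mem (hd e he) (hc e he)
      inv_mem' := by
        intro c hc e he
        have := inv_mem (hc _ (D.E_norm _ (inv_mem c.2) e he))
        rw [InvMemClass.coe_inv, inv_inv]
        rwa [show ((c : G) * ((c : G)⁻¹ * e * (c : G)⁻¹⁻¹) * (c : G)⁻¹ * ((c : G)⁻¹ * e * (c : G)⁻¹⁻¹)⁻¹)⁻¹ =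
          (c : G)⁻¹ * e * c * e⁻¹ by group] at this }
  haveI hNn : N.Normal := ⟨fun c hc g e he => by
    have := hc _ (D.E_norm _ (inv_mem g.2) e he)
    rw [← hZc g _ this] at this
    rw [Subgroup.coe_mul, Subgroup.coe_mul, InvMemClass.coe_inv]
    rwa [show (g : G) * ((c : G) * ((g : G)⁻¹ * e * (g : G)⁻¹⁻¹) * (c : G)⁻¹ * ((g : G)⁻¹ * e * (g : G)⁻¹⁻¹)⁻¹) * (g : G)⁻¹ =
      (g : G) * c * (g : G)⁻¹ * e * ((g : G) * c * (g : G)⁻¹)⁻¹ * e⁻¹ by group] at this⟩
  have hSN : ∀ c : ↥(Cz), (c : G) ∈ (S : Subgroup G) → c ∈ N := fun c hc e he =>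
    q.mem_zz.2 (hclass _ hc e (hES he))
  have hmap : N.map f = ⊤ := by
    haveI : IsSimpleGroup Recog.CentFour.A5 := alternatingGroup.isSimpleGroup_five
    exact ((hNn.map f hf).eq_bot_or_eq_top).resolve_left fun e => hc₀ (by
      have := mem_map_of_mem f (hSN c₀ hc₀S)
      rwa [e, mem_bot] at this)
  have hNtop : N = ⊤ := by
    have hkN : f.ker ≤ N := by
      rw [hker]
      exact fun c hc => hSN c (hES hc)
    rw [← comap_map_eq_self hkN, hmap, comap_top]
  have hEZ : D.E ≤ zpowers (t ^ 3) := fun e he =>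
    q.mem_zz_of_fixed_mod (hES he) ((hNtop.ge (mem_top (⟨t ^ 2, h.x_mem_cen⟩ : ↥(Cz)))) e he)
  have := card_le_of_le hEZ
  rw [Nat.card_zpowers, h.orderOf_z] at this
  obtain ⟨k, hk, -⟩ := D.card_eq h
  rcases k with _ | k
  · rw [pow_zero] at hk
    have := card_eq_one.1 hk ▸ D.z_mem
    exact h.z_ne (mem_bot.1 this)
  · rw [pow_succ] at hk
    have := Nat.two_pow_pos k
    omega

/-- The group is the first Janko group. -/
theorem isoJ1 (hna : ¬ IsMulCommutative G) : Cfsg.Spor.IsoJ1 G := by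
  classical
  haveI : Fact (Nat.Prime 2) := ⟨Nat.prime_two⟩
  have hE2 := D.card_E h hna
  obtain ⟨S, hS, hES, hxS, hcard, f, hf, hker, hf2, -⟩ := D.exists_sylow h
  have hEz : D.E = zpowers (t ^ 3) :=
    (eq_of_le_of_card_ge (zpowers_le.2 D.z_mem) (by rw [hE2, Nat.card_zpowers, h.orderOf_z])).symm
  set zc : ↥(Cz) := ⟨t ^ 3, mem_centralizer_singleton_iff.2 rfl⟩ with hzc
  have hker' : ∀ c, f c = 1 ↔ (c : G) = 1 ∨ (c : G) = t ^ 3 := by
    intro c
    rw [← MonoidHom.mem_ker, hker, mem_subgroupOf, hEz]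
    exact (QHyp.mem_zz ⟨h, S.2, hS, h.z_mem_sylow hS, hxS⟩)
  obtain ⟨a, haS, ha2, ha1, haz⟩ : ∃ a ∈ (S : Subgroup G), a * a = 1 ∧ a ≠ 1 ∧ a ≠ t ^ 3 := by
    by_contra hh
    push Not at hh
    exact not_unique_involution hna S h.orderOf_z fun a ha ha2 => (em (a = 1)).imp_right fun h1 => hh a ha ha2 h1
  have hlift : ∀ c : ↥(Cz), f c ^ 2 = 1 → c ^ 2 = 1 := fun c hc =>
    sq_eq_one_of_lift h f hf hker' Recog.CentFour.a5_conj (a := ⟨a, hS haS⟩)
      (Subtype.ext (by rw [SubmonoidClass.coe_pow, pow_two]; exact ha2))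
      (fun e => ((hker' _).1 e).elim ha1 haz) hc
  have hsq : ∀ s ∈ (S : Subgroup G), s * s = 1 := fun s hs => by
    have := congrArg Subtype.val (hlift ⟨s, hS hs⟩ (hf2 _ hs))
    rw [SubmonoidClass.coe_pow, pow_two] at this
    exact this
  haveI hScomm : IsMulCommutative (S : Subgroup G) := ⟨⟨fun b c => Subtype.ext (by
    have e1 := hsq _ b.2
    have e2 := hsq _ c.2
    have e3 := hsq _ (mul_mem b.2 c.2)
    show (b : G) * c = c * b
    calc (b : G) * c = ((b : G) * c)⁻¹ := eq_inv_of_mul_eq_one_left e3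
      _ = (c : G)⁻¹ * (b : G)⁻¹ := mul_inv_rev _ _
      _ = _ := by rw [← eq_inv_of_mul_eq_one_left e1, ← eq_inv_of_mul_eq_one_left e2])⟩⟩
  have h8 : Nat.card (S : Subgroup G) = 8 := by rw [hcard, hE2]
  -- a section over `A₅`
  obtain ⟨e⟩ := Recog.Icosa.iso_presented_five
  have hgenlift : ∀ (n : ℕ) (y : Recog.CentFour.A5), Odd n → y ^ n = 1 → ∃ c : ↥(Cz), f c = y ∧ c ^ n = 1 := by
    intro n y hn hy
    obtain ⟨c, hc⟩ := hf y
    refine ⟨c ^ (n + 1), by rw [map_pow, hc, pow_succ, hy, one_mul], ?_⟩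
    have hk : f (c ^ n) = 1 := by rw [map_pow, hc, hy]
    obtain ⟨m, hm⟩ := hn
    rw [← pow_mul, mul_comm, pow_mul, show n + 1 = 2 * (m + 1) by omega, pow_mul,
      hlift _ (by rw [hk, one_pow]), one_pow]
  have hrel : ∀ r ∈ Recog.Icosa.rels5, e (PresentedGroup.mk _ r) = 1 := fun r hr => by
    rw [PresentedGroup.one_of_mem hr, map_one]
  obtain ⟨a', ha', ha3⟩ := hgenlift 3 (e (PresentedGroup.of 0)) ⟨1, rfl⟩ (by
    rw [← map_pow]; exact hrel _ (Or.inl rfl))
  obtain ⟨b', hb', hb5⟩ := hgenlift 5 (e (PresentedGroup.of 1)) ⟨2, rfl⟩ (by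
    rw [← map_pow]; exact hrel _ (Or.inr (Or.inl rfl)))
  have hab : (a' * b') ^ 2 = 1 := hlift _ (by
    rw [map_mul, ha', hb', ← map_mul, ← map_pow]; exact hrel _ (Or.inr (Or.inr rfl)))
  have hu : ∀ r ∈ Recog.Icosa.rels5, FreeGroup.lift ![a', b'] r = 1 := by
    rintro r (rfl | rfl | rfl) <;> simp only [map_pow, map_mul, FreeGroup.lift_apply_of, Matrix.cons_val_zero,
      Matrix.cons_val_one] <;> assumption
  set s : Recog.CentFour.A5 →* ↥(Cz) := (PresentedGroup.toGroup hu).comp e.symm.toMonoidHom with hs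
  have hfs : ∀ y, f (s y) = y := by
    have h1 : f.comp (PresentedGroup.toGroup hu) = e.toMonoidHom := PresentedGroup.ext fun i => by
      rw [MonoidHom.comp_apply, PresentedGroup.toGroup.of, MulEquiv.coe_toMonoidHom]
      fin_cases i
      · exact ha'
      · exact hb'
    intro y
    have := DFunLike.congr_fun h1 (e.symm y)
    simpa [hs] using this
  have hzc2 : orderOf zc = 2 := by rw [← Subgroup.orderOf_coe]; exact h.orderOf_z
  let eι : Multiplicative (ZMod 2) ≃* zpowers zc :=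
    mulEquivOfPrimeCardEq (p := 2) (by simp) (by rw [Nat.card_zpowers, hzc2])
  set ι : Multiplicative (ZMod 2) →* ↥(Cz) := (zpowers zc).subtype.comp eι.toMonoidHom with hι
  have hιcomm : ∀ i y, Commute (ι i) (s y) := by
    intro i y
    obtain ⟨j, hj⟩ := mem_zpowers_iff.1 (eι i).2
    show Commute ((eι i : zpowers zc) : ↥(Cz)) (s y)
    rw [← hj]
    exact (show Commute zc (s y) from Subtype.ext (mem_centralizer_singleton_iff.1 (s y).2).symm).zpow_left j
  have hfι : ∀ i, f (ι i) = 1 := by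
    intro i
    obtain ⟨j, hj⟩ := mem_zpowers_iff.1 (eι i).2
    show f ((eι i : zpowers zc) : ↥(Cz)) = 1
    rw [← hj, map_zpow, (hker' zc).2 (Or.inr rfl), one_zpow]
  set φ : Multiplicative (ZMod 2) × Recog.CentFour.A5 →* ↥(Cz) := MonoidHom.noncommCoprod ι s hιcomm with hφ
  have hφapp : ∀ p, φ p = ι p.1 * s p.2 := fun p => MonoidHom.noncommCoprod_apply _ _ _ _
  have hbij : Function.Bijective φ := by
    constructor
    · rw [injective_iff_map_eq_one]
      rintro ⟨i, y⟩ hp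
      rw [hφapp] at hp
      have hy : y = 1 := by
        have := congrArg f hp
        rwa [map_mul, hfι, hfs, one_mul, map_one] at this
      subst hy
      rw [map_one, mul_one] at hp
      have : eι i = 1 := Subtype.ext hp
      rw [eι.map_eq_one_iff.1 this]; rfl
    · intro c
      have hk : f (c * (s (f c))⁻¹) = 1 := by rw [map_mul, map_inv, hfs, mul_inv_cancel]
      have hm : c * (s (f c))⁻¹ ∈ zpowers zc := by
        rcases (hker' _).1 hk with e' | e'
        · rw [show c * (s (f c))⁻¹ = 1 from Subtype.ext e']; exact one_mem _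
        · rw [show c * (s (f c))⁻¹ = zc from Subtype.ext e']; exact mem_zpowers _
      refine ⟨(eι.symm ⟨_, hm⟩, f c), ?_⟩
      rw [hφapp]
      show ((eι (eι.symm ⟨_, hm⟩) : zpowers zc) : ↥(Cz)) * s (f c) = c
      rw [eι.apply_symm_apply, inv_mul_cancel_right]
  exact Cfsg.Agent.S1644.result S hScomm h8 (t ^ 3) h.orderOf_z (MulEquiv.ofBijective φ hbij).symm

end Alt

theorem fact_seven : Fact (Nat.Prime 7) := ⟨by norm_num⟩

attribute [local instance] fact_seven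

/-- The centraliser is not an extension by `PSL(2, 7)`. -/
theorem Hyp.not_psl_seven [IsSimpleGroup G] (h : Hyp t) (hna : ¬ IsMulCommutative G)
    (f : ↥(Cz) →* Matrix.ProjectiveSpecialLinearGroup (Fin 2) (ZMod 7)) (hf : Function.Surjective f)
    (hk : Nat.card f.ker = 2) : False := by
  classical
  haveI : Fact (Nat.Prime 2) := ⟨Nat.prime_two⟩
  obtain ⟨⟨k, hkk⟩, hk2⟩ := exists_prime_orderOf_dvd_card' (G := f.ker) 2 (dvd_of_eq hk.symm)
  rw [Subgroup.orderOf_mk] at hk2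
  have hkz : (k : G) = t ^ 3 := by
    -- a normal subgroup of order two is central
    have hcen : ∀ c : ↥(Cz), c * k * c⁻¹ = k := by
      intro c
      have hm : c * k * c⁻¹ ∈ f.ker := (MonoidHom.normal_ker f).conj_mem k hkk c
      have heq : zpowers k = f.ker := eq_of_le_of_card_ge (zpowers_le.2 hkk) (by rw [hk, Nat.card_zpowers, hk2])
      rw [← heq] at hm
      obtain ⟨j, hj⟩ := mem_zpowers_iff.1 hm
      rw [← zpow_mod_orderOf, hk2] at hj
      rcases (show j % 2 = 0 ∨ j % 2 = 1 by omega) with e | e <;>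
        rw [show ((2 : ℕ) : ℤ) = 2 from rfl, e] at hj
      · exfalso
        rw [zpow_zero] at hj
        have h1 : k = 1 := by
          have := (eq_mul_inv_iff_mul_eq.1 hj)
          rwa [one_mul, eq_comm, mul_eq_left] at this
        rw [h1, orderOf_one] at hk2
        omega
      · rw [zpow_one] at hj
        exact hj.symm
    refine h.eq_z_of_fixed (by rw [Subgroup.orderOf_coe, hk2]) ?_ (mem_centralizer_singleton_iff.1 k.2).symm
    have := congrArg Subtype.val (mul_inv_eq_iff_eq_mul.1 (hcen ⟨t ^ 2, h.x_mem_cen⟩))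
    exact this
  have hker' : ∀ c, f c = 1 ↔ (c : G) = 1 ∨ (c : G) = t ^ 3 := by
    intro c
    constructor
    · intro hc
      have heq : zpowers k = f.ker := eq_of_le_of_card_ge (zpowers_le.2 hkk) (by rw [hk, Nat.card_zpowers, hk2])
      obtain ⟨j, hj⟩ := mem_zpowers_iff.1 (heq.ge (MonoidHom.mem_ker.2 hc))
      rw [← zpow_mod_orderOf, hk2] at hj
      rcases (show j % 2 = 0 ∨ j % 2 = 1 by omega) with e | e <;>
        rw [show ((2 : ℕ) : ℤ) = 2 from rfl, e] at hj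
      · rw [zpow_zero] at hj; subst hj; exact Or.inl rfl
      · rw [zpow_one] at hj; subst hj; exact Or.inr hkz
    · rintro (e | e)
      · rw [show c = 1 from Subtype.ext e, map_one]
      · rw [show c = k from Subtype.ext (e.trans hkz.symm)]; exact hkk
  obtain ⟨S, hS⟩ := h.exists_sylow
  obtain ⟨a, haS, ha2, ha1, haz⟩ : ∃ a ∈ (S : Subgroup G), a * a = 1 ∧ a ≠ 1 ∧ a ≠ t ^ 3 := by
    by_contra hh
    push Not at hh
    exact not_unique_involution hna S h.orderOf_z fun a ha ha2 => (em (a = 1)).imp_right fun h1 => hh a ha ha2 h1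
  have hconj : ∀ x y : Matrix.ProjectiveSpecialLinearGroup (Fin 2) (ZMod 7), x ^ 2 = 1 → x ≠ 1 → y ^ 2 = 1 →
      y ≠ 1 → ∃ d, d * x * d⁻¹ = y := fun x y hx hx1 hy hy1 => by
    obtain ⟨d, hd⟩ := Dickson.exists_conj_involution (by rw [ZMod.card]) hx hx1 hy hy1
    exact ⟨d⁻¹, by rw [inv_inv]; exact hd⟩
  have hlift : ∀ c : ↥(Cz), f c ^ 2 = 1 → c ^ 2 = 1 := fun c hc =>
    sq_eq_one_of_lift h f hf hker' hconj (a := ⟨a, hS haS⟩)
      (Subtype.ext (by rw [SubmonoidClass.coe_pow, pow_two]; exact ha2))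
      (fun e => ((hker' _).1 e).elim ha1 haz) hc
  -- an element of order four
  let A : Matrix.SpecialLinearGroup (Fin 2) (ZMod 7) := ⟨!![0, -1; 1, 3], by rw [Matrix.det_fin_two_of]; decide⟩
  obtain ⟨c, hc⟩ := hf (QuotientGroup.mk A)
  have hc4 : f c ^ 4 = 1 := by
    rw [hc, ← QuotientGroup.mk_pow]
    refine (QuotientGroup.eq_one_iff _).2 (Matrix.SpecialLinearGroup.mem_center_iff.2 ⟨-1, by decide, ?_⟩)
    decide +kernel
  have hc2 : f c ^ 2 ≠ 1 := by
    rw [hc, ← QuotientGroup.mk_pow]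
    intro e
    obtain ⟨r, -, hr⟩ := Matrix.SpecialLinearGroup.mem_center_iff.1 ((QuotientGroup.eq_one_iff _).1 e)
    have h01 := congrFun (congrFun hr 0) 1
    revert h01
    rw [show (↑(A ^ 2) : Matrix (Fin 2) (Fin 2) (ZMod 7)) 0 1 = 4 by decide +kernel]
    simp only [Matrix.scalar_apply, Matrix.diagonal_apply_ne _ (show (0 : Fin 2) ≠ 1 by decide)]
    decide
  have h1 : (c ^ 2) ^ 2 = 1 := hlift _ (by rw [map_pow, ← pow_mul]; exact hc4)
  set w : G := (c : G) * c with hw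
  have hwne : w ≠ 1 := fun e => hc2 (by
    rw [← map_pow, show c ^ 2 = 1 from Subtype.ext (by rw [SubmonoidClass.coe_pow, pow_two]; exact e), map_one])
  have hw2 : w * w = 1 := by
    have := congrArg Subtype.val h1
    rw [SubmonoidClass.coe_pow, SubmonoidClass.coe_pow, pow_two, pow_two] at this
    exact this
  obtain ⟨g, hg⟩ := isConj_iff.1 (h.one w (t ^ 3) (Invol.orderOf_eq_two_of hwne hw2) h.orderOf_z)
  set d : G := g * c * g⁻¹ with hd
  have hdd : d * d = t ^ 3 := by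
    rw [← hg, hd, hw]; group
  have hdC : d ∈ Cz := mem_centralizer_singleton_iff.2 (by rw [← hdd]; exact (mul_assoc _ _ _).symm)
  have h2 : (⟨d, hdC⟩ : ↥(Cz)) ^ 2 = 1 := hlift _ (by
    rw [← map_pow]
    exact (hker' _).2 (Or.inr (by rw [SubmonoidClass.coe_pow, pow_two]; exact hdd)))
  have := congrArg Subtype.val h2
  rw [SubmonoidClass.coe_pow, pow_two, OneMemClass.coe_one] at this
  exact h.z_ne (hdd ▸ this)

end Cfsg.Lib.OrderSixCHZ
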