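import Cfsg.Agent.Lib.OrderSixCHZ.Basic
import Cfsg.Agent.S0016
import Cfsg.Agent.S0201
import Cfsg.Agent.Lib.AlmostCyc.Simple
import Cfsg.Agent.Lib.ZStar.Basic

/-!
# Facts on a nonabelian simple group with such an element
-/

set_option autoImplicit false
set_option linter.style.haveILetI false
set_option linter.unusedSectionVars false

namespace Cfsg.Lib.OrderSixCHZ

open Subgroup
open scoped Pointwise

universe u

variable {G : Type u} [Group G] [Finite G]

/-- Two elements of the centre of a Sylow subgroup that are conjugate are conjugate in its normaliser. -/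
theorem exists_normalizer_conj {p : ℕ} [Fact p.Prime] (S : Sylow p G) {x y g : G}
    (hx : ∀ s ∈ (S : Subgroup G), s * x = x * s) (hy : ∀ s ∈ (S : Subgroup G), s * y = y * s)
    (hg : g * x * g⁻¹ = y) :
    ∃ n : G, (∀ s ∈ (S : Subgroup G), n * s * n⁻¹ ∈ (S : Subgroup G)) ∧ n * x * n⁻¹ = y := by
  set C := centralizer ({y} : Set G)
  have h1 : (S : Subgroup G) ≤ C := fun s hs => mem_centralizer_singleton_iff.2 (hy s hs)
  have h2 : ((MulAut.conj g • S : Sylow p G) : Subgroup G) ≤ C := by
    intro a ha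
    change a ∈ MulAut.conj g • (S : Subgroup G) at ha
    rw [Subgroup.mem_smul_pointwise_iff_exists] at ha
    obtain ⟨s, hs, rfl⟩ := ha
    rw [mem_centralizer_singleton_iff, ← hg]
    show g * s * g⁻¹ * (g * x * g⁻¹) = g * x * g⁻¹ * (g * s * g⁻¹)
    rw [show g * s * g⁻¹ * (g * x * g⁻¹) = g * (s * x) * g⁻¹ by group, hx s hs]
    group
  obtain ⟨c, hc⟩ := MulAction.exists_smul_eq C ((MulAut.conj g • S).subtype h2) (S.subtype h1)
  refine ⟨(c : G) * g, fun s hs => ?_, ?_⟩
  · have hm : (⟨g * s * g⁻¹, h2 (Subgroup.smul_mem_pointwise_smul s (MulAut.conj g) _ hs)⟩ : C) ∈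
        (((MulAut.conj g • S).subtype h2 : Sylow p C) : Subgroup C) :=
      Subgroup.smul_mem_pointwise_smul s (MulAut.conj g) _ hs
    have := Subgroup.smul_mem_pointwise_smul _ (MulAut.conj c) _ hm
    have hc' : MulAut.conj c • (((MulAut.conj g • S).subtype h2 : Sylow p C) : Subgroup C) =
        ((S.subtype h1 : Sylow p C) : Subgroup C) := by rw [← hc]; rfl
    rw [hc'] at this
    have h3 : (c : G) * (g * s * g⁻¹) * (c : G)⁻¹ ∈ (S : Subgroup G) := this
    rwa [show (c : G) * g * s * ((c : G) * g)⁻¹ = (c : G) * (g * s * g⁻¹) * (c : G)⁻¹ by group]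
  · rw [show (c : G) * g * x * ((c : G) * g)⁻¹ = (c : G) * (g * x * g⁻¹) * (c : G)⁻¹ by group, hg,
      mem_centralizer_singleton_iff.1 c.2, mul_inv_cancel_right]

variable [IsSimpleGroup G]

theorem oddCore_bot_of_involution {z : G} (hz : orderOf z = 2) : Cfsg.oddCore G = ⊥ :=
  ((inferInstance : (Cfsg.oddCore G).Normal).eq_bot_or_eq_top).resolve_right fun e =>
    ZStar.notMem_oddCore hz (e ▸ mem_top z)

theorem center_bot (hna : ¬ IsMulCommutative G) : center G = ⊥ :=
  ((inferInstance : (center G).Normal).eq_bot_or_eq_top).resolve_right fun e =>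
    hna ⟨⟨fun a b => (mem_center_iff.1 (e ▸ mem_top a : a ∈ center G) b).symm⟩⟩

theorem index_ne_two (hna : ¬ IsMulCommutative G) (H : Subgroup G) : H.index ≠ 2 := by
  intro hi
  haveI := normal_of_index_eq_two hi
  rcases (inferInstance : H.Normal).eq_bot_or_eq_top with e | e
  · subst e
    rw [index_bot] at hi
    haveI : Fact (Nat.Prime 2) := ⟨Nat.prime_two⟩
    haveI := isCyclic_of_prime_card (p := 2) hi
    exact hna ⟨⟨fun a b => (IsCyclic.commGroup (α := G)).mul_comm a b⟩⟩
  · rw [e, index_top] at hi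
    omega

/-- A Sylow 2-subgroup has a second involution. -/
theorem not_unique_involution (hna : ¬ IsMulCommutative G) (S : Sylow 2 G) {z : G} (hz : orderOf z = 2)
    (huniq : ∀ a ∈ (S : Subgroup G), a * a = 1 → a = 1 ∨ a = z) : False := by
  haveI : Fact (Nat.Prime 2) := ⟨Nat.prime_two⟩
  have hu : ∀ H K : Subgroup (S : Subgroup G), Nat.card H = 2 → Nat.card K = 2 → H = K := by
    have key : ∀ H : Subgroup (S : Subgroup G), Nat.card H = 2 → ∃ a : (S : Subgroup G), (a : G) = z ∧ H = zpowers a := by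
      intro H hH
      obtain ⟨a, ha⟩ := exists_prime_orderOf_dvd_card' (G := H) 2 (dvd_of_eq hH.symm)
      have ha2 : orderOf ((a : (S : Subgroup G)) : G) = 2 := by rw [orderOf_coe, orderOf_coe, ha]
      refine ⟨a, (huniq _ (a : (S : Subgroup G)).2 ?_).resolve_left (Invol.ne_one ha2),
        (eq_of_le_of_card_ge (zpowers_le.2 a.2) (by rw [hH, Nat.card_zpowers, Subgroup.orderOf_coe, ha])).symm⟩
      have h := pow_orderOf_eq_one ((a : (S : Subgroup G)) : G); rw [ha2, pow_two] at h; exact h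
    intro H K hH hK
    obtain ⟨a, ha, rfl⟩ := key H hH
    obtain ⟨b, hb, rfl⟩ := key K hK
    rw [Subtype.ext (ha.trans hb.symm)]
  rcases Cfsg.Agent.S0016.result 2 S.2 hu with hc | ⟨-, n, ⟨e⟩⟩
  · exact AlmostCyc.not_isCyclic_sylow hna S hc
  · rcases n with _ | n
    · exact AlmostCyc.not_isCyclic_sylow hna S
        (e.isCyclic.2 (by simpa using QuaternionGroup.quaternionGroup_one_isCyclic))
    have hO : ∀ N : Subgroup G, N.Normal → Odd (Nat.card N) → N = ⊥ := fun N hN ho =>
      le_bot_iff.1 ((ZStar.le_oddCore hN ho).trans (le_of_eq (oddCore_bot_of_involution hz)))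
    have h2 := Cfsg.Agent.S0201.result S n e hO
    rw [center_bot hna, card_bot] at h2
    omega

end Cfsg.Lib.OrderSixCHZ
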