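import Cfsg.Agent.Lib.OrderSixCHZ.Moving
import Cfsg.Agent.Lib.OrderSixCHZ.Simple
import Cfsg.Agent.Lib.Linear.PSLSmall

/-!
# The second parabolic: a subgroup `X` over the Sylow subgroup with `X/D ≅ S₃` moving `z`
-/

set_option autoImplicit false
set_option linter.style.haveILetI false
set_option linter.unusedSectionVars false

namespace Cfsg.Lib.OrderSixCHZ

open Subgroup
open scoped Pointwise

universe u

variable {G : Type u} [Group G] [Finite G] {t : G}

theorem psl_two_two_equiv : Nonempty (Matrix.ProjectiveSpecialLinearGroup (Fin 2) (ZMod 2) ≃* Equiv.Perm (Fin 3)) := by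
  obtain ⟨e⟩ := Linear.Two.sl_equiv_perm (F := ZMod 2) (ZMod.card 2)
  have hc := Linear.Two.card_PSL_two (F := ZMod 2)
  rw [ZMod.card] at hc
  norm_num at hc
  have hs : Nat.card (Matrix.SpecialLinearGroup (Fin 2) (ZMod 2)) = 6 := by
    rw [Nat.card_congr e.toEquiv, Nat.card_perm, Nat.card_fin]; rfl
  have hb : Function.Bijective
      (QuotientGroup.mk' (Subgroup.center (Matrix.SpecialLinearGroup (Fin 2) (ZMod 2)))) :=
    (Nat.bijective_iff_surjective_and_card _).2 ⟨QuotientGroup.mk'_surjective _, hs.trans (hc.symm.trans Nat.card_eq_fintype_card.symm)⟩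
  exact ⟨(MulEquiv.ofBijective _ hb).symm.trans e⟩

set_option synthInstance.maxSize 1024 in
theorem perm_three_invol : ∀ a : Equiv.Perm (Fin 3), a * a = 1 → a ≠ 1 →
    ∃ b : Equiv.Perm (Fin 3), (b * a * b⁻¹ * a) * (b * a * b⁻¹ * a) ≠ 1 ∧
      ((b * a * b⁻¹ * a) * (b * a * b⁻¹ * a)) * (b * a * b⁻¹ * a) = 1 := by
  decide +kernel

/-- The second parabolic. -/
structure Parab (t : G) (S : Subgroup G) (u : G) where
  X : Subgroup G
  sylow_le : S ≤ X
  le_norm : ∀ a ∈ X, ∀ d ∈ S ⊓ centralizer ({u} : Set G), a * d * a⁻¹ ∈ S ⊓ centralizer ({u} : Set G)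
  card_eq : Nat.card X = 3 * Nat.card S
  cardD : 2 * Nat.card ↥(S ⊓ centralizer ({u} : Set G)) = Nat.card S
  move : ∃ y ∈ X, y * t ^ 3 ≠ t ^ 3 * y
  self : ∀ a ∈ X, (∀ d ∈ S ⊓ centralizer ({u} : Set G), a * d = d * a) → a ∈ S ⊓ centralizer ({u} : Set G)
  core : Cfsg.pCore 2 X = (S ⊓ centralizer ({u} : Set G)).subgroupOf X
  quot : Nonempty (X ⧸ Cfsg.pCore 2 X ≃* Equiv.Perm (Fin 3))

namespace Hyp

variable (h : Hyp t)
include h

/-- The parabolic over a Sylow subgroup `S` and a noncentral involution `u`. -/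
theorem exists_parab (S : Sylow 2 G) (hS : (S : Subgroup G) ≤ centralizer ({t ^ 3} : Set G))
    (hV : ∀ a ∈ (S : Subgroup G), a * a = 1 → (∀ b ∈ (S : Subgroup G), b * a = a * b) → a = 1 ∨ a = t ^ 3)
    (h3 : ¬ 9 ∣ Nat.card ↥(centralizer ({t ^ 3} : Set G)))
    {u : G} (huS : u ∈ (S : Subgroup G)) (hu : u * u = 1) (hu1 : u ≠ 1) (huz : u ≠ t ^ 3)
    (huc : ∀ b ∈ (S : Subgroup G), b * u * b⁻¹ = u ∨ b * u * b⁻¹ = u * t ^ 3) :
    Nonempty (Parab t (S : Subgroup G) u) := by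
  classical
  haveI : Fact (Nat.Prime 2) := ⟨Nat.prime_two⟩
  haveI : Fact (Nat.Prime 3) := ⟨Nat.prime_three⟩
  set z := t ^ 3 with hz
  set D : Subgroup G := (S : Subgroup G) ⊓ centralizer ({u} : Set G) with hD
  have hzS : z ∈ (S : Subgroup G) := h.z_mem_sylow hS
  have hzc : ∀ s ∈ (S : Subgroup G), s * z = z * s := fun s hs => mem_centralizer_singleton_iff.1 (hS hs)
  have huo : orderOf u = 2 := Invol.orderOf_eq_two_of hu1 hu
  have hzu : z * u = u * z := (hzc u huS).symm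
  have hDS : D ≤ (S : Subgroup G) := inf_le_left
  have hzD : z ∈ D := ⟨hzS, mem_centralizer_singleton_iff.2 hzu⟩
  have huD : u ∈ D := ⟨huS, mem_centralizer_singleton_iff.2 rfl⟩
  -- `u` is not central in `S`
  obtain ⟨b, hbS, hb⟩ : ∃ b ∈ (S : Subgroup G), b * u * b⁻¹ = u * z := by
    by_contra hcon
    push Not at hcon
    rcases hV u huS hu fun b hb => mul_inv_eq_iff_eq_mul.1 ((huc b hb).resolve_right (hcon b hb)) with e | e
    · exact hu1 e
    · exact huz e
  have hbD : b ∉ D := fun hb' => h.z_ne (by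
    have e : b * u * b⁻¹ = u := mul_inv_eq_iff_eq_mul.2 (mem_centralizer_singleton_iff.1 hb'.2)
    exact (mul_eq_left.1 (hb.symm.trans e)))
  have hindex : (D.subgroupOf (S : Subgroup G)).index = 2 := by
    rw [index_eq_two_iff]
    refine ⟨⟨b, hbS⟩, fun a => ?_⟩
    have hmem : ∀ c : G, c ∈ (S : Subgroup G) → (c ∈ D ↔ c * u * c⁻¹ = u) := fun c hc =>
      ⟨fun hc' => mul_inv_eq_iff_eq_mul.2 (mem_centralizer_singleton_iff.1 hc'.2),
        fun e => ⟨hc, mem_centralizer_singleton_iff.2 (mul_inv_eq_iff_eq_mul.1 e)⟩⟩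
    simp only [mem_subgroupOf, Subgroup.coe_mul]
    have e1 : (a : G) * b * u * ((a : G) * b)⁻¹ = ((a : G) * u * (a : G)⁻¹) * z := by
      rw [show (a : G) * b * u * ((a : G) * b)⁻¹ = (a : G) * (b * u * b⁻¹) * (a : G)⁻¹ by group, hb,
        show (a : G) * (u * z) * (a : G)⁻¹ = (a : G) * u * (a : G)⁻¹ * ((a : G) * z * (a : G)⁻¹) by group,
        hzc a a.2, mul_inv_cancel_right]
    rcases huc a a.2 with e | e
    · refine Or.inr ⟨(hmem a a.2).2 e, fun hab => h.z_ne ?_⟩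
      rw [hmem _ (mul_mem a.2 hbS), e1, e] at hab
      exact mul_eq_left.1 hab
    · refine Or.inl ⟨(hmem _ (mul_mem a.2 hbS)).2 ?_, fun ha => h.z_ne ?_⟩
      · rw [e1, e, mul_assoc, h.z_sq, mul_one]
      · rw [hmem _ a.2, e] at ha
        exact mul_eq_left.1 ha
  have hcardD : 2 * Nat.card D = Nat.card (S : Subgroup G) := by
    have := card_mul_index (D.subgroupOf (S : Subgroup G))
    rw [hindex, Nat.card_congr (subgroupOfEquivOfLe hDS).toEquiv] at this
    omega
  have hDn : ∀ s ∈ (S : Subgroup G), ∀ d ∈ D, s * d * s⁻¹ ∈ D := by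
    intro s hs d hd
    haveI := normal_of_index_eq_two hindex
    exact (inferInstance : (D.subgroupOf (S : Subgroup G)).Normal).conj_mem ⟨d, hDS hd⟩ hd ⟨s, hs⟩
  -- the Sylow subgroup of `C(u)` over `D`
  obtain ⟨g₀, hg₀⟩ := isConj_iff.1 (h.one z u h.orderOf_z huo)
  set Cu := centralizer ({u} : Set G) with hCu
  have hS0le : ((MulAut.conj g₀ • S : Sylow 2 G) : Subgroup G) ≤ Cu := by
    intro a ha
    change a ∈ MulAut.conj g₀ • (S : Subgroup G) at ha
    rw [Subgroup.mem_smul_pointwise_iff_exists] at ha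
    obtain ⟨s, hs, rfl⟩ := ha
    rw [hCu, mem_centralizer_singleton_iff, ← hg₀]
    show g₀ * s * g₀⁻¹ * (g₀ * z * g₀⁻¹) = g₀ * z * g₀⁻¹ * (g₀ * s * g₀⁻¹)
    rw [show g₀ * s * g₀⁻¹ * (g₀ * z * g₀⁻¹) = g₀ * (s * z) * g₀⁻¹ by group, hzc s hs]
    group
  have hD2 : IsPGroup 2 (D.subgroupOf Cu) :=
    (S.2.to_le hDS).of_equiv (subgroupOfEquivOfLe inf_le_right).symm
  obtain ⟨c, hc⟩ := Invol.exists_conj_mem_sylow ((MulAut.conj g₀ • S).subtype hS0le) hD2
  -- conjugation by `g` carries `S` onto it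
  set g := (c : G)⁻¹ * g₀ with hg
  have hgz : g * z * g⁻¹ = u := by
    rw [hg, show (c : G)⁻¹ * g₀ * z * ((c : G)⁻¹ * g₀)⁻¹ = (c : G)⁻¹ * (g₀ * z * g₀⁻¹) * c by group, hg₀,
      mul_assoc, ← mem_centralizer_singleton_iff.1 c.2, inv_mul_cancel_left]
  have hDg : ∀ d ∈ D, g⁻¹ * d * g ∈ (S : Subgroup G) := by
    intro d hd
    have hm := hc ⟨d, hd.2⟩ hd
    have hm' : (c : G) * d * (c : G)⁻¹ ∈ MulAut.conj g₀ • (S : Subgroup G) := hm
    rw [Subgroup.mem_smul_pointwise_iff_exists] at hm'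
    obtain ⟨s, hs, hs'⟩ := hm'
    change g₀ * s * g₀⁻¹ = (c : G) * d * (c : G)⁻¹ at hs'
    rw [hg, show ((c : G)⁻¹ * g₀)⁻¹ * d * ((c : G)⁻¹ * g₀) = g₀⁻¹ * ((c : G) * d * (c : G)⁻¹) * g₀ by group,
      ← hs', show g₀⁻¹ * (g₀ * s * g₀⁻¹) * g₀ = s by group]
    exact hs
  set D' : Subgroup G := D.map (MulAut.conj g⁻¹).toMonoidHom with hD'
  have hD'S : D' ≤ (S : Subgroup G) := by
    rintro _ ⟨d, hd, rfl⟩
    show g⁻¹ * d * g⁻¹⁻¹ ∈ (S : Subgroup G)
    rw [inv_inv]
    exact hDg d hd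
  have hD'idx : (D'.subgroupOf (S : Subgroup G)).index = 2 := by
    have h1 := card_mul_index (D'.subgroupOf (S : Subgroup G))
    rw [Nat.card_congr (subgroupOfEquivOfLe hD'S).toEquiv, hD', card_map_of_injective (MulEquiv.injective _)] at h1
    rw [← hcardD, mul_comm 2] at h1
    exact Nat.eq_of_mul_eq_mul_left Nat.card_pos h1
  obtain ⟨a', ha'S, ha'⟩ : ∃ a' ∈ (S : Subgroup G), g * a' * g⁻¹ * z ≠ z * (g * a' * g⁻¹) := by
    by_contra hcon
    push Not at hcon
    have hin : ∀ s ∈ (S : Subgroup G), s * (g⁻¹ * z * g) = g⁻¹ * z * g * s := fun s hs => by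
      have e := hcon s hs
      calc s * (g⁻¹ * z * g) = g⁻¹ * (g * s * g⁻¹ * z) * g := by group
        _ = g⁻¹ * (z * (g * s * g⁻¹)) * g := by rw [e]
        _ = _ := by group
    rcases hV (g⁻¹ * z * g) (hDg z hzD)
      (by rw [show g⁻¹ * z * g * (g⁻¹ * z * g) = g⁻¹ * (z * z) * g by group, h.z_sq]; group) hin with e | e
    · have := congrArg (fun w => g * w * g⁻¹) e
      simp only [mul_one, mul_inv_cancel] at this
      exact h.z_ne (show z = 1 by rw [← this]; group)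
    · refine huz ?_
      have := congrArg (fun w => g * w * g⁻¹) e
      simp only [hgz] at this
      rw [← this]; group
  set a := g * a' * g⁻¹ with ha
  have hau : a * u = u * a := by
    rw [ha, ← hgz, show g * a' * g⁻¹ * (g * z * g⁻¹) = g * (a' * z) * g⁻¹ by group, hzc a' ha'S]
    group
  have haD : ∀ d ∈ D, a * d * a⁻¹ ∈ D := by
    intro d hd
    haveI := normal_of_index_eq_two hD'idx
    have hd' : g⁻¹ * d * g ∈ D' := ⟨d, hd, by show g⁻¹ * d * g⁻¹⁻¹ = _; rw [inv_inv]⟩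
    have := (inferInstance : (D'.subgroupOf (S : Subgroup G)).Normal).conj_mem ⟨_, hD'S hd'⟩ hd' ⟨a', ha'S⟩
    obtain ⟨d₁, hd₁, e⟩ := this
    change g⁻¹ * d₁ * g⁻¹⁻¹ = a' * (g⁻¹ * d * g) * a'⁻¹ at e
    rw [ha, show g * a' * g⁻¹ * d * (g * a' * g⁻¹)⁻¹ = g * (a' * (g⁻¹ * d * g) * a'⁻¹) * g⁻¹ by group, ← e,
      show g * (g⁻¹ * d₁ * g⁻¹⁻¹) * g⁻¹ = d₁ by group]
    exact hd₁
  -- the involutions of the centre of `D`
  have hZ : ∀ e ∈ D, e * e = 1 → (∀ d ∈ D, d * e = e * d) → e = 1 ∨ e = z ∨ e = u ∨ e = u * z := by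
    intro e he he2 hec
    haveI := normal_of_index_eq_two hindex
    have hbe : b * e * b⁻¹ ∈ D := hDn b hbS e he
    have hbb : b * b ∈ D := by
      have := sq_mem_of_index_two hindex ⟨b, hbS⟩
      simpa [mem_subgroupOf, pow_two] using this
    have hbe2 : b * (b * e * b⁻¹) * b⁻¹ = e := by
      rw [show b * (b * e * b⁻¹) * b⁻¹ = (b * b) * e * (b * b)⁻¹ by group, hec _ hbb, mul_inv_cancel_right]
    have hcomm : Commute (b * e * b⁻¹) e := hec _ hbe
    have hcen : ∀ w ∈ D, (∀ d ∈ D, d * w = w * d) → b * w * b⁻¹ = w →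
        ∀ s ∈ (S : Subgroup G), s * w = w * s := by
      intro w hw hwc hbw s hs
      by_cases hsD : s ∈ D
      · exact hwc s hsD
      have hd : b⁻¹ * s ∈ D := by
        have := (mul_mem_iff_of_index_two hindex (a := ⟨b⁻¹, inv_mem hbS⟩) (b := ⟨s, hs⟩)).2
          (iff_of_false (fun hm => hbD (by simpa [mem_subgroupOf] using hm)) hsD)
        simpa [mem_subgroupOf] using this
      have e1 := mul_inv_eq_iff_eq_mul.1 hbw
      calc s * w = b * ((b⁻¹ * s) * w) := by group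
        _ = b * (w * (b⁻¹ * s)) := by rw [hwc _ hd]
        _ = (b * w) * (b⁻¹ * s) := by group
        _ = w * b * (b⁻¹ * s) := by rw [e1]
        _ = _ := by group
    have hp1 : e * (b * e * b⁻¹) = 1 ∨ e * (b * e * b⁻¹) = z := by
      refine hV _ (hDS (mul_mem he hbe)) ?_ (hcen _ (mul_mem he hbe) (fun d hd => ?_) ?_)
      · have hb1 : b * e * b⁻¹ * (b * e * b⁻¹) = 1 := by
          rw [show b * e * b⁻¹ * (b * e * b⁻¹) = b * (e * e) * b⁻¹ by group, he2]; group
        calc e * (b * e * b⁻¹) * (e * (b * e * b⁻¹)) = e * ((b * e * b⁻¹) * e) * (b * e * b⁻¹) := by group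
          _ = (e * e) * ((b * e * b⁻¹) * (b * e * b⁻¹)) := by rw [hcomm.eq]; group
          _ = 1 := by rw [he2, hb1, one_mul]
      · have hd' : b⁻¹ * d * b ∈ D := by
          have := hDn b⁻¹ (inv_mem hbS) d hd
          rwa [inv_inv] at this
        have e2 : d * (b * e * b⁻¹) = b * e * b⁻¹ * d := by
          calc d * (b * e * b⁻¹) = b * ((b⁻¹ * d * b) * e) * b⁻¹ := by group
            _ = b * (e * (b⁻¹ * d * b)) * b⁻¹ := by rw [hec _ hd']
            _ = _ := by group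
        exact ((show Commute d e from hec d hd).mul_right (show Commute d (b * e * b⁻¹) from e2)).eq
      · rw [show b * (e * (b * e * b⁻¹)) * b⁻¹ = (b * e * b⁻¹) * (b * (b * e * b⁻¹) * b⁻¹) by group, hbe2,
          hcomm.eq]
    have einv : e⁻¹ = e := inv_eq_of_mul_eq_one_right he2
    rcases hp1 with e1 | e1
    · have hbe1 : b * e * b⁻¹ = e := (eq_inv_of_mul_eq_one_right e1).trans einv
      rcases hV e (hDS he) he2 (hcen e he hec hbe1) with e' | e'
      · exact Or.inl e'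
      · exact Or.inr (Or.inl e')
    · have hbe1 : b * e * b⁻¹ = e * z := by
        calc b * e * b⁻¹ = e⁻¹ * (e * (b * e * b⁻¹)) := by group
          _ = e * z := by rw [e1, einv]
      have hprod : b * (e * u) * b⁻¹ = e * u := by
        rw [show b * (e * u) * b⁻¹ = (b * e * b⁻¹) * (b * u * b⁻¹) by group, hbe1, hb,
          show e * z * (u * z) = e * (z * u) * z by group, hzu, mul_assoc, mul_assoc, h.z_sq, mul_one]
      have hucen : ∀ d ∈ D, d * u = u * d := fun d hd => mem_centralizer_singleton_iff.1 hd.2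
      rcases hV (e * u) (hDS (mul_mem he huD))
        (by rw [show e * u * (e * u) = e * (u * e) * u by group, hec u huD, ← mul_assoc, he2, one_mul, hu])
        (hcen _ (mul_mem he huD) (fun d hd => by rw [← mul_assoc, hec d hd, mul_assoc, hucen d hd, mul_assoc]) hprod)
        with e' | e'
      · exact Or.inr (Or.inr (Or.inl (by rw [eq_comm, ← inv_eq_of_mul_eq_one_right e', einv])))
      · refine Or.inr (Or.inr (Or.inr ?_))
        calc e = e * (u * u) := by rw [hu, mul_one]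
          _ = (e * u) * u := by group
          _ = u * z := by rw [e', hzu]
  have huz' : u * z ∈ D := mul_mem huD hzD
  have haz : a * z * a⁻¹ = u * z := by
    have hcen : ∀ d ∈ D, d * (a * z * a⁻¹) = a * z * a⁻¹ * d := by
      intro d hd
      have hd' : a⁻¹ * d * a ∈ D := by
        have := (mem_normalizer_iff.1 (inv_mem (mem_norm haD)) d).1 hd
        rwa [inv_inv] at this
      calc d * (a * z * a⁻¹) = a * ((a⁻¹ * d * a) * z) * a⁻¹ := by group
        _ = a * (z * (a⁻¹ * d * a)) * a⁻¹ := by rw [hzc _ (hDS hd')]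
        _ = _ := by group
    rcases hZ _ (haD z hzD) (by rw [show a * z * a⁻¹ * (a * z * a⁻¹) = a * (z * z) * a⁻¹ by group, h.z_sq]; group)
      hcen with e | e | e | e
    · exact absurd (conj_eq_one_iff.1 e) h.z_ne
    · exact absurd (mul_inv_eq_iff_eq_mul.1 e) ha'
    · exfalso
      have e' := e.trans (mul_inv_eq_iff_eq_mul.2 hau).symm
      exact huz (mul_left_cancel (mul_right_cancel e')).symm
    · exact e
  -- kernel of the action on the four group
  set H : Subgroup G := normalizer (D : Set G) with hH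
  have hSH : (S : Subgroup G) ≤ H := fun s hs => mem_norm (hDn s hs)
  have haH : a ∈ H := mem_norm haD
  have hker3 : ∀ k : G, k * z = z * k → k * u = u * k → ∀ n : ℕ, k ^ 3 ^ n = 1 → k = 1 := by
    intro k hkz hku n hn
    by_contra hk1
    obtain ⟨j, -, hj⟩ := (Nat.dvd_prime_pow Nat.prime_three).1 (orderOf_dvd_of_pow_eq_one hn)
    have hkC : k ∈ centralizer ({z} : Set G) := mem_centralizer_singleton_iff.2 hkz
    have hj1 : j = 1 := by
      have hd : orderOf k ∣ Nat.card ↥(centralizer ({z} : Set G)) := Subgroup.orderOf_dvd_natCard _ hkC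
      rw [hj] at hd
      rcases j with _ | _ | j
      · exact absurd (orderOf_eq_one_iff.1 (by rw [hj, pow_zero])) hk1
      · rfl
      · exact absurd ((show 9 ∣ 3 ^ (j + 1 + 1) from ⟨3 ^ j, by ring⟩).trans hd) h3
    rw [hj1, pow_one] at hj
    let X3 : Sylow 3 ↥(centralizer ({z} : Set G)) := Sylow.ofCard (zpowers ⟨t ^ 2, h.x_mem_cen⟩) (by
      rw [Nat.card_zpowers, Subgroup.orderOf_mk, h.orderOf_x]
      have h31 : 3 ∣ Nat.card ↥(centralizer ({z} : Set G)) := h.orderOf_x ▸ Subgroup.orderOf_dvd_natCard _ h.x_mem_cen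
      have e1 := (Nat.Prime.pow_dvd_iff_le_factorization Nat.prime_three Nat.card_pos.ne' (k := 1)).1 (by simpa using h31)
      have e2 : (Nat.card ↥(centralizer ({z} : Set G))).factorization 3 < 2 := by
        by_contra hh
        exact h3 ((Nat.Prime.pow_dvd_iff_le_factorization Nat.prime_three Nat.card_pos.ne' (k := 2)).2 (by omega))
      rw [show (Nat.card ↥(centralizer ({z} : Set G))).factorization 3 = 1 by omega, pow_one])
    obtain ⟨d, hd⟩ := Invol.exists_conj_mem_sylow X3 (K := zpowers (⟨k, hkC⟩ : ↥(centralizer ({z} : Set G))))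
      (IsPGroup.of_card (n := 1) (by rw [Nat.card_zpowers, Subgroup.orderOf_mk, hj, pow_one]))
    have hdk : d * (⟨k, hkC⟩ : ↥(centralizer ({z} : Set G))) * d⁻¹ ∈ zpowers (⟨t ^ 2, h.x_mem_cen⟩ : ↥(centralizer ({z} : Set G))) := by
      have := hd _ (mem_zpowers _)
      rwa [show (X3 : Subgroup ↥(centralizer ({z} : Set G))) = _ from Sylow.coe_ofCard _ _] at this
    have hgen : zpowers (d * (⟨k, hkC⟩ : ↥(centralizer ({z} : Set G))) * d⁻¹) =
        zpowers (⟨t ^ 2, h.x_mem_cen⟩ : ↥(centralizer ({z} : Set G))) :=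
      eq_of_le_of_card_ge (zpowers_le.2 hdk) (by
        rw [Nat.card_zpowers, Nat.card_zpowers, Invol.orderOf_conj_eq, Subgroup.orderOf_mk, Subgroup.orderOf_mk,
          hj, h.orderOf_x])
    obtain ⟨i, hi⟩ := mem_zpowers_iff.1 (hgen.ge (mem_zpowers _))
    have hi' : ((d : G) * k * (d : G)⁻¹) ^ i = t ^ 2 := by simpa using congrArg Subtype.val hi
    have hc1 : Commute ((d : G) * k * (d : G)⁻¹) ((d : G) * u * (d : G)⁻¹) := by
      show (d : G) * k * (d : G)⁻¹ * ((d : G) * u * (d : G)⁻¹) = (d : G) * u * (d : G)⁻¹ * ((d : G) * k * (d : G)⁻¹)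
      rw [show (d : G) * k * (d : G)⁻¹ * ((d : G) * u * (d : G)⁻¹) = (d : G) * (k * u) * (d : G)⁻¹ by group, hku]
      group
    have hdz : Commute (d : G) z := mem_centralizer_singleton_iff.1 d.2
    have he := h.eq_z_of_fixed (a := (d : G) * u * (d : G)⁻¹) (by rw [Invol.orderOf_conj_eq, huo])
      (hi' ▸ (hc1.zpow_left i).eq) ((hdz.symm.mul_right (show Commute z u from hzu)).mul_right hdz.symm.inv_right).eq
    refine huz ?_
    have e2 := mul_inv_eq_iff_eq_mul.1 he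
    rw [← hz, ← hdz.eq] at e2
    exact mul_left_cancel e2
  -- the action on the three involutions
  have huzz : u * z * z = u := by rw [mul_assoc, h.z_sq, mul_one]
  have hbz : b * z * b⁻¹ = z := by rw [hzc b hbS, mul_inv_cancel_right]
  have hbuz : b * (u * z) * b⁻¹ = u := by
    rw [show b * (u * z) * b⁻¹ = (b * u * b⁻¹) * (b * z * b⁻¹) by group, hb, hbz, huzz]
  have hau' : a * u * a⁻¹ = u := mul_inv_eq_iff_eq_mul.2 hau
  have hauz : a * (u * z) * a⁻¹ = z := by
    rw [show a * (u * z) * a⁻¹ = (a * u * a⁻¹) * (a * z * a⁻¹) by group, hau', haz, ← mul_assoc, hu, one_mul]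
  set y0 := a * b with hy0
  have hconj : ∀ v : G, y0 * v * y0⁻¹ = a * (b * v * b⁻¹) * a⁻¹ := fun v => by rw [hy0]; group
  have y1 : y0 * z * y0⁻¹ = u * z := by rw [hconj, hbz, haz]
  have y2 : y0 * (u * z) * y0⁻¹ = u := by rw [hconj, hbuz, hau']
  have y3 : y0 * u * y0⁻¹ = z := by rw [hconj, hb, hauz]
  have hy0H : y0 ∈ H := mul_mem haH (hSH hbS)
  -- in the quotient by `D`
  haveI hDnH : (D.subgroupOf H).Normal := (normal_subgroupOf_iff_le_normalizer le_normalizer).2 le_rfl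
  set π := QuotientGroup.mk' (D.subgroupOf H) with hπ
  have hsurj : Function.Surjective π := QuotientGroup.mk'_surjective _
  have hmemD : ∀ k : H, π k = 1 ↔ (k : G) ∈ D := fun k => (QuotientGroup.eq_one_iff k).trans mem_subgroupOf
  let y : H := ⟨y0, hy0H⟩
  let bH : H := ⟨b, hSH hbS⟩
  let aH : H := ⟨a, haH⟩
  have hyab : y = aH * bH := Subtype.ext rfl
  have ha2 : π aH * π aH = 1 := by
    rw [← map_mul, hmemD]
    show a * a ∈ D
    have h2 := sq_mem_of_index_two hD'idx ⟨a', ha'S⟩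
    rw [mem_subgroupOf] at h2
    obtain ⟨d₁, hd₁, e⟩ := h2
    change g⁻¹ * d₁ * g⁻¹⁻¹ = ((⟨a', ha'S⟩ : (S : Subgroup G)) ^ 2 : G) at e
    rw [ha, show g * a' * g⁻¹ * (g * a' * g⁻¹) = g * (a' ^ 2) * g⁻¹ by rw [pow_two]; group]
    simp only [SubmonoidClass.coe_pow] at e
    rw [← e, show g * (g⁻¹ * d₁ * g⁻¹⁻¹) * g⁻¹ = d₁ by group]
    exact hd₁
  have hb2 : π bH * π bH = 1 := by
    rw [← map_mul, hmemD]
    have := sq_mem_of_index_two hindex ⟨b, hbS⟩
    simpa [mem_subgroupOf, pow_two] using this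
  have hinv : π bH * π y * (π bH)⁻¹ = (π y)⁻¹ := by
    rw [hyab, map_mul, mul_inv_rev, inv_eq_of_mul_eq_one_right ha2, inv_eq_of_mul_eq_one_right hb2,
      mul_assoc, mul_assoc, hb2, mul_one]
  -- the kernel has no element of order three modulo `D`
  let K0 : Subgroup G := H ⊓ centralizer ({z} : Set G) ⊓ centralizer ({u} : Set G)
  have hK3 : ∀ k : H, (k : G) ∈ K0 → orderOf (π k) = 3 → False := by
    intro k hk ho
    obtain ⟨e, m, hm, hkm⟩ := Nat.exists_eq_pow_mul_and_not_dvd (orderOf_pos k).ne' 3 (by norm_num)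
    have h1 : k ^ m = 1 := by
      refine Subtype.ext ?_
      rw [SubmonoidClass.coe_pow, OneMemClass.coe_one]
      refine hker3 _ ((show Commute (k : G) z from mem_centralizer_singleton_iff.1 hk.1.2).pow_left m).eq
        ((show Commute (k : G) u from mem_centralizer_singleton_iff.1 hk.2).pow_left m).eq e ?_
      rw [← pow_mul, mul_comm, ← hkm, ← SubmonoidClass.coe_pow, pow_orderOf_eq_one, OneMemClass.coe_one]
    have h2 : orderOf (π k) ∣ m := orderOf_dvd_of_pow_eq_one (by rw [← map_pow, h1, map_one])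
    exact hm (ho ▸ h2)
  set n := orderOf (π y) with hn
  -- the action of powers of `y0`
  have hact : ∀ i : ℕ, (i % 3 = 0 → y0 ^ i * z * (y0 ^ i)⁻¹ = z ∧ y0 ^ i * u * (y0 ^ i)⁻¹ = u) ∧
      (i % 3 = 1 → y0 ^ i * z * (y0 ^ i)⁻¹ = u * z) ∧ (i % 3 = 2 → y0 ^ i * z * (y0 ^ i)⁻¹ = u) := by
    intro i
    induction i using Nat.strong_induction_on with
    | _ i ih =>
      rcases (show i = 0 ∨ i = 1 ∨ i = 2 ∨ ∃ j, i = j + 3 from by
        rcases i with _ | _ | _ | j <;> simp) with rfl | rfl | rfl | ⟨j, rfl⟩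
      · simp
      · refine ⟨by omega, fun _ => by rw [pow_one]; exact y1, by omega⟩
      · refine ⟨by omega, by omega, fun _ => ?_⟩
        rw [pow_two, show y0 * y0 * z * (y0 * y0)⁻¹ = y0 * (y0 * z * y0⁻¹) * y0⁻¹ by group, y1, y2]
      · have e3 : ∀ v : G, y0 ^ (j + 3) * v * (y0 ^ (j + 3))⁻¹ =
            y0 ^ j * (y0 * (y0 * (y0 * v * y0⁻¹) * y0⁻¹) * y0⁻¹) * (y0 ^ j)⁻¹ := fun v => by
          rw [pow_add]; simp [pow_succ, mul_assoc]
        have ez : y0 ^ (j + 3) * z * (y0 ^ (j + 3))⁻¹ = y0 ^ j * z * (y0 ^ j)⁻¹ := by rw [e3, y1, y2, y3]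
        have eu : y0 ^ (j + 3) * u * (y0 ^ (j + 3))⁻¹ = y0 ^ j * u * (y0 ^ j)⁻¹ := by rw [e3, y3, y1, y2]
        obtain ⟨i0, i1, i2⟩ := ih j (by omega)
        rw [ez, eu, Nat.add_mod_right]
        exact ⟨i0, i1, i2⟩
  have hzne : u * z ≠ z := fun e => hu1 (mul_eq_right.1 e)
  have hn3 : 3 ∣ n := by
    have hyn : y0 ^ n ∈ D := by
      have := (hmemD (y ^ n)).1 (by rw [map_pow, hn, pow_orderOf_eq_one])
      simpa [y] using this
    have hfix : y0 ^ n * z * (y0 ^ n)⁻¹ = z := by rw [hzc _ (hDS hyn), mul_inv_cancel_right]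
    obtain ⟨-, i1, i2⟩ := hact n
    rcases (show n % 3 = 0 ∨ n % 3 = 1 ∨ n % 3 = 2 by omega) with e | e | e
    · exact Nat.dvd_of_mod_eq_zero e
    · exact absurd ((i1 e).symm.trans hfix) hzne
    · exact absurd ((i2 e).symm.trans hfix) huz
  obtain ⟨k, hk⟩ := hn3
  have hnpos : 0 < n := orderOf_pos _
  have hk3 : ¬ 3 ∣ k := by
    rintro ⟨j, rfl⟩
    refine hK3 (y ^ (3 * j)) ?_ ?_
    · obtain ⟨i0, -, -⟩ := hact (3 * j)
      obtain ⟨ez, eu⟩ := i0 (by omega)
      simp only [SubmonoidClass.coe_pow, K0]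
      exact ⟨⟨pow_mem hy0H _, mem_centralizer_singleton_iff.2 (mul_inv_eq_iff_eq_mul.1 ez)⟩,
        mem_centralizer_singleton_iff.2 (mul_inv_eq_iff_eq_mul.1 eu)⟩
    · rw [map_pow, orderOf_pow' _ (by omega), ← hn, hk, Nat.gcd_mul_left_left]
      exact Nat.mul_div_cancel _ (by omega)
  set y1q := π y ^ k with hy1q
  have hy1o : orderOf y1q = 3 := by
    rw [hy1q, orderOf_pow' _ (fun e => by subst e; simp at hk; omega), ← hn, hk, Nat.gcd_mul_left_left]
    exact Nat.mul_div_cancel _ (Nat.pos_of_ne_zero fun e => by subst e; simp at hk; omega)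
  have hinv1 : π bH * y1q * (π bH)⁻¹ = y1q⁻¹ := by rw [hy1q, ← conj_pow, hinv, inv_pow]
  set B : Subgroup (H ⧸ D.subgroupOf H) := zpowers (π bH) with hB
  set Y : Subgroup (H ⧸ D.subgroupOf H) := zpowers y1q with hY
  have hBY : B ≤ normalizer (Y : Set (H ⧸ D.subgroupOf H)) := by
    rw [hB, zpowers_le]
    refine mem_norm fun v hv => ?_
    obtain ⟨i, rfl⟩ := mem_zpowers_iff.1 hv
    rw [← conj_zpow, hinv1]
    exact zpow_mem (inv_mem (mem_zpowers _)) i
  have hbne : π bH ≠ 1 := fun e => hbD ((hmemD bH).1 e)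
  have hBcard : Nat.card B = 2 := by
    rw [hB, Nat.card_zpowers]
    exact orderOf_eq_prime (by rw [pow_two]; exact hb2) hbne
  have hYcard : Nat.card Y = 3 := by rw [hY, Nat.card_zpowers, hy1o]
  have hsup : Nat.card ↥(Y ⊔ B) ∣ 6 := by
    have := Walter3.card_sup_dvd hBY
    rwa [hYcard, hBcard] at this
  set X : Subgroup G := ((Y ⊔ B).comap π).map H.subtype with hX
  have hXH : X ≤ H := map_subtype_le _
  have hcardX : Nat.card X = Nat.card D * Nat.card ↥(Y ⊔ B) := by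
    rw [hX, card_map_of_injective H.subtype_injective]
    have h1 := card_mul_index ((π.domRestrict ((Y ⊔ B).comap π)).ker)
    rw [index_ker, MonoidHom.domRestrict_range, map_comap_eq_self_of_surjective hsurj, MonoidHom.ker_domRestrict,
      Nat.card_congr (subgroupOfEquivOfLe (ker_le_comap π _)).toEquiv] at h1
    rw [← h1]
    congr 1
    rw [show π.ker = D.subgroupOf H from QuotientGroup.ker_mk' _]
    exact (Nat.card_congr (subgroupOfEquivOfLe le_normalizer).toEquiv)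
  have hDX : D ≤ X := fun d hd => ⟨⟨d, hSH (hDS hd)⟩, show π _ ∈ Y ⊔ B by
    rw [(hmemD ⟨d, hSH (hDS hd)⟩).2 hd]; exact one_mem _, rfl⟩
  have hbX : b ∈ X := ⟨bH, show π bH ∈ Y ⊔ B from mem_sup_right (mem_zpowers _), rfl⟩
  have hyX : y0 ^ k ∈ X := ⟨y ^ k, show π (y ^ k) ∈ Y ⊔ B by
    rw [map_pow]; exact mem_sup_left (mem_zpowers _), by simp [y]⟩
  have hSX : (S : Subgroup G) ≤ X := by
    intro s hs
    by_cases hsD : s ∈ D
    · exact hDX hsD
    have hd : b⁻¹ * s ∈ D := by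
      have := (mul_mem_iff_of_index_two hindex (a := ⟨b⁻¹, inv_mem hbS⟩) (b := ⟨s, hs⟩)).2
        (iff_of_false (fun hm => hbD (by simpa [mem_subgroupOf] using hm)) hsD)
      simpa [mem_subgroupOf] using this
    simpa using mul_mem hbX (hDX hd)
  have hym : y0 ^ k * z * (y0 ^ k)⁻¹ = u * z ∨ y0 ^ k * z * (y0 ^ k)⁻¹ = u :=
    (show k % 3 = 1 ∨ k % 3 = 2 by omega).imp (hact k).2.1 (hact k).2.2
  have hmove : y0 ^ k * z ≠ z * y0 ^ k := fun e => by
    have e' : y0 ^ k * z * (y0 ^ k)⁻¹ = z := by rw [e, mul_inv_cancel_right]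
    rcases hym with e1 | e1 <;> rw [e1] at e'
    · exact hzne e'
    · exact huz e'
  -- the action on the three involutions
  let v : Fin 3 → G := ![z, u, u * z]
  have hvinj : Function.Injective v := by
    have h1 : u * z ≠ u := fun e => h.z_ne (mul_eq_left.1 e)
    intro i j e
    fin_cases i <;> fin_cases j <;> simp [v, huz, huz.symm, hzne, hzne.symm, h1, h1.symm] at e ⊢
  have hperm : ∀ k : G, k ∈ H → ∀ i, ∃ j, k * v i * k⁻¹ = v j := by
    intro k hk i
    have hvD : v i ∈ D ∧ v i * v i = 1 ∧ v i ≠ 1 ∧ ∀ d ∈ D, d * v i = v i * d := by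
      have hucen : ∀ d ∈ D, d * u = u * d := fun d hd => mem_centralizer_singleton_iff.1 hd.2
      fin_cases i
      · exact ⟨hzD, h.z_sq, h.z_ne, fun d hd => hzc d (hDS hd)⟩
      · exact ⟨huD, hu, hu1, hucen⟩
      · refine ⟨huz', ?_, fun e => huz ?_, fun d hd => ?_⟩
        · show u * z * (u * z) = 1
          rw [show u * z * (u * z) = u * (z * u) * z by group, hzu, ← mul_assoc, hu, one_mul, h.z_sq]
        · change u * z = 1 at e
          rw [eq_inv_of_mul_eq_one_left e, h.z_inv]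
        · show d * (u * z) = u * z * d
          rw [← mul_assoc, hucen d hd, mul_assoc, hzc d (hDS hd), mul_assoc]
    obtain ⟨h1, h2, h3', h4⟩ := hvD
    have hkk := mem_normalizer_iff.1 hk
    have hcen : ∀ d ∈ D, d * (k * v i * k⁻¹) = k * v i * k⁻¹ * d := by
      intro d hd
      have hd' : k⁻¹ * d * k ∈ D := by
        have := (mem_normalizer_iff.1 (inv_mem hk) d).1 hd
        rwa [inv_inv] at this
      calc d * (k * v i * k⁻¹) = k * ((k⁻¹ * d * k) * v i) * k⁻¹ := by group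
        _ = k * (v i * (k⁻¹ * d * k)) * k⁻¹ := by rw [h4 _ hd']
        _ = _ := by group
    rcases hZ _ ((hkk _).1 h1) (by rw [show k * v i * k⁻¹ * (k * v i * k⁻¹) = k * (v i * v i) * k⁻¹ by group, h2]; group)
      hcen with e | e | e | e
    · exact absurd (conj_eq_one_iff.1 e) h3'
    · exact ⟨0, e⟩
    · exact ⟨1, e⟩
    · exact ⟨2, e⟩
  choose f hf using hperm
  let φ : X → Equiv.Perm (Fin 3) := fun k => Equiv.ofBijective (f k (hXH k.2))
    (Finite.injective_iff_bijective.1 fun i j e => hvinj (by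
      have := (hf k (hXH k.2) i).trans ((congrArg v e).trans (hf k (hXH k.2) j).symm)
      exact mul_left_cancel (mul_right_cancel this)))
  have hφ : ∀ (k : X) (i : Fin 3), (k : G) * v i * (k : G)⁻¹ = v (φ k i) := fun k i => hf k (hXH k.2) i
  let Φ : X →* Equiv.Perm (Fin 3) := MonoidHom.mk' φ fun k l => Equiv.ext fun i => hvinj (by
    rw [Equiv.Perm.mul_apply, ← hφ, ← hφ, ← hφ, Subgroup.coe_mul]; group)
  have hΦb : Φ ⟨b, hbX⟩ ≠ 1 := fun e => by
    have := hφ ⟨b, hbX⟩ 1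
    rw [show φ ⟨b, hbX⟩ = 1 from e] at this
    exact h.z_ne (mul_eq_left.1 (hb.symm.trans this))
  have hΦy : Φ ⟨y0 ^ k, hyX⟩ ≠ 1 := fun e => by
    have := hφ ⟨y0 ^ k, hyX⟩ 0
    rw [show φ ⟨y0 ^ k, hyX⟩ = 1 from e] at this
    exact hmove (mul_inv_eq_iff_eq_mul.1 this)
  have hkerD : ∀ d : X, (d : G) ∈ D → Φ d = 1 := by
    intro d hd
    refine Equiv.ext fun i => hvinj ?_
    rw [Equiv.Perm.one_apply]
    show v (φ d i) = v i
    rw [← hφ]
    have hc : Commute (d : G) (v i) := by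
      fin_cases i
      · exact hzc _ (hDS hd)
      · exact mem_centralizer_singleton_iff.1 hd.2
      · exact ((show Commute (d : G) u from mem_centralizer_singleton_iff.1 hd.2).mul_right
          (show Commute (d : G) z from hzc _ (hDS hd)))
    rw [hc.eq, mul_inv_cancel_right]
  have hrange : 6 ≤ Nat.card Φ.range := by
    have e3 : orderOf (Φ ⟨y0 ^ k, hyX⟩) = 3 := by
      refine orderOf_eq_prime ?_ hΦy
      rw [← map_pow]
      refine hkerD _ ?_
      simp only [SubmonoidClass.coe_pow, ← pow_mul]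
      have := (hmemD (y ^ (k * 3))).1 (by rw [map_pow, pow_mul, ← hy1q, ← hy1o, pow_orderOf_eq_one])
      simpa [y] using this
    have e2 : orderOf (Φ ⟨b, hbX⟩) = 2 := by
      refine orderOf_eq_prime ?_ hΦb
      rw [← map_pow]
      refine hkerD _ ?_
      have := sq_mem_of_index_two hindex ⟨b, hbS⟩
      simpa [mem_subgroupOf] using this
    have d3 : 3 ∣ Nat.card Φ.range := by
      exact e3.symm.dvd.trans (Subgroup.orderOf_dvd_natCard _ (MonoidHom.mem_range.2 ⟨_, rfl⟩))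
    have d2 : 2 ∣ Nat.card Φ.range := by
      exact e2.symm.dvd.trans (Subgroup.orderOf_dvd_natCard _ (MonoidHom.mem_range.2 ⟨_, rfl⟩))
    exact Nat.le_of_dvd Nat.card_pos (Nat.Coprime.mul_dvd_of_dvd_of_dvd (show Nat.Coprime 2 3 by norm_num) d2 d3)
  have hP6 : Nat.card (Equiv.Perm (Fin 3)) = 6 := by rw [Nat.card_perm, Nat.card_fin]; rfl
  have hr6 : Nat.card Φ.range = 6 := le_antisymm (hP6 ▸ card_le_card_group _) hrange
  have hDle : D.subgroupOf X ≤ Φ.ker := fun d hd => MonoidHom.mem_ker.2 (hkerD d hd)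
  have hkeq : Φ.ker = D.subgroupOf X := by
    refine (eq_of_le_of_card_ge hDle ?_).symm
    have hk' := card_mul_index Φ.ker
    rw [index_ker, hr6, hcardX] at hk'
    rw [Nat.card_congr (subgroupOfEquivOfLe hDX).toEquiv]
    have := Nat.mul_le_mul_left (Nat.card D) (Nat.le_of_dvd (by norm_num) hsup)
    omega
  have hX6 : Nat.card X = Nat.card D * 6 := by
    rw [← card_mul_index Φ.ker, index_ker, hr6, hkeq, Nat.card_congr (subgroupOfEquivOfLe hDX).toEquiv]
  have hsur : Function.Surjective Φ := MonoidHom.range_eq_top.1 (eq_top_of_card_eq _ (hr6.trans hP6.symm))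
  have hcore : Cfsg.pCore 2 X = D.subgroupOf X := by
    refine le_antisymm (fun p hp => ?_) ?_
    · rw [← hkeq, MonoidHom.mem_ker]
      by_contra hne
      have h2 : IsPGroup 2 ((Cfsg.pCore 2 X).map Φ) := (Core.pCore_isPGroup 2 X).map _
      haveI hn : ((Cfsg.pCore 2 X).map Φ).Normal := Normal.map inferInstance Φ hsur
      obtain ⟨j, hj⟩ := IsPGroup.iff_card.1 h2
      have hd : 2 ^ j ∣ 6 := hj ▸ hP6 ▸ card_subgroup_dvd_card _
      have h12 : 2 ^ j ∣ 2 := ((show Nat.Coprime 2 3 by norm_num).pow_left j).dvd_of_dvd_mul_right hd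
      have hsq : Φ p * Φ p = 1 := by
        rw [← pow_two, ← orderOf_dvd_iff_pow_eq_one]
        exact (hj ▸ Subgroup.orderOf_dvd_natCard ((Cfsg.pCore 2 X).map Φ) ⟨p, hp, rfl⟩).trans h12
      obtain ⟨c, hc1, hc2⟩ := perm_three_invol (Φ p) hsq hne
      have hm : c * Φ p * c⁻¹ * Φ p ∈ (Cfsg.pCore 2 X).map Φ := mul_mem (hn.conj_mem _ ⟨p, hp, rfl⟩ c) ⟨p, hp, rfl⟩
      have h22 := (hj ▸ Subgroup.orderOf_dvd_natCard ((Cfsg.pCore 2 X).map Φ) hm).trans h12
      rw [orderOf_dvd_iff_pow_eq_one, pow_two] at h22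
      exact hc1 h22
    · exact Fusion.le_pCore (hkeq ▸ inferInstance) ((S.2.to_le hDS).of_equiv (subgroupOfEquivOfLe hDX).symm)
  have hself : ∀ c ∈ X, (∀ d ∈ D, c * d = d * c) → c ∈ D := fun c hc hcd => by
    have h1 : (⟨c, hc⟩ : X) ∈ Φ.ker := MonoidHom.mem_ker.2 (Equiv.ext fun i => hvinj (by
      rw [Equiv.Perm.one_apply]
      show v (φ ⟨c, hc⟩ i) = v i
      rw [← hφ]
      have hvi : v i ∈ D := by fin_cases i <;> assumption
      rw [hcd _ hvi, mul_inv_cancel_right]))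
    rw [hkeq] at h1
    exact h1
  exact ⟨⟨X, hSX, fun c hc d hd => (mem_normalizer_iff.1 (hXH hc) d).1 hd, by rw [hX6, ← hcardD]; ring,
    hcardD, ⟨_, hyX, hmove⟩, hself, hcore,
    ⟨(QuotientGroup.quotientMulEquivOfEq (hcore.trans hkeq.symm)).trans
      (QuotientGroup.quotientKerEquivOfSurjective Φ hsur)⟩⟩⟩

end Hyp

end Cfsg.Lib.OrderSixCHZ
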