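import Mathlib.GroupTheory.Sylow
import Mathlib.GroupTheory.PGroup
import Cfsg.Agent.Lib.Invol.Basic
import Cfsg.Agent.Lib.Invol.SylowTools
import Cfsg.Agent.Lib.LenEight.Basic

/-!
# A self-centralising element of order six and one class of involutions

The standing hypotheses and the first consequences.
-/

set_option autoImplicit false
set_option linter.style.haveILetI false
set_option linter.unusedSectionVars false

namespace Cfsg.Lib.OrderSixCHZ

open Subgroup
open scoped Pointwise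

universe u

variable {G : Type u} [Group G]

theorem conj_three (x a : G) : x * (x * (x * a * x⁻¹) * x⁻¹) * x⁻¹ = x ^ 3 * a * (x ^ 3)⁻¹ := by
  simp [pow_succ, mul_assoc]

/-- An element of order three fixing no nontrivial element of a subgroup that it normalises: the
order of the subgroup is `1` modulo `3`. -/
theorem card_mod_three_of_fpf [Finite G] {P : Subgroup G} {x : G} (hx3 : x ^ 3 = 1)
    (hP : ∀ p ∈ P, x * p * x⁻¹ ∈ P) (hfix : ∀ p ∈ P, x * p = p * x → p = 1) :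
    Nat.card P % 3 = 1 := by
  haveI : Fact (Nat.Prime 3) := ⟨Nat.prime_three⟩
  let φ : P → P := fun p => ⟨x * p * x⁻¹, hP p p.2⟩
  have h3 : ∀ p, φ (φ (φ p)) = p := fun p => Subtype.ext (by
    show x * (x * (x * (p : G) * x⁻¹) * x⁻¹) * x⁻¹ = p
    rw [conj_three, hx3, inv_one, mul_one, one_mul])
  let σ : Equiv.Perm P := ⟨φ, fun p => φ (φ p), fun p => h3 p, fun p => h3 p⟩
  have hσ : σ ^ 3 = 1 := Equiv.ext fun p => h3 p
  have hp3 : IsPGroup 3 (zpowers σ) := fun g => ⟨1, by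
    obtain ⟨g, k, rfl⟩ := g
    apply Subtype.ext
    show (σ ^ k) ^ (3 ^ 1) = 1
    rw [pow_one, ← zpow_natCast, ← zpow_mul, mul_comm, zpow_mul, zpow_natCast, hσ, one_zpow]⟩
  have h := hp3.card_modEq_card_fixedPoints P
  have h1 : Nat.card (MulAction.fixedPoints (zpowers σ) P) = 1 := by
    have hmem : ∀ p : P, p ∈ MulAction.fixedPoints (zpowers σ) P ↔ p = 1 := by
      intro p
      constructor
      · intro hp
        have h' : φ p = p := hp ⟨σ, mem_zpowers σ⟩
        refine Subtype.ext (hfix p p.2 ?_)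
        have h'' := congrArg Subtype.val h'
        exact mul_inv_eq_iff_eq_mul.1 h''
      · rintro rfl ⟨g, k, rfl⟩
        show (σ ^ k) 1 = 1
        exact Equiv.Perm.zpow_apply_eq_self_of_apply_eq_self (Subtype.ext (by simp [σ, φ])) k
    rw [Nat.card_eq_one_iff_unique]
    exact ⟨⟨fun a b => Subtype.ext (((hmem a).1 a.2).trans ((hmem b).1 b.2).symm)⟩,
      ⟨⟨1, (hmem 1).2 rfl⟩⟩⟩
  rw [h1] at h
  exact h

/-- A fixed element in a coset of a 2-subgroup normalised by an element of order three. -/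
theorem exists_fixed_coset [Finite G] {E : Subgroup G} (hE : IsPGroup 2 E) {x m : G} (hx3 : x ^ 3 = 1)
    (hxE : ∀ e ∈ E, x * e * x⁻¹ ∈ E) (hm : m⁻¹ * (x * m * x⁻¹) ∈ E) :
    ∃ c : G, m⁻¹ * c ∈ E ∧ x * c = c * x := by
  haveI : Fact (Nat.Prime 3) := ⟨Nat.prime_three⟩
  haveI : Fact (Nat.Prime 2) := ⟨Nat.prime_two⟩
  let φ : E → E := fun e => ⟨m⁻¹ * (x * (m * e) * x⁻¹), by
    have := mul_mem hm (hxE e e.2)
    rwa [show m⁻¹ * (x * m * x⁻¹) * (x * (e : G) * x⁻¹) = m⁻¹ * (x * (m * e) * x⁻¹) by group] at this⟩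
  have h3 : ∀ p, φ (φ (φ p)) = p := fun p => Subtype.ext (by
    show m⁻¹ * (x * (m * (m⁻¹ * (x * (m * (m⁻¹ * (x * (m * p) * x⁻¹))) * x⁻¹))) * x⁻¹) = (p : G)
    simp only [mul_inv_cancel_left]
    rw [conj_three, hx3, inv_one, mul_one, one_mul, inv_mul_cancel_left])
  let σ : Equiv.Perm E := ⟨φ, fun p => φ (φ p), fun p => h3 p, fun p => h3 p⟩
  have hσ : σ ^ 3 = 1 := Equiv.ext fun p => h3 p
  have hp3 : IsPGroup 3 (zpowers σ) := fun g => ⟨1, by
    obtain ⟨g, k, rfl⟩ := g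
    apply Subtype.ext
    show (σ ^ k) ^ (3 ^ 1) = 1
    rw [pow_one, ← zpow_natCast, ← zpow_mul, mul_comm, zpow_mul, zpow_natCast, hσ, one_zpow]⟩
  obtain ⟨n, hn⟩ := IsPGroup.iff_card.1 hE
  obtain ⟨e, he⟩ := hp3.nonempty_fixed_point_of_prime_not_dvd_card E (by
    rw [hn]
    exact fun h => by have := Nat.prime_three.dvd_of_dvd_pow h; omega)
  have he' := congrArg Subtype.val (he ⟨σ, mem_zpowers σ⟩)
  refine ⟨m * e, by rw [inv_mul_cancel_left]; exact e.2, ?_⟩
  have h2 : m⁻¹ * (x * (m * (e : G)) * x⁻¹) = e := he'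
  rw [inv_mul_eq_iff_eq_mul, mul_inv_eq_iff_eq_mul] at h2
  exact h2

/-- The hypotheses of the theorem. -/
structure Hyp (t : G) : Prop where
  ord : orderOf t = 6
  cent : centralizer ({t} : Set G) = zpowers t
  one : ∀ a b : G, orderOf a = 2 → orderOf b = 2 → IsConj a b

namespace Hyp

variable {t : G} (h : Hyp t)
include h

theorem pow_six : t ^ 6 = 1 := by rw [← h.ord]; exact pow_orderOf_eq_one t

theorem orderOf_z : orderOf (t ^ 3) = 2 := by
  rw [orderOf_pow' t three_ne_zero, h.ord]; rfl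

theorem orderOf_x : orderOf (t ^ 2) = 3 := by
  rw [orderOf_pow' t two_ne_zero, h.ord]; rfl

theorem x_cube : (t ^ 2) ^ 3 = 1 := by rw [← pow_mul, h.pow_six]

theorem z_sq : t ^ 3 * t ^ 3 = 1 := by rw [← pow_add, h.pow_six]

theorem z_ne : t ^ 3 ≠ 1 := Invol.ne_one h.orderOf_z

theorem z_inv : (t ^ 3)⁻¹ = t ^ 3 := inv_eq_of_mul_eq_one_right h.z_sq

theorem xz_comm : Commute (t ^ 2) (t ^ 3) := (Commute.refl t).pow_pow 2 3

/-- The centraliser of both powers is `⟨t⟩`. -/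
theorem mem_zpowers_of_comm {a : G} (hx : t ^ 2 * a = a * t ^ 2) (hz : t ^ 3 * a = a * t ^ 3) :
    a ∈ zpowers t := by
  rw [← h.cent, mem_centralizer_singleton_iff]
  have e : t = (t ^ 2) ^ 2 * t ^ 3 := by
    rw [← pow_mul, ← pow_add, show 2 * 2 + 3 = 6 + 1 by rfl, pow_succ, h.pow_six, one_mul]
  rw [e]
  exact (((show Commute (t ^ 2) a from hx).pow_left 2).mul_left (show Commute (t ^ 3) a from hz)).symm.eq

/-- An element of 2-power order commuting with both is `1` or `z`. -/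
theorem eq_one_or_z {a : G} {k : ℕ} (hk : a ^ 2 ^ k = 1) (hx : t ^ 2 * a = a * t ^ 2)
    (hz : t ^ 3 * a = a * t ^ 3) : a = 1 ∨ a = t ^ 3 := by
  obtain ⟨i, rfl⟩ := mem_zpowers_iff.1 (h.mem_zpowers_of_comm hx hz)
  have h6 : (orderOf t : ℤ) ∣ i * (2 ^ k : ℕ) := by
    rw [orderOf_dvd_iff_zpow_eq_one, zpow_mul, zpow_natCast, hk]
  rw [h.ord] at h6
  have h3 : (3 : ℤ) ∣ i := by
    have h3' : (3 : ℤ) ∣ i * (2 ^ k : ℕ) := Dvd.dvd.trans ⟨2, rfl⟩ h6
    refine (Int.Prime.dvd_mul' Nat.prime_three h3').resolve_right fun hc => ?_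
    have : 3 ∣ 2 ^ k := by exact_mod_cast hc
    have := Nat.prime_three.dvd_of_dvd_pow this
    omega
  obtain ⟨j, rfl⟩ := h3
  rw [zpow_mul, show t ^ (3 : ℤ) = t ^ 3 from zpow_natCast t 3]
  rcases Int.even_or_odd j with ⟨r, rfl⟩ | ⟨r, rfl⟩
  · left
    rw [← two_mul, zpow_mul, show (t ^ 3) ^ (2 : ℤ) = t ^ 3 * t ^ 3 by rw [zpow_two], h.z_sq, one_zpow]
  · right
    rw [zpow_add, zpow_mul, show (t ^ 3) ^ (2 : ℤ) = t ^ 3 * t ^ 3 by rw [zpow_two], h.z_sq, one_zpow,
      one_mul, zpow_one]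

/-- Centralising the involution is invariant under conjugation by `x`. -/
theorem conj_x_mem_cen {a : G} (ha : a ∈ centralizer ({t ^ 3} : Set G)) :
    t ^ 2 * a * (t ^ 2)⁻¹ ∈ centralizer ({t ^ 3} : Set G) :=
  mul_mem (mul_mem (mem_centralizer_singleton_iff.2 h.xz_comm.eq) ha)
    (inv_mem (mem_centralizer_singleton_iff.2 h.xz_comm.eq))

theorem x_mem_cen : t ^ 2 ∈ centralizer ({t ^ 3} : Set G) :=
  mem_centralizer_singleton_iff.2 h.xz_comm.eq

/-- A conjugate of `z` fixed by `x` is `z`. -/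
theorem eq_z_of_fixed {a : G} (ha : orderOf a = 2) (hx : t ^ 2 * a = a * t ^ 2)
    (hz : t ^ 3 * a = a * t ^ 3) : a = t ^ 3 :=
  (h.eq_one_or_z (k := 1) (by rw [pow_one, ← ha]; exact pow_orderOf_eq_one a) hx hz).resolve_left
    (Invol.ne_one ha)

variable [Finite G]

/-- A Sylow subgroup having `z` in its centre. -/
theorem exists_sylow : ∃ S : Sylow 2 G, (S : Subgroup G) ≤ centralizer ({t ^ 3} : Set G) := by
  haveI : Fact (Nat.Prime 2) := ⟨Nat.prime_two⟩
  obtain ⟨S⟩ := (inferInstance : Nonempty (Sylow 2 G))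
  have hne : (S : Subgroup G) ≠ ⊥ := by
    intro e
    have := S.card_eq_multiplicity
    rw [e, card_bot] at this
    have h2 : 2 ∣ Nat.card G := h.orderOf_z ▸ orderOf_dvd_natCard _
    have := Nat.Prime.factorization_pos_of_dvd Nat.prime_two Nat.card_pos.ne' h2
    have h' : 2 ^ 1 ≤ 2 ^ (Nat.card G).factorization 2 := Nat.pow_le_pow_right two_pos this
    omega
  obtain ⟨e, -, he, he1, hc⟩ := LenEight.exists_fixed_involution S.2 le_rfl hne le_normalizer
  obtain ⟨g, hg⟩ := isConj_iff.1 (h.one e (t ^ 3) (LenEight.orderOf_two he he1) h.orderOf_z)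
  refine ⟨MulAut.conj g • S, fun a ha => ?_⟩
  change a ∈ MulAut.conj g • (S : Subgroup G) at ha
  rw [Subgroup.mem_smul_pointwise_iff_exists] at ha
  obtain ⟨s, hs, rfl⟩ := ha
  rw [mem_centralizer_singleton_iff, ← hg]
  show g * s * g⁻¹ * (g * e * g⁻¹) = g * e * g⁻¹ * (g * s * g⁻¹)
  rw [show g * s * g⁻¹ * (g * e * g⁻¹) = g * (s * e) * g⁻¹ by group, hc s hs]
  group

/-- A 2-element commuting with an involution and lying in the centre of a Sylow subgroup. -/
theorem z_mem_sylow {S : Sylow 2 G} (hS : (S : Subgroup G) ≤ centralizer ({t ^ 3} : Set G)) :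
    t ^ 3 ∈ (S : Subgroup G) := by
  haveI : Fact (Nat.Prime 2) := ⟨Nat.prime_two⟩
  have hp : IsPGroup 2 (zpowers (t ^ 3)) := IsPGroup.of_card (n := 1) (by
    rw [Nat.card_zpowers, h.orderOf_z, pow_one])
  have hn : (S : Subgroup G) ≤ normalizer ((zpowers (t ^ 3) : Subgroup G) : Set G) :=
    LenEight.le_normalizer_zpowers fun s hs => mem_centralizer_singleton_iff.1 (hS hs)
  have := S.3 (IsPGroup.to_sup_of_normal_right' S.2 hp hn) le_sup_left
  exact this ▸ (le_sup_right : zpowers (t ^ 3) ≤ _) (mem_zpowers _)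

end Hyp

end Cfsg.Lib.OrderSixCHZ
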