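import Cfsg.Agent.Lib.OrderSixCHZ.Basic
import Cfsg.Agent.Lib.PGroup.Elements
import Cfsg.Agent.S3331
import Mathlib.GroupTheory.SchurZassenhaus
import Mathlib.Data.Fintype.Perm

/-!
# The three shapes of the centraliser of the involution
-/

set_option autoImplicit false
set_option linter.style.haveILetI false
set_option linter.unusedSectionVars false

namespace Cfsg.Lib.OrderSixCHZ

open Subgroup
open scoped Pointwise

universe u

variable {G : Type u} [Group G] [Finite G] {t : G}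

local notation "Cz" => centralizer ({t ^ 3} : Set G)

/-- The nilpotent-by-(order `3` or `S₃`) shape: `Q` the 2-part and `W` the part prime to `6`. -/
structure Sol (t : G) where
  Q : Subgroup G
  W : Subgroup G
  m : ℕ
  Q_le : Q ≤ centralizer ({t ^ 3} : Set G)
  W_le : W ≤ centralizer ({t ^ 3} : Set G)
  Q_two : IsPGroup 2 Q
  Q_norm : ∀ c ∈ centralizer ({t ^ 3} : Set G), ∀ q ∈ Q, c * q * c⁻¹ ∈ Q
  W_norm : ∀ c ∈ centralizer ({t ^ 3} : Set G), ∀ w ∈ W, c * w * c⁻¹ ∈ W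
  z_mem : t ^ 3 ∈ Q
  W_cop : (Nat.card W).Coprime 6
  comm : ∀ q ∈ Q, ∀ w ∈ W, q * w = w * q
  m_cases : m = 3 ∨ m = 6
  card_eq : Nat.card ↥(centralizer ({t ^ 3} : Set G)) = Nat.card Q * Nat.card W * m
  W_char : ∀ w ∈ centralizer ({t ^ 3} : Set G), (orderOf w).Coprime 6 → w ∈ W
  solv : Group.IsSolvable ↥(centralizer ({t ^ 3} : Set G))
  inv : m = 6 → ∃ s ∈ centralizer ({t ^ 3} : Set G), (∃ k : ℕ, s ^ 2 ^ k = 1) ∧ s ∉ Q ∧
    s * t ^ 2 * s⁻¹ = (t ^ 2)⁻¹

/-- The shape with `A₅`. -/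
structure Alt (t : G) where
  E : Subgroup G
  E_le : E ≤ centralizer ({t ^ 3} : Set G)
  E_two : IsPGroup 2 E
  E_norm : ∀ c ∈ centralizer ({t ^ 3} : Set G), ∀ e ∈ E, c * e * c⁻¹ ∈ E
  z_mem : t ^ 3 ∈ E
  sq : ∀ e ∈ E, e * e = 1 ∨ e * e = t ^ 3
  comm : ∀ a ∈ E, ∀ b ∈ E, a * b * a⁻¹ * b⁻¹ = 1 ∨ a * b * a⁻¹ * b⁻¹ = t ^ 3
  quot : ∃ f : ↥(centralizer ({t ^ 3} : Set G)) →* alternatingGroup (Fin 5),
    Function.Surjective f ∧ f.ker = E.subgroupOf (centralizer ({t ^ 3} : Set G))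

set_option synthInstance.maxSize 1024 in
theorem perm_three_no_six : ∀ a b : Equiv.Perm (Fin 3), a * a = 1 → b * b * b = 1 → a * b = b * a →
    a = 1 ∨ b = 1 := by
  decide +kernel

theorem isSolvable_of_card_three_or_six {H : Type u} [Group H] [Finite H]
    (hm : Nat.card H = 3 ∨ Nat.card H = 6) : Group.IsSolvable H := by
  haveI : Fact (Nat.Prime 3) := ⟨Nat.prime_three⟩
  haveI : Fact (Nat.Prime 2) := ⟨Nat.prime_two⟩
  obtain ⟨y, hy⟩ := exists_prime_orderOf_dvd_card' (G := H) 3 (by rcases hm with e | e <;> rw [e] <;> norm_num)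
  have hc := card_mul_index (zpowers y)
  rw [Nat.card_zpowers, hy] at hc
  have hcomm : Group.IsSolvable (zpowers y) := Group.isSolvable_of_comm fun a b => by
    obtain ⟨i, hi⟩ := mem_zpowers_iff.1 a.2
    obtain ⟨j, hj⟩ := mem_zpowers_iff.1 b.2
    apply Subtype.ext
    rw [Subgroup.coe_mul, Subgroup.coe_mul, ← hi, ← hj]
    exact ((Commute.refl y).zpow_zpow i j).eq
  rcases hm with e | e
  · have h1 : zpowers y = ⊤ := index_eq_one.1 (by omega)
    exact Group.isSolvable_of_comm fun a b => by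
      obtain ⟨i, hi⟩ := mem_zpowers_iff.1 (h1.ge (mem_top a))
      obtain ⟨j, hj⟩ := mem_zpowers_iff.1 (h1.ge (mem_top b))
      rw [← hi, ← hj]
      exact ((Commute.refl y).zpow_zpow i j).eq
  · have h2 : (zpowers y).index = 2 := by omega
    haveI := normal_of_index_eq_two h2
    haveI := hcomm
    haveI : Group.IsSolvable (H ⧸ zpowers y) := by
      haveI := isCyclic_of_prime_card (α := H ⧸ zpowers y) (p := 2) ((index_eq_card _).symm.trans h2)
      exact Group.isSolvable_of_comm fun a b => (IsCyclic.commGroup (α := H ⧸ zpowers y)).mul_comm a b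
    exact Group.isSolvable_of_ker_le_range (zpowers y).subtype (QuotientGroup.mk' (zpowers y)) (by simp)

namespace Hyp

variable (h : Hyp t)
include h

/-- The solvable shape from a homomorphism with nilpotent kernel. -/
theorem sol_of_hom {H : Type u} [Group H] [Finite H] (f : ↥(Cz) →* H) (hf : Function.Surjective f)
    (hz : ∀ c : ↥(Cz), (c : G) = t ^ 3 → f c = 1) (hnil : Group.IsNilpotent f.ker)
    (h3 : (Nat.card f.ker).Coprime 3) (hm : Nat.card H = 3 ∨ Nat.card H = 6)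
    (h6 : Nat.card H = 6 → ∀ a b : H, a * a = 1 → b * b * b = 1 → a * b = b * a → a = 1 ∨ b = 1) :
    Nonempty (Sol t) := by
  classical
  haveI : Fact (Nat.Prime 2) := ⟨Nat.prime_two⟩
  haveI : Fact (Nat.Prime 3) := ⟨Nat.prime_three⟩
  haveI := hnil
  set P : Subgroup ↥(Cz) := f.ker with hP
  obtain ⟨QP⟩ := (inferInstance : Nonempty (Sylow 2 ↥P))
  have hcommP : ∀ a b : P, (orderOf a).Coprime (orderOf b) → a * b = b * a := fun a b hab =>
    (PGroup.commute_of_coprime_orderOf a b hab).eq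
  have hnormQ : (QP : Subgroup P).Normal := ((Group.isNilpotent_of_finite_tfae (G := ↥P)).out 0 3 rfl rfl).1 hnil 2 inferInstance QP
  have hcop : Nat.Coprime (Nat.card (QP : Subgroup P)) (QP : Subgroup P).index :=
    QP.card_coprime_index
  obtain ⟨WP, hWP⟩ := exists_right_complement'_of_coprime hcop
  have hWodd : ∀ w ∈ WP, Odd (orderOf w) := by
    intro w hw
    have hidx : Nat.card WP = (QP : Subgroup P).index := hWP.symm.index_eq_card.symm
    have h2 : ¬ 2 ∣ (QP : Subgroup P).index := QP.not_dvd_index'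
      (index_ne_zero_of_finite)
    rw [← hidx] at h2
    exact (Nat.odd_iff.2 (Nat.two_dvd_ne_zero.1 h2)).of_dvd_nat (orderOf_dvd_natCard WP hw)
  have hQpow : ∀ q ∈ (QP : Subgroup P), ∃ k, q ^ 2 ^ k = 1 := fun q hq => by
    obtain ⟨k, hk⟩ := QP.2 ⟨q, hq⟩
    exact ⟨k, congrArg Subtype.val hk⟩
  have hmemW : ∀ a : P, Odd (orderOf a) → a ∈ WP := by
    intro a ha
    obtain ⟨⟨q, w⟩, hqw⟩ := hWP.2 a
    change (q : P) * (w : P) = a at hqw
    obtain ⟨k, hk⟩ := hQpow q q.2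
    have hcop' : (orderOf (q : P)).Coprime (orderOf (w : P)) :=
      Nat.Coprime.coprime_dvd_left (orderOf_dvd_of_pow_eq_one hk)
        ((Nat.coprime_two_left.2 (hWodd w w.2)).pow_left k)
    have hc : Commute (q : P) (w : P) := hcommP _ _ hcop'
    have ho := hc.orderOf_mul_eq_mul_orderOf_of_coprime hcop'
    rw [hqw] at ho
    have hq1 : orderOf (q : P) = 1 :=
      Nat.eq_one_of_dvd_coprimes ((Nat.coprime_two_left.2 ha).pow_left k)
        (orderOf_dvd_of_pow_eq_one hk) (ho ▸ dvd_mul_right _ _)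
    rw [orderOf_eq_one_iff] at hq1
    rw [← hqw, hq1, one_mul]
    exact w.2
  set ι : P →* G := (Cz).subtype.comp P.subtype with hι
  have hιinj : Function.Injective ι := Subtype.val_injective.comp Subtype.val_injective
  set Q : Subgroup G := (QP : Subgroup P).map ι with hQ
  set W : Subgroup G := WP.map ι with hW
  have hιle : ∀ a : P, ι a ∈ Cz := fun a => (a : ↥(Cz)).2
  have hPnorm : ∀ c : G, ∀ hc : c ∈ Cz, ∀ a : P, ∃ b : P, ι b = c * ι a * c⁻¹ ∧ orderOf b = orderOf a := by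
    intro c hc a
    refine ⟨⟨(⟨c, hc⟩ : ↥(Cz)) * a * (⟨c, hc⟩ : ↥(Cz))⁻¹, (inferInstance : P.Normal).conj_mem _ a.2 _⟩,
      rfl, ?_⟩
    rw [← orderOf_injective _ hιinj, ← orderOf_injective _ hιinj a]
    exact Invol.orderOf_conj_eq c (ι a)
  have hmemQ : ∀ a : P, (∃ k, orderOf a ∣ 2 ^ k) → a ∈ (QP : Subgroup P) := by
    rintro a ⟨k, hk⟩
    have hp : IsPGroup 2 (zpowers a) := by
      obtain ⟨j, -, hj⟩ := (Nat.dvd_prime_pow Nat.prime_two).1 hk
      exact IsPGroup.of_card (n := j) (by rw [Nat.card_zpowers, hj])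
    exact (QP.3 (IsPGroup.to_sup_of_normal_right hp QP.2) le_sup_right) ▸
      ((le_sup_left : zpowers a ≤ zpowers a ⊔ (QP : Subgroup P)) (mem_zpowers a))
  have hsolv : Group.IsSolvable ↥(Cz) := by
    haveI := isSolvable_of_card_three_or_six hm
    haveI : Group.IsSolvable P := inferInstance
    exact Group.isSolvable_of_ker_le_range P.subtype f (by rw [range_subtype])
  refine ⟨⟨Q, W, Nat.card H, ?_, ?_, QP.2.map _, ?_, ?_, ?_, ?_, ?_, hm, ?_, ?_, hsolv, ?_⟩⟩
  · rintro _ ⟨a, -, rfl⟩; exact hιle a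
  · rintro _ ⟨a, -, rfl⟩; exact hιle a
  · rintro c hc _ ⟨a, ha, rfl⟩
    obtain ⟨b, hb, ho⟩ := hPnorm c hc a
    obtain ⟨k, hk⟩ := hQpow a ha
    exact ⟨b, hmemQ b ⟨k, ho ▸ orderOf_dvd_of_pow_eq_one hk⟩, hb⟩
  · rintro c hc _ ⟨a, ha, rfl⟩
    obtain ⟨b, hb, ho⟩ := hPnorm c hc a
    exact ⟨b, hmemW b (ho ▸ hWodd a ha), hb⟩
  · refine ⟨⟨⟨t ^ 3, mem_centralizer_singleton_iff.2 rfl⟩, MonoidHom.mem_ker.2 (hz _ rfl)⟩, hmemQ _ ⟨1, ?_⟩, rfl⟩
    rw [← orderOf_injective _ hιinj, pow_one]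
    exact h.orderOf_z.dvd
  · rw [hW, card_map_of_injective hιinj, show (6 : ℕ) = 2 * 3 from rfl]
    refine Nat.Coprime.mul_right (Nat.coprime_two_right.2 ?_) (h3.coprime_dvd_left ?_)
    · rw [Nat.odd_iff, ← Nat.two_dvd_ne_zero]
      intro h2
      obtain ⟨w, hw⟩ := exists_prime_orderOf_dvd_card' 2 h2
      have := hWodd w w.2
      rw [orderOf_coe, hw] at this
      exact absurd this (by decide)
    · exact card_subgroup_dvd_card WP
  · rintro _ ⟨a, ha, rfl⟩ _ ⟨b, hb, rfl⟩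
    obtain ⟨k, hk⟩ := hQpow a ha
    rw [← map_mul, ← map_mul, hcommP a b (Nat.Coprime.coprime_dvd_left (orderOf_dvd_of_pow_eq_one hk)
      ((Nat.coprime_two_left.2 (hWodd b hb)).pow_left k))]
  · rw [hQ, hW, card_map_of_injective hιinj, card_map_of_injective hιinj, hWP.card_mul_card,
      show Nat.card H = P.index by rw [hP, index_ker, MonoidHom.range_eq_top.2 hf, card_top]]
    exact (card_mul_index P).symm
  · intro w hw hcw
    have hf1 : f ⟨w, hw⟩ = 1 := by
      refine orderOf_eq_one_iff.1 (Nat.eq_one_of_dvd_coprimes hcw ?_ ?_)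
      · exact (orderOf_map_dvd f _).trans (by rw [Subgroup.orderOf_mk])
      · exact (_root_.orderOf_dvd_natCard _).trans (by rcases hm with e | e <;> rw [e] <;> norm_num)
    refine ⟨⟨⟨w, hw⟩, MonoidHom.mem_ker.2 hf1⟩, hmemW _ ?_, rfl⟩
    rw [← orderOf_injective _ hιinj]
    exact Nat.coprime_two_right.1 (hcw.coprime_dvd_right (by norm_num))
  · intro hH6
    have hxne : f ⟨t ^ 2, h.x_mem_cen⟩ ≠ 1 := by
      intro e
      have hd : orderOf (⟨t ^ 2, h.x_mem_cen⟩ : ↥(Cz)) ∣ Nat.card P := orderOf_dvd_natCard P e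
      rw [Subgroup.orderOf_mk, h.orderOf_x] at hd
      exact absurd (Nat.eq_one_of_dvd_coprimes h3 hd dvd_rfl) (by norm_num)
    set X : Subgroup ↥(Cz) := zpowers ⟨t ^ 2, h.x_mem_cen⟩ with hX
    have hXcard : Nat.card X = 3 := by rw [hX, Nat.card_zpowers, Subgroup.orderOf_mk, h.orderOf_x]
    have hfac : (Nat.card ↥(Cz)).factorization 3 = 1 := by
      rw [← card_mul_index P, show P.index = 3 * 2 by
        rw [hP, index_ker, MonoidHom.range_eq_top.2 hf, card_top, hH6]]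
      rw [Nat.factorization_mul Nat.card_pos.ne' (by norm_num), Finsupp.add_apply,
        Nat.factorization_eq_zero_of_not_dvd fun hd => by
          exact absurd (Nat.eq_one_of_dvd_coprimes h3 hd dvd_rfl) (by norm_num),
        Nat.factorization_mul (by norm_num) (by norm_num), Finsupp.add_apply,
        Nat.Prime.factorization_self Nat.prime_three,
        Nat.factorization_eq_zero_of_not_dvd (by norm_num : ¬ 3 ∣ 2)]
      simp
    set P1 : Subgroup ↥(Cz) := P ⊔ X with hP1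
    let XS : Sylow 3 ↥(Cz) := Sylow.ofCard X (by rw [hfac, hXcard, pow_one])
    have hXS : (XS : Subgroup ↥(Cz)) = X := Sylow.coe_ofCard _ _
    have hP1m : P1 = (zpowers (f ⟨t ^ 2, h.x_mem_cen⟩)).comap f := by
      rw [hP1, hX, ← MonoidHom.map_zpowers f, comap_map_eq, sup_comm]
    have hord3 : orderOf (f ⟨t ^ 2, h.x_mem_cen⟩) = 3 :=
      orderOf_eq_prime (by rw [← map_pow, show (⟨t ^ 2, h.x_mem_cen⟩ : ↥(Cz)) ^ 3 = 1 from Subtype.ext h.x_cube, map_one])
        hxne
    haveI : (zpowers (f ⟨t ^ 2, h.x_mem_cen⟩)).Normal := by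
      apply normal_of_index_eq_two
      have := card_mul_index (zpowers (f ⟨t ^ 2, h.x_mem_cen⟩))
      rw [Nat.card_zpowers, hord3, hH6] at this
      omega
    haveI : P1.Normal := hP1m ▸ inferInstance
    have hsup := Sylow.normalizer_sup_eq_top' XS (N := P1) (hXS.symm ▸ le_sup_right)
    change normalizer ((XS : Subgroup ↥(Cz)) : Set ↥(Cz)) ⊔ P1 = ⊤ at hsup
    rw [hXS] at hsup
    obtain ⟨s₀, hs₀N, hs₀⟩ : ∃ s₀ : ↥(Cz), s₀ ∈ normalizer (X : Set ↥(Cz)) ∧ s₀ ∉ P1 := by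
      by_contra hcon
      push Not at hcon
      have hle : normalizer (X : Set ↥(Cz)) ≤ P1 := hcon
      rw [sup_eq_right.2 hle] at hsup
      have h0 : (zpowers (f ⟨t ^ 2, h.x_mem_cen⟩)) = ⊤ := by
        exact comap_injective hf (by rw [← hP1m, hsup, comap_top])
      have := congrArg (fun K : Subgroup H => Nat.card K) h0
      simp only [Nat.card_zpowers, hord3, card_top, hH6] at this
      omega
    obtain ⟨k, n, hn, hkn⟩ := Nat.exists_eq_two_pow_mul_odd (orderOf_pos s₀).ne'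
    have hsmem : s₀ ^ n ∉ P1 := fun hmem => hs₀ (by
      have h2 : s₀ ^ 2 ∈ P1 := by
        have hidx : P1.index = 2 := by
          rw [hP1m, index_comap_of_surjective _ hf]
          have := card_mul_index (zpowers (f ⟨t ^ 2, h.x_mem_cen⟩))
          rw [Nat.card_zpowers, hord3, hH6] at this
          omega
        exact sq_mem_of_index_two hidx s₀
      obtain ⟨j, hj⟩ := hn
      have e : (s₀ ^ n) * ((s₀ ^ 2) ^ j)⁻¹ = s₀ := by
        rw [mul_inv_eq_iff_eq_mul, ← pow_mul, hj, ← pow_succ']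
      exact e ▸ mul_mem hmem (inv_mem (pow_mem h2 j)))
    refine ⟨_, (s₀ ^ n).2, ⟨k, ?_⟩, ?_, ?_⟩
    · have h1 : (s₀ ^ n) ^ 2 ^ k = 1 := by rw [← pow_mul, mul_comm, ← hkn, pow_orderOf_eq_one]
      exact congrArg Subtype.val h1
    · rintro ⟨a, -, ha⟩
      exact hsmem (mem_sup_left (show s₀ ^ n ∈ P from (Subtype.ext ha : (a : ↥(Cz)) = s₀ ^ n) ▸ a.2))
    · have hc : s₀ ^ n * ⟨t ^ 2, h.x_mem_cen⟩ * (s₀ ^ n)⁻¹ ∈ X :=
        (mem_normalizer_iff.1 (pow_mem hs₀N n) _).1 (mem_zpowers _)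
      obtain ⟨i, hi⟩ := mem_zpowers_iff.1 hc
      have hi3 : i % 3 = 0 ∨ i % 3 = 1 ∨ i % 3 = 2 := by omega
      have hx3 : (⟨t ^ 2, h.x_mem_cen⟩ : ↥(Cz)) ^ (3 : ℤ) = 1 := by
        rw [show (3 : ℤ) = ((3 : ℕ) : ℤ) from rfl, zpow_natCast]; exact Subtype.ext h.x_cube
      have hmod : (⟨t ^ 2, h.x_mem_cen⟩ : ↥(Cz)) ^ i = ⟨t ^ 2, h.x_mem_cen⟩ ^ (i % 3) := by
        conv_lhs => rw [← Int.mul_ediv_add_emod i 3, zpow_add, zpow_mul, hx3, one_zpow, one_mul]
      rw [hmod] at hi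
      rcases hi3 with e | e | e <;> rw [e] at hi
      · rw [zpow_zero, eq_comm, conj_eq_one_iff] at hi
        exact absurd (congrArg f hi) (by rw [map_one]; exact hxne)
      · rw [zpow_one, eq_mul_inv_iff_mul_eq] at hi
        exfalso
        have hcom : f (s₀ ^ n) * f ⟨t ^ 2, h.x_mem_cen⟩ = f ⟨t ^ 2, h.x_mem_cen⟩ * f (s₀ ^ n) := by
          rw [← map_mul, ← map_mul, hi]
        have hsq : f (s₀ ^ n) * f (s₀ ^ n) = 1 := by
          have h2 : orderOf (f (s₀ ^ n)) ∣ 2 := by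
            have hd1 : orderOf (f (s₀ ^ n)) ∣ 2 ^ k := orderOf_dvd_of_pow_eq_one (by
              rw [← map_pow, ← pow_mul, mul_comm, ← hkn, pow_orderOf_eq_one, map_one])
            have hd2 : orderOf (f (s₀ ^ n)) ∣ 6 := hH6 ▸ _root_.orderOf_dvd_natCard _
            have := Nat.dvd_gcd hd1 hd2
            refine this.trans ?_
            rw [show (6 : ℕ) = 2 * 3 from rfl, Nat.Coprime.gcd_mul_right_cancel_right _ ((show Nat.Coprime 3 2 by norm_num).pow_right k)]
            exact Nat.gcd_dvd_right _ _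
          rw [← pow_two]
          exact orderOf_dvd_iff_pow_eq_one.1 h2
        have hcube : f ⟨t ^ 2, h.x_mem_cen⟩ * f ⟨t ^ 2, h.x_mem_cen⟩ * f ⟨t ^ 2, h.x_mem_cen⟩ = 1 := by
          have h33 := pow_orderOf_eq_one (f ⟨t ^ 2, h.x_mem_cen⟩)
          rw [hord3, pow_succ, pow_two] at h33
          exact h33
        rcases h6 hH6 _ _ hsq hcube hcom with e1 | e1
        · exact hsmem (mem_sup_left (MonoidHom.mem_ker.2 e1))
        · exact hxne e1
      · have h2i : (⟨t ^ 2, h.x_mem_cen⟩ : ↥(Cz)) ^ (2 : ℤ) = (⟨t ^ 2, h.x_mem_cen⟩)⁻¹ := by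
          rw [eq_inv_iff_mul_eq_one, ← zpow_add_one]; exact hx3
        rw [h2i] at hi
        exact (congrArg Subtype.val hi).symm

/-- The trichotomy. -/
theorem shapes : Nonempty (Sol t) ∨ Nonempty (Alt t) ∨
    ∃ f : ↥(Cz) →* Matrix.ProjectiveSpecialLinearGroup (Fin 2) (ZMod 7),
      Function.Surjective f ∧ Nat.card f.ker = 2 := by
  classical
  haveI : Fact (Nat.Prime 2) := ⟨Nat.prime_two⟩
  set zc : ↥(Cz) := ⟨t ^ 3, mem_centralizer_singleton_iff.2 rfl⟩ with hzc
  have hzcen : zc ∈ center ↥(Cz) := mem_center_iff.2 fun g =>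
    Subtype.ext (mem_centralizer_singleton_iff.1 g.2)
  haveI : (zpowers zc).Normal := ⟨fun a ha g => by
    rw [mem_center_iff.1 (zpowers_le.2 hzcen ha) g, mul_inv_cancel_right]; exact ha⟩
  set π := QuotientGroup.mk' (zpowers zc) with hπ
  have hzc2 : orderOf zc = 2 := by rw [← Subgroup.orderOf_coe]; exact h.orderOf_z
  have hzmem : ∀ a ∈ zpowers zc, a = 1 ∨ a = zc := fun a ha => by
    obtain ⟨i, rfl⟩ := mem_zpowers_iff.1 ha
    rw [← zpow_mod_orderOf, hzc2]
    rcases (show i % 2 = 0 ∨ i % 2 = 1 by omega) with e | e <;> rw [show ((2 : ℕ) : ℤ) = 2 from rfl, e] <;> simp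
  have hker : π.ker = zpowers zc := QuotientGroup.ker_mk' _
  have hsurj : Function.Surjective π := QuotientGroup.mk'_surjective _
  set xb : ↥(Cz) ⧸ zpowers zc := π ⟨t ^ 2, h.x_mem_cen⟩ with hxb
  have hpow : xb ^ 3 = 1 := by
    rw [hxb, ← map_pow, show (⟨t ^ 2, h.x_mem_cen⟩ : ↥(Cz)) ^ 3 = 1 from Subtype.ext h.x_cube, map_one]
  have hxne : xb ≠ 1 := by
    intro e
    have hm : (⟨t ^ 2, h.x_mem_cen⟩ : ↥(Cz)) ∈ zpowers zc := hker.le (MonoidHom.mem_ker.2 e)
    rcases hzmem _ hm with e' | e' <;>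
    · have := congrArg orderOf e'
      rw [Subgroup.orderOf_mk, h.orderOf_x] at this
      simp [hzc2] at this
  have hX : Nat.card (zpowers xb) = 3 := by rw [Nat.card_zpowers]; exact orderOf_eq_prime hpow hxne
  have hCX : centralizer ((zpowers xb : Subgroup _) : Set (↥(Cz) ⧸ zpowers zc)) = zpowers xb := by
    refine le_antisymm (fun a ha => ?_) (fun a ha => ?_)
    · obtain ⟨c, rfl⟩ := hsurj a
      have hc := mem_centralizer_iff.1 ha xb (mem_zpowers _)
      rw [hxb, ← map_mul, ← map_mul] at hc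
      have hk : (⟨t ^ 2, h.x_mem_cen⟩ * c)⁻¹ * (c * ⟨t ^ 2, h.x_mem_cen⟩) ∈ zpowers zc := by
        rw [← hker, MonoidHom.mem_ker, map_mul, map_inv, hc, inv_mul_cancel]
      have hcomm : t ^ 2 * (c : G) = c * t ^ 2 := by
        rcases hzmem _ hk with e | e
        · exact congrArg Subtype.val (inv_mul_eq_one.1 e)
        · exfalso
          have e' := congrArg Subtype.val e
          simp only [hzc, Subgroup.coe_mul, InvMemClass.coe_inv] at e'
          rw [inv_mul_eq_iff_eq_mul] at e'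
          -- `c⁻¹ x c = x z` has order six
          have e'' : (c : G)⁻¹ * t ^ 2 * c = t ^ 2 * t ^ 3 := by
            have hzc' : t ^ 3 * (c : G) = c * t ^ 3 := (mem_centralizer_singleton_iff.1 c.2).symm
            calc (c : G)⁻¹ * t ^ 2 * c = (c : G)⁻¹ * (t ^ 2 * c * t ^ 3) * t ^ 3 := by
                  rw [show (c : G)⁻¹ * (t ^ 2 * c * t ^ 3) * t ^ 3 = (c : G)⁻¹ * t ^ 2 * c * (t ^ 3 * t ^ 3) by group,
                    h.z_sq, mul_one]
              _ = (c : G)⁻¹ * (c * t ^ 2) * t ^ 3 := by rw [e']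
              _ = _ := by rw [inv_mul_cancel_left]
          have ho := congrArg orderOf e''
          rw [← pow_add, show 2 + 3 = 5 from rfl] at ho
          have h1 : orderOf ((c : G)⁻¹ * t ^ 2 * c) = 3 := by
            conv_lhs => rw [show (c : G)⁻¹ * t ^ 2 * c = (c : G)⁻¹ * t ^ 2 * (c : G)⁻¹⁻¹ by rw [inv_inv]]
            rw [Invol.orderOf_conj_eq, h.orderOf_x]
          rw [h1, orderOf_pow' t (by norm_num), h.ord] at ho
          norm_num at ho
      obtain ⟨i, hi⟩ := mem_zpowers_iff.1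
        (h.mem_zpowers_of_comm hcomm (mem_centralizer_singleton_iff.1 c.2).symm)
      have htc : t ∈ Cz := mem_centralizer_singleton_iff.2 ((Commute.refl t).pow_right 3).eq
      have hci : c = (⟨t, htc⟩ : ↥(Cz)) ^ i := Subtype.ext (by simpa using hi.symm)
      rw [hci, map_zpow]
      refine zpow_mem ?_ i
      refine mem_zpowers_iff.2 ⟨2, ?_⟩
      rw [hxb, ← map_zpow, hπ, QuotientGroup.mk'_eq_mk']
      refine ⟨zc, mem_zpowers _, Subtype.ext ?_⟩
      show (t ^ 2) ^ (2 : ℤ) * t ^ 3 = t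
      rw [show (2 : ℤ) = ((2 : ℕ) : ℤ) from rfl, zpow_natCast, ← pow_mul, ← pow_add,
        show 2 * 2 + 3 = 6 + 1 from rfl, pow_succ, h.pow_six, one_mul]
    · obtain ⟨i, rfl⟩ := mem_zpowers_iff.1 ha
      refine mem_centralizer_iff.2 ?_
      rintro b hb
      obtain ⟨j, rfl⟩ := mem_zpowers_iff.1 hb
      exact ((Commute.refl xb).zpow_zpow j i).eq
  rcases Cfsg.Agent.S3331.result (zpowers xb) hX hCX with ⟨N, hN, hnil, hcop, hq⟩ | ⟨N, hN, hcom, hsq, ⟨e⟩⟩ | ⟨⟨e⟩⟩
  · left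
    set φ : ↥(Cz) →* (↥(Cz) ⧸ zpowers zc) ⧸ N := (QuotientGroup.mk' N).comp π with hφ
    have hφs : Function.Surjective φ := (QuotientGroup.mk'_surjective N).comp hsurj
    have hφk : φ.ker = N.comap π := by
      ext a
      rw [MonoidHom.mem_ker, mem_comap, hφ, MonoidHom.comp_apply]
      exact QuotientGroup.eq_one_iff _
    let ψ : φ.ker →* N := (π.comp φ.ker.subtype).codRestrict N fun a => mem_comap.1 (hφk.le a.2)
    refine h.sol_of_hom φ hφs (fun c hc => ?_) ?_ ?_ ?_ ?_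
    · rw [show c = zc from Subtype.ext hc, hφ, MonoidHom.comp_apply,
        MonoidHom.mem_ker.1 (hker.ge (mem_zpowers zc)), map_one]
    · haveI := hnil
      refine Subgroup.isNilpotent_of_ker_le_center ψ fun a ha => mem_center_iff.2 fun g => ?_
      have h1 : (a : ↥(Cz)) ∈ π.ker := MonoidHom.mem_ker.2 (congrArg Subtype.val (MonoidHom.mem_ker.1 ha))
      have : (a : ↥(Cz)) ∈ zpowers zc := hker.le h1
      exact Subtype.ext (mem_center_iff.1 (zpowers_le.2 hzcen this) g)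
    · rw [hφk]
      have hc : Nat.card (N.comap π) = 2 * Nat.card N := by
        have h1 : ((N.comap π).map π) = N := map_comap_eq_self_of_surjective hsurj N
        have h2 := Subgroup.card_mul_index (π.domRestrict (N.comap π)).ker
        rw [index_ker, MonoidHom.domRestrict_range, h1, MonoidHom.ker_domRestrict,
          hker, Nat.card_congr (subgroupOfEquivOfLe (hker.ge.trans (ker_le_comap π N))).toEquiv, Nat.card_zpowers, hzc2] at h2
        exact h2.symm
      rw [hc]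
      exact Nat.Coprime.mul_left (by norm_num) hcop
    · rcases hq with e | ⟨⟨e⟩⟩
      · exact Or.inl e
      · exact Or.inr (by rw [Nat.card_congr e.toEquiv, Nat.card_eq_fintype_card, Fintype.card_perm, Fintype.card_fin]; rfl)
    · intro h6 a b ha hb hab
      rcases hq with e | ⟨⟨e⟩⟩
      · omega
      · rcases perm_three_no_six (e a) (e b) (by rw [← map_mul, ha, map_one])
          (by rw [← map_mul, ← map_mul, hb, map_one]) (by rw [← map_mul, ← map_mul, hab]) with e1 | e1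
        · exact Or.inl (e.map_eq_one_iff.1 e1)
        · exact Or.inr (e.map_eq_one_iff.1 e1)
  · right; left
    set E : Subgroup G := (N.comap π).map (Cz).subtype with hE
    have hmem : ∀ a ∈ E, ∃ c : ↥(Cz), (c : G) = a ∧ π c ∈ N := fun a ha => by
      obtain ⟨c, hc, rfl⟩ := ha
      exact ⟨c, rfl, hc⟩
    have hzero : ∀ c : ↥(Cz), π c = 1 → (c : G) = 1 ∨ (c : G) = t ^ 3 := fun c hc =>
      (hzmem c (hker.le (MonoidHom.mem_ker.2 hc))).imp (fun e => by rw [e]; rfl) (fun e => by rw [e])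
    refine ⟨⟨E, map_subtype_le _, fun a => ⟨2, ?_⟩, ?_, ?_, ?_, ?_, ?_⟩⟩
    · obtain ⟨c, hc, hcN⟩ := hmem a a.2
      apply Subtype.ext
      show (a : G) ^ 2 ^ 2 = 1
      rcases hzero (c ^ 2) (by rw [map_pow]; exact hsq _ hcN) with e | e <;>
        rw [SubmonoidClass.coe_pow, hc] at e <;> rw [show (2 : ℕ) ^ 2 = 2 * 2 from rfl, pow_mul, e]
      · exact one_pow 2
      · rw [pow_two]; exact h.z_sq
    · rintro c hc _ ⟨a, ha, rfl⟩
      refine ⟨⟨c, hc⟩ * a * ⟨c, hc⟩⁻¹, ?_, rfl⟩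
      show π _ ∈ N
      rw [map_mul, map_mul, map_inv]
      exact hN.conj_mem _ ha _
    · refine ⟨zc, ?_, rfl⟩
      show π zc ∈ N
      rw [MonoidHom.mem_ker.1 (hker.ge (mem_zpowers zc))]
      exact one_mem N
    · intro a ha
      obtain ⟨c, hc, hcN⟩ := hmem a ha
      rcases hzero (c * c) (by rw [map_mul, ← pow_two]; exact hsq _ hcN) with e | e <;>
        rw [Subgroup.coe_mul, hc] at e
      · exact Or.inl e
      · exact Or.inr e
    · intro a ha b hb
      obtain ⟨c, hc, hcN⟩ := hmem a ha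
      obtain ⟨d, hd, hdN⟩ := hmem b hb
      have hcd : π c * π d = π d * π c :=
        congrArg Subtype.val (hcom.is_comm.comm (⟨π c, hcN⟩ : N) ⟨π d, hdN⟩)
      rcases hzero (c * d * c⁻¹ * d⁻¹) (by rw [map_mul, map_mul, map_mul, hcd, map_inv, map_inv, mul_inv_cancel_right, mul_inv_cancel]) with e | e <;>
        simp only [Subgroup.coe_mul, InvMemClass.coe_inv, hc, hd] at e
      · exact Or.inl e
      · exact Or.inr e
    · refine ⟨e.toMonoidHom.comp ((QuotientGroup.mk' N).comp π),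
        e.surjective.comp ((QuotientGroup.mk'_surjective N).comp hsurj), ?_⟩
      ext a
      rw [MonoidHom.mem_ker, MonoidHom.comp_apply, mem_subgroupOf]
      constructor
      · intro ha
        exact ⟨a, (QuotientGroup.eq_one_iff (π a)).1 (e.map_eq_one_iff.1 ha), rfl⟩
      · intro ha
        obtain ⟨c, hc, hca⟩ := ha
        rw [show c = a from Subtype.ext hca] at hc
        exact e.map_eq_one_iff.2 ((QuotientGroup.eq_one_iff (π a)).2 hc)
  · right; right
    refine ⟨e.toMonoidHom.comp π, e.surjective.comp hsurj, ?_⟩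
    rw [show (e.toMonoidHom.comp π).ker = π.ker from MonoidHom.ker_mulEquiv_comp π e, hker,
      Nat.card_zpowers, hzc2]

end Hyp

end Cfsg.Lib.OrderSixCHZ
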