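import Cfsg.Agent.Lib.OrderSixCHZ.SolBase
import Cfsg.Agent.S3188

/-!
# The centraliser is not of the shape `(Q × W) · 3`
-/

set_option autoImplicit false
set_option linter.style.haveILetI false
set_option linter.unusedSectionVars false

namespace Cfsg.Lib.OrderSixCHZ

open Subgroup
open scoped Pointwise

universe u

variable {G : Type u} [Group G] [Finite G] {t : G}

namespace Sol

variable (h : Hyp t) (D : Sol t)
include h D

/-- A subgroup over `Q`, `x` with a normal 2-subgroup containing `z` that moves `z` forces `|Q| = 8`. -/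
theorem card_eight (hm : D.m = 3) (S : Sylow 2 G) (hS : (S : Subgroup G) ≤ centralizer ({t ^ 3} : Set G))
    {M K : Subgroup G} (hSM : (S : Subgroup G) ≤ M) (hxM : t ^ 2 ∈ M) (hKM : K ≤ M)
    (hKn : ∀ m ∈ M, ∀ k ∈ K, m * k * m⁻¹ ∈ K) (hK : IsPGroup 2 K) (hzK : t ^ 3 ∈ K)
    (hmove : ∃ m ∈ M, m * t ^ 3 ≠ t ^ 3 * m) :
    Nat.card D.Q = 8 ∧ ∃ R : Subgroup G, R ≠ ⊥ ∧ (Nat.card R).Coprime 6 ∧
      ∀ r ∈ R, ∀ q ∈ D.Q, r * q * r⁻¹ ∈ D.Q := by
  haveI : Fact (Nat.Prime 2) := ⟨Nat.prime_two⟩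
  have hSQ := D.sylow_eq h hm S hS
  obtain ⟨E, hE⟩ := h.local_structure hS hSM hxM hKM hKn hK hzK hmove
  rcases hE.cases with ⟨-, hES, htop⟩ | ⟨hn, -⟩
  swap
  · exact absurd (fun s hs => by rw [hSQ] at hs ⊢; exact D.Q_norm _ h.x_mem_cen s hs) hn
  obtain ⟨R, hRM, hR6, hRx, hRmove⟩ := h.exists_moving hS hSM hxM hE htop hmove
  have hEQ : E = D.Q := hES.trans hSQ
  have hRQ : ∀ r ∈ R, ∀ q ∈ D.Q, r * q * r⁻¹ ∈ D.Q := fun r hr q hq => hEQ ▸ hE.norm r (hRM hr) q (hEQ ▸ hq)
  have h8 := h.card_eight_mul hS hE hRM hR6 hRx hRmove D.Q_two D.Q_le D.z_mem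
    (fun a ha => D.Q_norm _ h.x_mem_cen a ha) hRQ
  refine ⟨?_, R, fun e => ?_, hR6, hRQ⟩
  swap
  · obtain ⟨a, ha, hne⟩ := hRmove
    rw [e, mem_bot] at ha
    exact hne (by rw [ha, one_mul, mul_one])
  suffices hbot : D.Q ⊓ centralizer (R : Set G) = ⊥ by rw [h8, hbot, card_bot]
  by_contra hne
  obtain ⟨k, hk⟩ := IsPGroup.iff_card.1 (D.Q_two.to_le (inf_le_left : D.Q ⊓ centralizer (R : Set G) ≤ D.Q))
  have hdvd : 2 ∣ Nat.card ↥(D.Q ⊓ centralizer (R : Set G)) := by
    rw [hk]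
    refine dvd_pow_self 2 fun e => hne ?_
    rw [e, pow_zero] at hk
    exact card_eq_one.1 hk
  obtain ⟨⟨a, haQ, haR⟩, ha⟩ := exists_prime_orderOf_dvd_card' 2 hdvd
  have ha2 : orderOf a = 2 := by rw [← ha, ← Subgroup.orderOf_coe]
  obtain ⟨g, hg⟩ := isConj_iff.1 (h.one (t ^ 3) a h.orderOf_z ha2)
  -- `z` lies in the conjugate of `Q`
  have hzC : g⁻¹ * t ^ 3 * g ∈ centralizer ({t ^ 3} : Set G) := by
    rw [mem_centralizer_singleton_iff]
    have e : t ^ 3 * a = a * t ^ 3 := (mem_centralizer_singleton_iff.1 (D.Q_le haQ)).symm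
    rw [← hg] at e
    calc g⁻¹ * t ^ 3 * g * t ^ 3 = g⁻¹ * (t ^ 3 * (g * t ^ 3 * g⁻¹)) * g := by group
      _ = g⁻¹ * (g * t ^ 3 * g⁻¹ * t ^ 3) * g := by rw [e]
      _ = _ := by group
  have hzQ : g⁻¹ * t ^ 3 * g ∈ D.Q := D.two_mem h hm hzC (k := 1) (by
    rw [pow_one, pow_two, show g⁻¹ * t ^ 3 * g * (g⁻¹ * t ^ 3 * g) = g⁻¹ * (t ^ 3 * t ^ 3) * g by group, h.z_sq]
    group)
  obtain ⟨r, hr, hrz⟩ := hRmove
  refine hrz ?_
  have hc := D.comm_conj h (g := g) (w := r) (by rw [hg]; exact mem_centralizer_iff.1 haR r hr)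
    (hR6.coprime_dvd_left (Subgroup.orderOf_dvd_natCard R hr)) hzQ
  rwa [show g * (g⁻¹ * t ^ 3 * g) * g⁻¹ = t ^ 3 by group] at hc

/-- No further central involution. -/
theorem false_of_central [IsSimpleGroup G] (hna : ¬ IsMulCommutative G) (hm : D.m = 3) (S : Sylow 2 G)
    (hS : (S : Subgroup G) ≤ centralizer ({t ^ 3} : Set G))
    (hV : ¬ ∀ a ∈ D.Q, a * a = 1 → (∀ b ∈ D.Q, b * a = a * b) → a = 1 ∨ a = t ^ 3) : False := by
  classical
  haveI : Fact (Nat.Prime 2) := ⟨Nat.prime_two⟩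
  have hSQ := D.sylow_eq h hm S hS
  have q := D.qhyp h
  push Not at hV
  obtain ⟨a, haQ, ha2, hac, ha1, haz⟩ := hV
  obtain ⟨g, hg⟩ := isConj_iff.1 (h.one (t ^ 3) a h.orderOf_z (Invol.orderOf_eq_two_of ha1 ha2))
  obtain ⟨n, hnS, hn⟩ := exists_normalizer_conj S
    (fun s hs => mem_centralizer_singleton_iff.1 (hS hs)) (fun s hs => hac s (hSQ ▸ hs)) hg
  obtain ⟨h8, R, hR1, hR6, hRQ⟩ := D.card_eight h hm S hS (M := normalizer (D.Q : Set G))
    (hSQ ▸ le_normalizer) (mem_norm fun b hb => D.Q_norm _ h.x_mem_cen b hb) le_normalizer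
    (fun m hm' k hk => (mem_normalizer_iff.1 hm' k).1 hk) D.Q_two D.z_mem
    ⟨n, mem_norm fun b hb => hSQ ▸ hnS b (hSQ ▸ hb), fun e => haz (by rw [← hn, e, mul_inv_cancel_right])⟩
  -- the Sylow subgroup is abelian
  have hcomm : ∀ b ∈ D.Q, ∀ c ∈ D.Q, b * c = c * b := by
    let Z : Subgroup D.Q := center D.Q
    have hz4 : 4 ≤ Nat.card Z := by
      let f : Fin 4 → Z := ![1, ⟨⟨t ^ 3, D.z_mem⟩, mem_center_iff.2 fun b => Subtype.ext (q.z_comm b.2).symm⟩,
        ⟨⟨a, haQ⟩, mem_center_iff.2 fun b => Subtype.ext (hac b b.2)⟩,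
        ⟨⟨t ^ 3 * a, mul_mem D.z_mem haQ⟩, mem_center_iff.2 fun b => Subtype.ext
          ((show Commute (b : G) (t ^ 3) from (q.z_comm b.2).symm).mul_right (hac b b.2)).eq⟩]
      have hz1 := h.z_ne
      have hza1 : t ^ 3 * a ≠ 1 := fun e => haz (mul_left_cancel (e.trans h.z_sq.symm))
      have hzaz : t ^ 3 * a ≠ t ^ 3 := fun e => ha1 (mul_eq_left.1 e)
      have hzaa : t ^ 3 * a ≠ a := fun e => hz1 (mul_eq_right.1 e)
      have hf : Function.Injective f := by
        intro i j e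
        fin_cases i <;> fin_cases j <;>
          simp [f, Subtype.ext_iff, hz1, hz1.symm, ha1, Ne.symm ha1, haz, Ne.symm haz, hza1, hza1.symm,
            hzaz, hzaz.symm, hzaa, hzaa.symm] at e ⊢
      simpa using Nat.card_le_card_of_injective f hf
    have hq : Nat.card (D.Q ⧸ Z) ≤ 2 := by
      have := card_mul_index Z
      rw [h8, index_eq_card] at this
      nlinarith
    haveI : IsCyclic (D.Q ⧸ center D.Q) := by
      have hpos : 0 < Nat.card (D.Q ⧸ Z) := Nat.card_pos
      rcases (show Nat.card (D.Q ⧸ Z) = 1 ∨ Nat.card (D.Q ⧸ Z) = 2 by omega) with e | e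
      · haveI : Subsingleton (D.Q ⧸ center D.Q) := (Nat.card_eq_one_iff_unique.1 e).1
        infer_instance
      · exact isCyclic_of_prime_card (p := 2) e
    intro b hb c hc
    exact congrArg Subtype.val ((commGroupOfCyclicCenterQuotient (QuotientGroup.mk' (center D.Q))
      (by rw [QuotientGroup.ker_mk'])).mul_comm ⟨b, hb⟩ ⟨c, hc⟩)
  have hsol : ∀ y : G, orderOf y = 2 → Group.IsSolvable ↥(centralizer ({y} : Set G)) := by
    intro y hy
    obtain ⟨g, hg⟩ := isConj_iff.1 (h.one (t ^ 3) y h.orderOf_z hy)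
    haveI := D.solv
    have hle : (centralizer ({t ^ 3} : Set G)).map (MulAut.conj g).toMonoidHom = centralizer ({y} : Set G) := by
      ext c
      simp only [mem_map, MulEquiv.coe_toMonoidHom, MulAut.conj_apply, mem_centralizer_singleton_iff]
      constructor
      · rintro ⟨b, hb, rfl⟩
        rw [← hg, show g * b * g⁻¹ * (g * t ^ 3 * g⁻¹) = g * (b * t ^ 3) * g⁻¹ by group, hb]
        group
      · intro hc
        refine ⟨g⁻¹ * c * g, ?_, by group⟩
        rw [← hg] at hc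
        calc g⁻¹ * c * g * t ^ 3 = g⁻¹ * (c * (g * t ^ 3 * g⁻¹)) * g := by group
          _ = g⁻¹ * (g * t ^ 3 * g⁻¹ * c) * g := by rw [hc]
          _ = _ := by group
    rw [← hle]
    exact Group.isSolvable_of_surjective ((MulAut.conj g).toMonoidHom.subgroupMap_surjective _)
  haveI hScomm : IsMulCommutative ↥(S : Subgroup G) := ⟨⟨fun b c => Subtype.ext (hcomm b (hSQ ▸ b.2) c (hSQ ▸ c.2))⟩⟩
  rcases Cfsg.Agent.S3188.result S hScomm hsol with hs | ⟨F, iF, iF', hq, N, hN, ⟨e⟩, -⟩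
  · exact LenEight.not_solvable_simple hna hs
  have hO : Cfsg.oddCore G = ⊥ := oddCore_bot_of_involution h.orderOf_z
  let eG : (G ⧸ Cfsg.oddCore G) ≃* G := (QuotientGroup.quotientMulEquivOfEq hO).trans QuotientGroup.quotientBot
  have hpsl := Linear.Two.card_PSL_two (F := F)
  have hcardF : 4 ≤ Fintype.card F := by
    rcases hq with ⟨-, h5⟩ | ⟨k, hk, e'⟩
    · omega
    · rw [e']; exact le_trans (by norm_num) (Nat.pow_le_pow_right two_pos hk)
  have hcardG : Nat.card G = Nat.card (Matrix.ProjectiveSpecialLinearGroup (Fin 2) F) := by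
    haveI : IsSimpleGroup (G ⧸ Cfsg.oddCore G) := eG.isSimpleGroup
    have hNtop : N = ⊤ := hN.eq_bot_or_eq_top.resolve_left fun hb => by
      haveI := Walter3.psl_simple hcardF
      subst hb
      exact not_subsingleton (Matrix.ProjectiveSpecialLinearGroup (Fin 2) F) e.symm.toEquiv.subsingleton
    subst hNtop
    rw [← Nat.card_congr e.toEquiv, card_top, Nat.card_congr eG.toEquiv]
  have h8S := S.card_eq_multiplicity
  rw [hSQ, h8, hcardG] at h8S
  have hv3 : (Nat.card (Matrix.ProjectiveSpecialLinearGroup (Fin 2) F)).factorization 2 = 3 :=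
    (Nat.pow_right_injective le_rfl (show 2 ^ 3 = 2 ^ _ from h8S)).symm
  have h8dvd : 8 ∣ Nat.card (Matrix.ProjectiveSpecialLinearGroup (Fin 2) F) :=
    (Nat.Prime.pow_dvd_iff_le_factorization Nat.prime_two Nat.card_pos.ne' (k := 3)).2 hv3.ge
  have h16 : ¬ 16 ∣ Nat.card (Matrix.ProjectiveSpecialLinearGroup (Fin 2) F) := fun hd => by
    have := (Nat.Prime.pow_dvd_iff_le_factorization Nat.prime_two Nat.card_pos.ne' (k := 4)).1 hd
    omega
  have h504 : Nat.card G = 504 := by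
    rw [hcardG]
    rcases hq with ⟨hq8, -⟩ | ⟨k, hk, e'⟩
    · exfalso
      generalize Fintype.card F = c at hpsl hq8 hcardF
      generalize Nat.card (Matrix.ProjectiveSpecialLinearGroup (Fin 2) F) = P at hpsl h8dvd
      have hodd : c % 2 = 1 := by omega
      have hgcd : Nat.gcd 2 (c - 1) = 2 := Nat.gcd_eq_left (Nat.dvd_of_mod_eq_zero (by omega))
      rw [hgcd] at hpsl
      obtain ⟨p, rfl⟩ := h8dvd
      -- `q ^ 2 - 1` is divisible by exactly eight
      obtain ⟨j, hj, hj2⟩ : ∃ j, c ^ 2 - 1 = 8 * j ∧ j % 2 = 1 := by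
        rcases hq8 with e8 | e8
        · obtain ⟨i, rfl⟩ : ∃ i, c = 8 * i + 3 := ⟨c / 8, by omega⟩
          refine ⟨8 * (i * i) + 6 * i + 1, ?_, by omega⟩
          rw [show (8 * i + 3) ^ 2 = 8 * (8 * (i * i) + 6 * i + 1) + 1 by ring]; omega
        · obtain ⟨i, rfl⟩ : ∃ i, c = 8 * i + 5 := ⟨c / 8, by omega⟩
          refine ⟨8 * (i * i) + 10 * i + 3, ?_, by omega⟩
          rw [show (8 * i + 5) ^ 2 = 8 * (8 * (i * i) + 10 * i + 3) + 1 by ring]; omega
      rw [hj, show c * (8 * j) = 8 * (c * j) by ring] at hpsl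
      have : (c * j) % 2 = 1 := by rw [Nat.mul_mod, hodd, hj2]
      omega
    · rw [e'] at hpsl
      have hg1 : Nat.gcd 2 (2 ^ k - 1) = 1 := by
        apply Nat.coprime_two_left.2
        rw [Nat.odd_iff]
        obtain ⟨i, rfl⟩ := Nat.exists_eq_succ_of_ne_zero (show k ≠ 0 by omega)
        rw [pow_succ]
        have : 0 < 2 ^ i := Nat.two_pow_pos i
        omega
      rw [hg1, one_mul] at hpsl
      have hk3 : k = 3 := by
        rw [hpsl] at h8dvd h16
        have hcop : Nat.Coprime (2 ^ 3) ((2 ^ k) ^ 2 - 1) := by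
          refine Nat.Coprime.pow_left 3 (Nat.coprime_two_left.2 ?_)
          rw [Nat.odd_iff, ← pow_mul]
          have : 2 ^ (k * 2) % 2 = 0 := Nat.mod_eq_zero_of_dvd (dvd_pow_self 2 (by omega))
          have : 0 < 2 ^ (k * 2) := Nat.two_pow_pos _
          omega
        have h3 : 2 ^ 3 ∣ 2 ^ k := hcop.dvd_of_dvd_mul_right h8dvd
        have hk' : 3 ≤ k := (Nat.pow_dvd_pow_iff_le_right (by norm_num : 1 < 2)).1 h3
        by_contra hne
        exact h16 (Dvd.dvd.mul_right ((show 16 = 2 ^ 4 from rfl) ▸ Nat.pow_dvd_pow 2 (show 4 ≤ k by omega)) _)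
      subst hk3
      rw [hpsl]; norm_num
  -- the normaliser of `Q` is too large
  set M := normalizer (D.Q : Set G)
  have hRcard : 7 ∣ Nat.card R := by
    have hd : Nat.card R ∣ 504 := h504 ▸ card_subgroup_dvd_card R
    rw [show (504 : ℕ) = 72 * 7 from rfl] at hd
    have hc : (Nat.card R).Coprime 72 := by
      rw [show (72 : ℕ) = 2 ^ 3 * 3 ^ 2 from rfl]
      exact Nat.Coprime.mul_right ((hR6.coprime_dvd_right (show 2 ∣ 6 by norm_num)).pow_right 3)
        ((hR6.coprime_dvd_right (show 3 ∣ 6 by norm_num)).pow_right 2)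
    rcases (Nat.dvd_prime (by norm_num)).1 (hc.dvd_of_dvd_mul_left hd) with r | r
    · exact absurd (card_eq_one.1 r) hR1
    · exact dvd_of_eq r.symm
  have h7 : 7 ∣ Nat.card M := hRcard.trans (card_dvd_of_le fun r hr => mem_norm (hRQ r hr))
  have h8M : 8 ∣ Nat.card M := h8 ▸ card_dvd_of_le le_normalizer
  have h3M : 3 ∣ Nat.card M := h.orderOf_x ▸ Subgroup.orderOf_dvd_natCard M
    (mem_norm fun b hb => D.Q_norm _ h.x_mem_cen b hb)
  have h168 : 168 ∣ Nat.card M := Nat.Coprime.mul_dvd_of_dvd_of_dvd (show Nat.Coprime 56 3 by norm_num)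
    (Nat.Coprime.mul_dvd_of_dvd_of_dvd (show Nat.Coprime 8 7 by norm_num) h8M h7) h3M
  have hMtop : M ≠ ⊤ := LenEight.normalizer_ne_top (fun e => by rw [e, card_bot] at h8; omega)
    (fun e => by rw [e, card_top, h504] at h8; omega)
  obtain ⟨j, hj⟩ := h168
  have hidx := card_mul_index M
  rw [h504, hj, mul_assoc] at hidx
  have hidx3 : M.index ≤ 3 := by
    have : M.index ∣ 3 := ⟨j, by rw [mul_comm]; omega⟩
    exact Nat.le_of_dvd (by norm_num) this
  have hdvd := Invol.card_dvd_factorial_of_simple (H := M) hMtop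
  rw [h504] at hdvd
  have h6 : M.index.factorial ≤ 6 := (Nat.factorial_le hidx3).trans (le_of_eq rfl)
  have := Nat.le_of_dvd (Nat.factorial_pos _) hdvd
  omega

/-- The shape `(Q × W) · 3` does not occur. -/
theorem no_three [IsSimpleGroup G] (hna : ¬ IsMulCommutative G) (hm : D.m = 3) : False := by
  classical
  haveI : Fact (Nat.Prime 2) := ⟨Nat.prime_two⟩
  obtain ⟨S, hS⟩ := h.exists_sylow
  have hSQ := D.sylow_eq h hm S hS
  have q := D.qhyp h
  by_cases hV : ∀ a ∈ D.Q, a * a = 1 → (∀ b ∈ D.Q, b * a = a * b) → a = 1 ∨ a = t ^ 3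
  · rcases q.exists_u hV with ⟨u, hu, hu2, hu1, huz, huc⟩ | hQ | ⟨-, huniq⟩
    · rw [← hSQ] at hV hu huc
      obtain ⟨P⟩ := h.exists_parab S hS hV (D.not_nine h) hu hu2 hu1 huz huc
      -- no characteristic subgroup of `S` is normal in the parabolic unless `|Q| = 8`
      have key : Nat.card D.Q = 8 ∨ ∀ K : Subgroup G, K ≤ (S : Subgroup G) → K ≠ ⊥ →
          (∀ g : G, (∀ s ∈ (S : Subgroup G), g * s * g⁻¹ ∈ (S : Subgroup G)) → ∀ k ∈ K, g * k * g⁻¹ ∈ K) →
          ¬ ∀ a ∈ P.X, ∀ k ∈ K, a * k * a⁻¹ ∈ K := by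
        by_contra hh
        push Not at hh
        obtain ⟨h8, K, hKS, hK1, hKchar, hKX⟩ := hh
        obtain ⟨e, heK, he2, he1, hec⟩ := LenEight.exists_fixed_involution S.2 hKS hK1
          (fun s hs => mem_norm (hKchar s fun s' hs' => mul_mem (mul_mem hs hs') (inv_mem hs)))
        have hzK : t ^ 3 ∈ K := by
          rcases hV e (hKS heK) he2 hec with r | r
          · exact absurd r he1
          · exact r ▸ heK
        obtain ⟨y, hy, hyz⟩ := P.move
        exact h8 (D.card_eight h hm S hS (M := normalizer (K : Set G))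
          (fun s hs => mem_norm (hKchar s fun s' hs' => mul_mem (mul_mem hs hs') (inv_mem hs)))
          (mem_norm (hKchar _ fun s' hs' => by rw [hSQ] at hs' ⊢; exact D.Q_norm _ h.x_mem_cen s' hs'))
          le_normalizer (fun m hm' k hk => (mem_normalizer_iff.1 hm' k).1 hk) (S.2.to_le hKS) hzK
          ⟨y, mem_norm (hKX y hy), hyz⟩).1
      have hclass : ∀ a ∈ D.Q, ∀ b ∈ D.Q, a * b * a⁻¹ * b⁻¹ = 1 ∨ a * b * a⁻¹ * b⁻¹ = t ^ 3 := by
        rw [hSQ] at hV
        rcases key with h8 | key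
        · -- the commutators of a group of order eight
          refine (q.of_class_two hV fun a ha b hb c hc => ?_).2
          haveI : Finite D.Q := inferInstance
          have hcard : Nat.card (D.Q ⧸ center D.Q) ∣ 4 := by
            have hp : IsPGroup 2 D.Q := D.Q_two
            haveI : Nontrivial D.Q := (nontrivial_iff_ne_bot _).2 fun e => by
              rw [e, card_bot] at h8; omega
            have := hp.center_nontrivial
            obtain ⟨j, hj⟩ := IsPGroup.iff_card.1 (hp.to_subgroup (center D.Q))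
            have hm2 := card_mul_index (center D.Q)
            rw [h8, hj, index_eq_card] at hm2
            have hj1 : j ≠ 0 := fun e => by
              rw [e, pow_zero] at hj
              exact absurd hj Finite.one_lt_card.ne'
            obtain ⟨i, rfl⟩ := Nat.exists_eq_succ_of_ne_zero hj1
            refine ⟨2 ^ i, ?_⟩
            rw [pow_succ] at hm2
            nlinarith [hm2]
          have hcomm : ∀ a b : D.Q ⧸ center D.Q, a * b = b * a := by
            obtain ⟨i, hi, hi'⟩ := (Nat.dvd_prime_pow Nat.prime_two (m := 2)).1 hcard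
            interval_cases i
            · haveI : Subsingleton (D.Q ⧸ center D.Q) := (Nat.card_eq_one_iff_unique.1 hi').1
              exact fun a b => Subsingleton.elim _ _
            · haveI := isCyclic_of_prime_card (p := 2) hi'
              exact fun a b => (IsCyclic.commGroup (α := D.Q ⧸ center D.Q)).mul_comm a b
            · exact (IsPGroup.isMulCommutative_of_card_eq_prime_sq (p := 2) hi').is_comm.comm
          have hm' : (⟨a, ha⟩ * ⟨b, hb⟩ * ⟨a, ha⟩⁻¹ * ⟨b, hb⟩⁻¹ : D.Q) ∈ center D.Q := by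
            rw [← QuotientGroup.eq_one_iff]
            rw [QuotientGroup.mk_mul, QuotientGroup.mk_mul, QuotientGroup.mk_mul, QuotientGroup.mk_inv,
              QuotientGroup.mk_inv, hcomm (↑(⟨a, ha⟩ : D.Q)) (↑(⟨b, hb⟩ : D.Q)), mul_inv_cancel_right, mul_inv_cancel]
          exact congrArg Subtype.val (mem_center_iff.1 hm' ⟨c, hc⟩)
        · refine (q.of_class_two hV ?_).2
          have := P.class_two key
          rwa [hSQ] at this
      -- an abelian subgroup of index two in an extraspecial group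
      obtain ⟨g, hg⟩ := isConj_iff.1 (h.one (t ^ 3) u h.orderOf_z (Invol.orderOf_eq_two_of hu1 hu2))
      set A := (S : Subgroup G) ⊓ centralizer ({u} : Set G) with hA
      have hAQ : ∀ a ∈ A, g⁻¹ * a * g ∈ D.Q := by
        intro a ha
        obtain ⟨k, hk⟩ := S.2 ⟨a, ha.1⟩
        refine D.two_mem h hm ?_ (k := k) ?_
        · rw [mem_centralizer_singleton_iff]
          have e := mem_centralizer_singleton_iff.1 ha.2
          rw [← hg] at e
          calc g⁻¹ * a * g * t ^ 3 = g⁻¹ * (a * (g * t ^ 3 * g⁻¹)) * g := by group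
            _ = g⁻¹ * (g * t ^ 3 * g⁻¹ * a) * g := by rw [e]
            _ = _ := by group
        · rw [show g⁻¹ * a * g = g⁻¹ * a * g⁻¹⁻¹ by rw [inv_inv], conj_pow,
            show a ^ 2 ^ k = 1 from congrArg Subtype.val hk]
          group
      have hAab : ∀ a ∈ A, ∀ b ∈ A, a * b = b * a := by
        intro a ha b hb
        have h1 := hclass a (hSQ ▸ ha.1) b (hSQ ▸ hb.1)
        have h2 := hclass _ (hAQ a ha) _ (hAQ b hb)
        have e : g⁻¹ * a * g * (g⁻¹ * b * g) * (g⁻¹ * a * g)⁻¹ * (g⁻¹ * b * g)⁻¹ =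
            g⁻¹ * (a * b * a⁻¹ * b⁻¹) * g := by group
        rw [e] at h2
        rcases h1 with h1 | h1
        · exact mul_inv_eq_iff_eq_mul.1 (mul_inv_eq_one.1 h1)
        exfalso
        rw [h1] at h2
        rcases h2 with h2 | h2
        · refine h.z_ne ?_
          have := congrArg (fun w => g * w * g⁻¹) h2
          simp only [mul_one, mul_inv_cancel] at this
          rw [← this]; group
        · refine huz ?_
          rw [← hg]
          calc g * t ^ 3 * g⁻¹ = g * (g⁻¹ * t ^ 3 * g) * g⁻¹ := by rw [h2]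
            _ = t ^ 3 := by group
      rw [hSQ] at hu hV
      exact q.noncentral_false hV hclass hu hu2 hu1 huz fun a ha hau b hb hbu =>
        hAab a ⟨hSQ ▸ ha, mem_centralizer_singleton_iff.2 hau⟩ b ⟨hSQ ▸ hb, mem_centralizer_singleton_iff.2 hbu⟩
    · refine not_unique_involution hna S h.orderOf_z fun a ha _ => ?_
      rw [hSQ, hQ] at ha
      exact q.mem_zz.1 ha
    · exact not_unique_involution hna S h.orderOf_z fun a ha ha2 => huniq a (hSQ ▸ ha) ha2
  · exact D.false_of_central h hna hm S hS hV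

end Sol

end Cfsg.Lib.OrderSixCHZ
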