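import Cfsg.Agent.Lib.OrderSixCHZ.Data
import Cfsg.Agent.Lib.Fusion.Parts
import Cfsg.Agent.Lib.Walter3.Socle
import Cfsg.Agent.Lib.Linear.PSLSmall
import Mathlib.GroupTheory.SpecificGroups.Alternating

/-!
# The local subgroups containing `x` and a Sylow subgroup

If `M` contains `x = t²`, a Sylow subgroup `S` of the centraliser of `z` and has a normal 2-subgroup
containing `z`, and `z` is not central in `M`, then modulo `O₂(M)` the image of `x` is
self-centralising.
-/

set_option autoImplicit false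
set_option linter.style.haveILetI false
set_option linter.unusedSectionVars false

namespace Cfsg.Lib.OrderSixCHZ

open Subgroup

universe u

variable {G : Type u} [Group G] [Finite G] {t : G}

/-- A subgroup normalised by `x` on which `x` fixes a coset of a subgroup containing the stabiliser. -/
theorem index_mod_three {A : Type u} [Group A] [Finite A] (B : Subgroup A) (a : A) (ha : a ^ 3 = 1)
    (haB : a ∈ B) (hfix : ∀ m : A, m⁻¹ * a * m ∈ B → m ∈ B) : B.index % 3 = 1 := by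
  haveI : Fact (Nat.Prime 3) := ⟨Nat.prime_three⟩
  have hp : IsPGroup 3 (zpowers a) := fun g => ⟨1, by
    obtain ⟨g, k, rfl⟩ := g
    apply Subtype.ext
    show (a ^ k) ^ (3 ^ 1) = 1
    rw [pow_one, ← zpow_natCast, ← zpow_mul, mul_comm, zpow_mul, zpow_natCast, ha, one_zpow]⟩
  have h := hp.card_modEq_card_fixedPoints (A ⧸ B)
  have hmem : ∀ q : A ⧸ B, q ∈ MulAction.fixedPoints (zpowers a) (A ⧸ B) ↔ q = (1 : A) := by
    intro q
    induction q using QuotientGroup.induction_on with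
    | H m =>
      constructor
      · intro hq
        have h1 : ((a * m : A) : A ⧸ B) = (m : A ⧸ B) := hq ⟨a, mem_zpowers a⟩
        rw [QuotientGroup.eq, mul_inv_rev, mul_assoc] at h1
        have h2 : m⁻¹ * a * m ∈ B := by
          have := inv_mem h1
          rw [show (m⁻¹ * (a⁻¹ * m))⁻¹ = m⁻¹ * a * m by group] at this
          exact this
        rw [QuotientGroup.eq, mul_one]
        exact inv_mem (hfix m h2)
      · intro hq g
        rw [hq]
        show (((g : A) * 1 : A) : A ⧸ B) = ((1 : A) : A ⧸ B)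
        rw [QuotientGroup.eq, mul_one, mul_one]
        exact inv_mem ((zpowers_le.2 haB) g.2)
  have h1 : Nat.card (MulAction.fixedPoints (zpowers a) (A ⧸ B)) = 1 := by
    rw [Nat.card_eq_one_iff_unique]
    exact ⟨⟨fun p q => Subtype.ext (((hmem p).1 p.2).trans ((hmem q).1 q.2).symm)⟩,
      ⟨⟨((1 : A) : A ⧸ B), (hmem _).2 rfl⟩⟩⟩
  rw [h1] at h
  exact h

/-- A normal subgroup of order prime to three and index three or six. -/
def SolvTop (M E : Subgroup G) : Prop :=
  ∃ P : Subgroup G, P ≤ M ∧ E ≤ P ∧ (∀ m ∈ M, ∀ p ∈ P, m * p * m⁻¹ ∈ P) ∧ (Nat.card P).Coprime 3 ∧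
    (Nat.card M = Nat.card P * 3 ∨ Nat.card M = Nat.card P * 6)

/-- What is known about such a subgroup. -/
structure LocalData (t : G) (S : Subgroup G) (M : Subgroup G) (E : Subgroup G) : Prop where
  le_sylow : E ≤ S
  z_mem : t ^ 3 ∈ E
  norm : ∀ m ∈ M, ∀ e ∈ E, m * e * m⁻¹ ∈ E
  cases : ((∀ s ∈ S, t ^ 2 * s * (t ^ 2)⁻¹ ∈ S) ∧ E = S ∧ SolvTop M E) ∨
    ((¬ ∀ s ∈ S, t ^ 2 * s * (t ^ 2)⁻¹ ∈ S) ∧
      ((Nat.card S = 2 * Nat.card E ∧ SolvTop M E) ∨
        (Nat.card S = 8 * Nat.card E ∧ Nat.card M = 168 * Nat.card E ∧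
          ∀ a ∈ M, (∀ s ∈ S, a * s * a⁻¹ ∈ S) → a ∈ S)))

namespace Hyp

variable (h : Hyp t)
include h

/-- An element of `M` centralising `x` lies in `⟨t⟩`. -/
theorem cent_x_local {M K : Subgroup G} (hKn : ∀ m ∈ M, ∀ k ∈ K, m * k * m⁻¹ ∈ K)
    {k2 : ∀ a ∈ K, ∃ j : ℕ, a ^ 2 ^ j = 1} (hzK : t ^ 3 ∈ K)
    (hKc : ∀ a ∈ K, t ^ 3 * a = a * t ^ 3) {m : G} (hm : m ∈ M) (hmx : t ^ 2 * m = m * t ^ 2) :
    m ∈ zpowers t := by
  refine h.mem_zpowers_of_comm hmx ?_
  have ha : m * t ^ 3 * m⁻¹ ∈ K := hKn m hm _ hzK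
  have e : t ^ 2 * (m * t ^ 3 * m⁻¹) = m * t ^ 3 * m⁻¹ * t ^ 2 := by
    have hmi : t ^ 2 * m⁻¹ = m⁻¹ * t ^ 2 := ((show Commute (t ^ 2) m from hmx).inv_right).eq
    calc t ^ 2 * (m * t ^ 3 * m⁻¹) = t ^ 2 * m * t ^ 3 * m⁻¹ := by group
      _ = m * (t ^ 2 * t ^ 3) * m⁻¹ := by rw [hmx]; group
      _ = m * (t ^ 3 * t ^ 2) * m⁻¹ := by rw [h.xz_comm.eq]
      _ = m * t ^ 3 * (t ^ 2 * m⁻¹) := by group
      _ = _ := by rw [hmi]; group
  have := h.eq_z_of_fixed (by rw [Invol.orderOf_conj_eq, h.orderOf_z]) e (hKc _ ha)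
  exact ((mul_inv_eq_iff_eq_mul.1 this)).symm

/-- The structure of a local subgroup moving `z`. -/
theorem local_structure {S : Sylow 2 G} (hS : (S : Subgroup G) ≤ centralizer ({t ^ 3} : Set G))
    {M K : Subgroup G} (hSM : (S : Subgroup G) ≤ M) (hxM : t ^ 2 ∈ M) (hKM : K ≤ M)
    (hKn : ∀ m ∈ M, ∀ k ∈ K, m * k * m⁻¹ ∈ K) (hK : IsPGroup 2 K) (hzK : t ^ 3 ∈ K)
    (hmove : ∃ m ∈ M, m * t ^ 3 ≠ t ^ 3 * m) : ∃ E : Subgroup G, LocalData t S M E := by
  classical
  haveI : Fact (Nat.Prime 2) := ⟨Nat.prime_two⟩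
  haveI : Fact (Nat.Prime 3) := ⟨Nat.prime_three⟩
  set E₀ : Subgroup M := Cfsg.pCore 2 M with hE₀
  haveI hE₀n : E₀.Normal := Cfsg.pCore_normal 2 M
  have hE₀p : IsPGroup 2 E₀ := Core.pCore_isPGroup 2 M
  let SM : Sylow 2 M := S.subtype hSM
  have hES : ∀ e ∈ E₀, (e : G) ∈ (S : Subgroup G) := fun e he => by
    have := SM.3 (IsPGroup.to_sup_of_normal_left hE₀p SM.2) le_sup_right
    exact (this ▸ (le_sup_left : E₀ ≤ E₀ ⊔ (SM : Subgroup M))) he
  have hzE : (⟨t ^ 3, hKM hzK⟩ : M) ∈ E₀ := by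
    refine (Fusion.le_pCore (N := K.subgroupOf M) ⟨fun a ha g => hKn g g.2 a ha⟩ ?_) hzK
    exact hK.of_equiv (subgroupOfEquivOfLe hKM).symm
  set E : Subgroup G := E₀.map M.subtype with hE
  have hEle : E ≤ (S : Subgroup G) := by rintro _ ⟨e, he, rfl⟩; exact hES e he
  have hzE' : t ^ 3 ∈ E := ⟨_, hzE, rfl⟩
  have hEn : ∀ m ∈ M, ∀ e ∈ E, m * e * m⁻¹ ∈ E := by
    rintro m hm _ ⟨e, he, rfl⟩
    exact ⟨⟨m, hm⟩ * e * ⟨m, hm⟩⁻¹, hE₀n.conj_mem e he _, rfl⟩
  have hEc : ∀ a ∈ E, t ^ 3 * a = a * t ^ 3 := fun a ha =>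
    (mem_centralizer_singleton_iff.1 (hS (hEle ha))).symm
  have hE2 : IsPGroup 2 E := hE₀p.map _
  have hcx : ∀ m ∈ M, t ^ 2 * m = m * t ^ 2 → m ∈ zpowers t := fun m hm hc =>
    h.cent_x_local (k2 := fun a ha => by
      obtain ⟨j, hj⟩ := hE2 ⟨a, ha⟩
      exact ⟨j, congrArg Subtype.val hj⟩) hEn hzE' hEc hm hc
  -- the quotient
  set π := QuotientGroup.mk' E₀ with hπ
  have hsurj : Function.Surjective π := QuotientGroup.mk'_surjective _
  have hker : π.ker = E₀ := QuotientGroup.ker_mk' _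
  set xM : M := ⟨t ^ 2, hxM⟩ with hxMdef
  set xb := π xM with hxb
  have hpow : xb ^ 3 = 1 := by
    rw [hxb, ← map_pow, show xM ^ 3 = 1 from Subtype.ext h.x_cube, map_one]
  have hxne : xb ≠ 1 := by
    intro e
    have h2 : xM ∈ E₀ := hker.le (MonoidHom.mem_ker.2 e)
    obtain ⟨j, hj⟩ := hE₀p ⟨xM, h2⟩
    have : orderOf (t ^ 2) ∣ 2 ^ j := orderOf_dvd_of_pow_eq_one (congrArg Subtype.val (congrArg Subtype.val hj))
    rw [h.orderOf_x] at this
    have := Nat.prime_three.dvd_of_dvd_pow this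
    omega
  have hxord : orderOf xb = 3 := orderOf_eq_prime hpow hxne
  have hfix : ∀ a : M ⧸ E₀, xb * a = a * xb → a ∈ zpowers xb := by
    intro a hc
    obtain ⟨m, rfl⟩ := hsurj a
    have hm' : (m : G)⁻¹ * (t ^ 2 * m * (t ^ 2)⁻¹) ∈ E := by
      refine ⟨m⁻¹ * (xM * m * xM⁻¹), hker.le (MonoidHom.mem_ker.2 ?_), rfl⟩
      rw [map_mul, map_mul, map_mul, map_inv, map_inv, ← hxb, hc, mul_inv_cancel_right, inv_mul_cancel]
    obtain ⟨c, hc1, hc2⟩ := exists_fixed_coset hE2 h.x_cube (fun e he => hEn _ hxM e he) hm'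
    obtain ⟨e₀, he₀, he₀'⟩ := hc1
    have hcM : c ∈ M := by
      have : (m : G) * ((m : G)⁻¹ * c) ∈ M := mul_mem m.2 (he₀' ▸ e₀.2)
      rwa [mul_inv_cancel_left] at this
    obtain ⟨i, hi⟩ := mem_zpowers_iff.1 (hcx c hcM hc2)
    have htM : t ∈ M := by
      have : (t ^ 2) ^ 2 * t ^ 3 ∈ M := mul_mem (pow_mem hxM 2) (hKM hzK)
      rwa [← pow_mul, ← pow_add, show 2 * 2 + 3 = 6 + 1 from rfl, pow_succ, h.pow_six, one_mul] at this
    have e1 : π m = π ⟨t, htM⟩ ^ i := by
      rw [← map_zpow, hπ, QuotientGroup.mk'_eq_mk']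
      exact ⟨e₀, he₀, Subtype.ext (by
        show (m : G) * (e₀ : G) = _
        rw [SubgroupClass.coe_zpow, hi]
        have : ((e₀ : M) : G) = (m : G)⁻¹ * c := he₀'
        rw [this, mul_inv_cancel_left])⟩
    rw [e1]
    refine zpow_mem (mem_zpowers_iff.2 ⟨2, ?_⟩) i
    rw [hxb, ← map_zpow, hπ, QuotientGroup.mk'_eq_mk']
    refine ⟨⟨t ^ 3, hKM hzK⟩, hzE, Subtype.ext ?_⟩
    show (t ^ 2) ^ (2 : ℤ) * t ^ 3 = t
    rw [show (2 : ℤ) = ((2 : ℕ) : ℤ) from rfl, zpow_natCast, ← pow_mul, ← pow_add,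
      show 2 * 2 + 3 = 6 + 1 from rfl, pow_succ, h.pow_six, one_mul]
  have hCX : centralizer ((zpowers xb : Subgroup _) : Set (M ⧸ E₀)) = zpowers xb := by
    refine le_antisymm (fun a ha => hfix a (mem_centralizer_iff.1 ha xb (mem_zpowers _))) ?_
    intro a ha
    obtain ⟨i, rfl⟩ := mem_zpowers_iff.1 ha
    refine mem_centralizer_iff.2 fun b hb => ?_
    obtain ⟨j, rfl⟩ := mem_zpowers_iff.1 hb
    exact ((Commute.refl xb).zpow_zpow j i).eq
  have htriv : ∀ N : Subgroup (M ⧸ E₀), N.Normal → IsPGroup 2 N → N = ⊥ := by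
    intro N hN hN2
    have h1 : N.comap π ≤ E₀ := Fusion.le_pCore (hN.comap π)
      (hN2.comap_of_ker_isPGroup π (hE₀p.of_equiv (MulEquiv.subgroupCongr hker.symm)))
    rw [← map_comap_eq_self_of_surjective hsurj N, Subgroup.map_eq_bot_iff, hker]
    exact h1
  -- the orbit of `z`
  set B₀ : Subgroup M := (centralizer ({t ^ 3} : Set G)).subgroupOf M with hB₀
  set B : Subgroup (M ⧸ E₀) := B₀.map π with hB
  have hEB : E₀ ≤ B₀ := fun e he => hS (hES e he)
  have hBidx : B.index = B₀.index := by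
    rw [hB, Subgroup.index_map, hker, sup_eq_left.2 hEB, MonoidHom.range_eq_top.2 hsurj, index_top, mul_one]
  have hmod : B.index % 3 = 1 := by
    rw [hBidx]
    refine index_mod_three B₀ xM (Subtype.ext h.x_cube) (h.x_mem_cen) fun m hm => ?_
    have hm' : (m : G)⁻¹ * t ^ 2 * m ∈ centralizer ({t ^ 3} : Set G) := hm
    rw [mem_centralizer_singleton_iff] at hm'
    have ha : (m : G) * t ^ 3 * (m : G)⁻¹ ∈ E := hEn _ m.2 _ hzE'
    have e : t ^ 2 * ((m : G) * t ^ 3 * (m : G)⁻¹) = (m : G) * t ^ 3 * (m : G)⁻¹ * t ^ 2 := by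
      calc t ^ 2 * ((m : G) * t ^ 3 * (m : G)⁻¹)
          = (m : G) * ((m : G)⁻¹ * t ^ 2 * m * t ^ 3) * (m : G)⁻¹ := by group
        _ = _ := by rw [hm']; group
    have := h.eq_z_of_fixed (by rw [Invol.orderOf_conj_eq, h.orderOf_z]) e (hEc _ ha)
    show (m : G) ∈ centralizer ({t ^ 3} : Set G)
    rw [mem_centralizer_singleton_iff]
    exact mul_inv_eq_iff_eq_mul.1 this
  have hB1 : B.index ≠ 1 := by
    rw [hBidx, Ne, index_eq_one]
    intro hT
    obtain ⟨m, hm, hm'⟩ := hmove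
    have : (⟨m, hm⟩ : M) ∈ B₀ := hT ▸ mem_top _
    exact hm' (mem_centralizer_singleton_iff.1 this)
  -- the image of the Sylow subgroup
  set Sb : Subgroup (M ⧸ E₀) := (SM : Subgroup M).map π with hSb
  let SbS : Sylow 2 (M ⧸ E₀) := SM.mapSurjective hsurj
  have hSbS : (SbS : Subgroup (M ⧸ E₀)) = Sb := Sylow.coe_mapSurjective _ _
  have hcardS : Nat.card Sb * Nat.card E = Nat.card (S : Subgroup G) := by
    have hle : E₀ ≤ (SM : Subgroup M) := fun e he => hES e he
    have h1 := card_mul_index ((π.domRestrict (SM : Subgroup M)).ker)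
    rw [index_ker, MonoidHom.domRestrict_range, MonoidHom.ker_domRestrict, ← hSb] at h1
    have h2 : Nat.card (π.ker.subgroupOf (SM : Subgroup M)) = Nat.card E := by
      rw [Nat.card_congr (subgroupOfEquivOfLe (hker.le.trans hle)).toEquiv, hker, hE,
        card_map_of_injective M.subtype_injective]
    rw [h2, show Nat.card (SM : Subgroup M) = Nat.card (S : Subgroup G) from
      Nat.card_congr (subgroupOfEquivOfLe hSM).toEquiv, mul_comm] at h1
    exact h1
  have hSbB : Sb ≤ B := map_mono fun s hs => hS hs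
  have hxbB : xb ∈ B := ⟨xM, h.x_mem_cen, rfl⟩
  have hSbodd : ¬ 2 ∣ Sb.index := hSbS ▸ SbS.not_dvd_index
  have hnorm3 : (∀ s ∈ (S : Subgroup G), t ^ 2 * s * (t ^ 2)⁻¹ ∈ (S : Subgroup G)) → Nat.card Sb % 3 = 1 := by
    intro hn
    refine card_mod_three_of_fpf hpow (fun p hp => ?_) fun p hp hc => ?_
    · obtain ⟨s, hs, rfl⟩ := hp
      exact ⟨xM * s * xM⁻¹, hn s hs, by rw [map_mul, map_mul, map_inv]⟩
    · by_contra hp1
      obtain ⟨j, hj⟩ := SbS.2 ⟨p, hSbS.symm ▸ hp⟩
      have hd1 : orderOf p ∣ 2 ^ j := orderOf_dvd_of_pow_eq_one (congrArg Subtype.val hj)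
      have hd2 : orderOf p ∣ 3 := hxord ▸ orderOf_dvd_of_mem_zpowers (hfix p hc)
      exact hp1 (orderOf_eq_one_iff.1 (Nat.eq_one_of_dvd_coprimes
        ((show Nat.Coprime 2 3 by norm_num).pow_left j) hd1 hd2))
  have hX : Nat.card (zpowers xb) = 3 := by rw [Nat.card_zpowers, hxord]
  refine ⟨E, hEle, hzE', hEn, ?_⟩
  have hSeq : Nat.card Sb = 1 → E = (S : Subgroup G) := fun h1 =>
    eq_of_le_of_card_ge hEle (by rw [← hcardS, h1, one_mul])
  rcases Cfsg.Agent.S3331.result (zpowers xb) hX hCX with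
    ⟨N, hN, hnil, hcop, hq⟩ | ⟨N, hN, hcom, hsq, ⟨e⟩⟩ | ⟨⟨e⟩⟩
  · have hNodd : ¬ 2 ∣ Nat.card N := by
      intro h2
      obtain ⟨P⟩ := (inferInstance : Nonempty (Sylow 2 N))
      have hPn : (P : Subgroup N).Normal :=
        ((Group.isNilpotent_of_finite_tfae (G := ↥N)).out 0 3 rfl rfl).1 hnil 2 inferInstance P
      haveI := P.characteristic_of_normal hPn
      haveI := hN
      have hbot := htriv ((P : Subgroup N).map N.subtype) ConjAct.normal_of_characteristic_of_normal (P.2.map _)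
      rw [map_eq_bot_iff_of_injective _ N.subtype_injective] at hbot
      have := P.card_eq_multiplicity
      rw [hbot, card_bot] at this
      have hpos := Nat.Prime.factorization_pos_of_dvd Nat.prime_two Nat.card_pos.ne' h2
      have h' : 2 ^ 1 ≤ 2 ^ (Nat.card N).factorization 2 := Nat.pow_le_pow_right two_pos hpos
      omega
    have hdvdS : Nat.card Sb ∣ Nat.card ((M ⧸ E₀) ⧸ N) := by
      obtain ⟨k, hk⟩ := IsPGroup.iff_card.1 SbS.2
      rw [hSbS] at hk
      have hdd : Nat.card Sb ∣ Nat.card N * N.index := card_mul_index N ▸ card_subgroup_dvd_card Sb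
      rw [hk] at hdd ⊢
      exact ((Nat.prime_two.coprime_iff_not_dvd.2 hNodd).pow_left k).dvd_of_dvd_mul_left hdd
    have htop : SolvTop M E := by
      have hker2 : (Nat.card (N.comap π)) = Nat.card E₀ * Nat.card N := by
        have h1 := card_mul_index ((π.domRestrict (N.comap π)).ker)
        rw [index_ker, MonoidHom.domRestrict_range, map_comap_eq_self_of_surjective hsurj, MonoidHom.ker_domRestrict,
          Nat.card_congr (subgroupOfEquivOfLe (ker_le_comap π N)).toEquiv, hker] at h1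
        exact h1.symm
      refine ⟨(N.comap π).map M.subtype, map_subtype_le _, map_mono ?_, ?_, ?_, ?_⟩
      · exact hker.ge.trans (ker_le_comap π N)
      · rintro m hm _ ⟨p, hp, rfl⟩
        exact ⟨⟨m, hm⟩ * p * ⟨m, hm⟩⁻¹, (hN.comap π).conj_mem p hp _, rfl⟩
      · rw [card_map_of_injective M.subtype_injective, hker2]
        refine Nat.Coprime.mul_left ?_ hcop
        obtain ⟨j, hj⟩ := IsPGroup.iff_card.1 hE₀p
        rw [hj]
        exact (show Nat.Coprime 2 3 by norm_num).pow_left j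
      · have hM := card_mul_index (N.comap π)
        rw [index_comap_of_surjective _ hsurj, index_eq_card] at hM
        rw [card_map_of_injective M.subtype_injective]
        rcases hq with e | ⟨⟨e⟩⟩
        · left; rw [← hM, e]
        · right; rw [← hM, Nat.card_congr e.toEquiv, Nat.card_perm, Nat.card_fin]; rfl
    obtain ⟨k, hk⟩ := IsPGroup.iff_card.1 SbS.2
    rw [hSbS] at hk
    by_cases hn : ∀ s ∈ (S : Subgroup G), t ^ 2 * s * (t ^ 2)⁻¹ ∈ (S : Subgroup G)
    · refine Or.inl ⟨hn, hSeq ?_, htop⟩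
      have h3 := hnorm3 hn
      rcases hq with e | ⟨⟨e⟩⟩
      · rw [e] at hdvdS
        rw [hk] at hdvdS ⊢
        exact Nat.eq_one_of_dvd_coprimes ((show Nat.Coprime 2 3 by norm_num).pow_left k) dvd_rfl hdvdS
      · rw [Nat.card_congr e.toEquiv, Nat.card_perm, Nat.card_fin,
          show Nat.factorial 3 = 2 * 3 from rfl, hk] at hdvdS
        have hd : 2 ^ k ∣ 2 := ((show Nat.Coprime 2 3 by norm_num).pow_left k).dvd_of_dvd_mul_right hdvdS
        rw [hk] at h3 ⊢
        rcases (Nat.dvd_prime Nat.prime_two).1 hd with e' | e' <;> omega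
    · refine Or.inr ⟨hn, Or.inl ⟨?_, htop⟩⟩
      have hne1 : Nat.card Sb ≠ 1 := fun h1 => hn fun s hs => by
        rw [← hSeq h1] at hs ⊢
        exact hEn _ hxM s hs
      rw [← hcardS]
      congr 1
      rcases hq with e | ⟨⟨e⟩⟩
      · rw [e, hk] at hdvdS
        exact absurd (hk ▸ Nat.eq_one_of_dvd_coprimes ((show Nat.Coprime 2 3 by norm_num).pow_left k) dvd_rfl hdvdS) hne1
      · rw [Nat.card_congr e.toEquiv, Nat.card_perm, Nat.card_fin,
          show Nat.factorial 3 = 2 * 3 from rfl, hk] at hdvdS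
        have hd : 2 ^ k ∣ 2 := ((show Nat.Coprime 2 3 by norm_num).pow_left k).dvd_of_dvd_mul_right hdvdS
        rcases (Nat.dvd_prime Nat.prime_two).1 hd with e' | e'
        · exact absurd (hk.trans e') hne1
        · exact hk.trans e'
  · exfalso
    have hN1 : N = ⊥ := htriv N hN (fun a => ⟨1, Subtype.ext (hsq a a.2)⟩)
    subst hN1
    have hcard : Nat.card (M ⧸ E₀) = 60 := by
      rw [Nat.card_congr (QuotientGroup.quotientBot (G := M ⧸ E₀)).symm.toEquiv, Nat.card_congr e.toEquiv,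
        nat_card_alternatingGroup, Nat.card_fin]
      rfl
    have h4 : Nat.card Sb = 4 := by
      have := SbS.card_eq_multiplicity
      rw [hSbS, hcard] at this
      rw [this, show (60 : ℕ) = 2 ^ 2 * 15 from rfl, Nat.factorization_mul (by norm_num) (by norm_num),
        Finsupp.add_apply, Nat.factorization_pow, Finsupp.smul_apply, Nat.Prime.factorization_self Nat.prime_two,
        Nat.factorization_eq_zero_of_not_dvd (by norm_num : ¬ 2 ∣ 15)]
      rfl
    have hd4 : 4 ∣ Nat.card B := h4 ▸ card_dvd_of_le hSbB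
    have hd3 : 3 ∣ Nat.card B := hX ▸ card_dvd_of_le (zpowers_le.2 hxbB)
    have hd12 : 12 ∣ Nat.card B := Nat.Coprime.mul_dvd_of_dvd_of_dvd (show Nat.Coprime 4 3 by norm_num) hd4 hd3
    obtain ⟨j, hj⟩ := hd12
    have := card_mul_index B
    rw [hcard, hj, mul_assoc] at this
    have hij : j * B.index = 5 := by omega
    have hd5 : B.index ∣ 5 := ⟨j, by rw [← hij, mul_comm]⟩
    rcases (Nat.dvd_prime (by norm_num)).1 hd5 with e' | e' <;> omega
  · haveI : Fact (Nat.Prime 7) := ⟨by norm_num⟩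
    have hcard : Nat.card (M ⧸ E₀) = 168 := by
      have := Linear.Two.card_PSL_two (F := ZMod 7)
      rw [ZMod.card, show Nat.gcd 2 (7 - 1) = 2 from rfl] at this
      rw [Nat.card_congr e.toEquiv]
      omega
    have h8 : Nat.card Sb = 8 := by
      have := SbS.card_eq_multiplicity
      rw [hSbS, hcard] at this
      rw [this, show (168 : ℕ) = 2 ^ 3 * 21 from rfl, Nat.factorization_mul (by norm_num) (by norm_num),
        Finsupp.add_apply, Nat.factorization_pow, Finsupp.smul_apply, Nat.Prime.factorization_self Nat.prime_two,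
        Nat.factorization_eq_zero_of_not_dvd (by norm_num : ¬ 2 ∣ 21)]
      rfl
    have hn : ¬ ∀ s ∈ (S : Subgroup G), t ^ 2 * s * (t ^ 2)⁻¹ ∈ (S : Subgroup G) := fun hn => by
      have := hnorm3 hn
      omega
    refine Or.inr ⟨hn, Or.inr ⟨by rw [← hcardS, h8], ?_, ?_⟩⟩
    · rw [← card_mul_index E₀, index_eq_card, hcard, hE, card_map_of_injective M.subtype_injective, mul_comm]
    · intro a ha han
      haveI hsimp : IsSimpleGroup (M ⧸ E₀) := by
        haveI : IsSimpleGroup (Matrix.ProjectiveSpecialLinearGroup (Fin 2) (ZMod 7)) :=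
          Walter3.psl_simple (by rw [ZMod.card]; norm_num)
        exact e.isSimpleGroup
      set N := normalizer (Sb : Set (M ⧸ E₀)) with hNdef
      have hxN : ∀ g : M ⧸ E₀, g * xb * g⁻¹ ∉ N := by
        intro g hg
        have hP : Nat.card (Sb.map (MulAut.conj g⁻¹).toMonoidHom) % 3 = 1 := by
          refine card_mod_three_of_fpf hpow ?_ ?_
          · rintro _ ⟨p, hp, rfl⟩
            refine ⟨(g * xb * g⁻¹) * p * (g * xb * g⁻¹)⁻¹, (mem_normalizer_iff.1 hg p).1 hp, ?_⟩
            simp only [MulEquiv.coe_toMonoidHom, MulAut.conj_apply]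
            group
          · intro p hp hc
            by_contra hp1
            obtain ⟨j, hj⟩ := (SbS.2.map (MulAut.conj g⁻¹).toMonoidHom) ⟨p, hSbS.symm ▸ hp⟩
            have hd1 : orderOf p ∣ 2 ^ j := orderOf_dvd_of_pow_eq_one (congrArg Subtype.val hj)
            have hd2 : orderOf p ∣ 3 := hxord ▸ orderOf_dvd_of_mem_zpowers (hfix p hc)
            exact hp1 (orderOf_eq_one_iff.1 (Nat.eq_one_of_dvd_coprimes
              ((show Nat.Coprime 2 3 by norm_num).pow_left j) hd1 hd2))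
        rw [card_map_of_injective (MulEquiv.injective _), h8] at hP
        omega
      have hNS : N = Sb := by
        have hle : Sb ≤ N := le_normalizer
        refine (eq_of_le_of_card_ge hle ?_).symm
        obtain ⟨d, hd⟩ := card_dvd_of_le hle
        have hmul := card_mul_index N
        rw [hd, h8, hcard, mul_assoc] at hmul
        have hd21 : d * N.index = 21 := by omega
        rw [hd, h8]
        have hd3 : ¬ 3 ∣ d := by
          intro h3
          obtain ⟨y, hy⟩ := exists_prime_orderOf_dvd_card' (G := N) 3 (hd ▸ dvd_mul_of_dvd_right h3 _)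
          let X3 : Sylow 3 (M ⧸ E₀) := Sylow.ofCard (zpowers xb) (by
            rw [hX, hcard, show (168 : ℕ) = 3 ^ 1 * 56 from rfl, Nat.factorization_mul (by norm_num) (by norm_num),
              Finsupp.add_apply, Nat.Prime.factorization_pow Nat.prime_three, Finsupp.single_eq_same,
              Nat.factorization_eq_zero_of_not_dvd (by norm_num : ¬ 3 ∣ 56)]
            rfl)
          obtain ⟨g, hg⟩ := Invol.exists_conj_mem_sylow X3 (IsPGroup.of_card (n := 1)
            (show Nat.card (zpowers (y : M ⧸ E₀)) = 3 ^ 1 by rw [Nat.card_zpowers, Subgroup.orderOf_coe, hy, pow_one]))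
          have hgy : g * (y : M ⧸ E₀) * g⁻¹ ∈ zpowers xb := by
            have := hg _ (mem_zpowers (y : M ⧸ E₀))
            rwa [show ((X3 : Sylow 3 (M ⧸ E₀)) : Subgroup (M ⧸ E₀)) = zpowers xb from Sylow.coe_ofCard _ _] at this
          have hgen : zpowers (g * (y : M ⧸ E₀) * g⁻¹) = zpowers xb := eq_of_le_of_card_ge (zpowers_le.2 hgy)
            (by rw [hX, Nat.card_zpowers, Invol.orderOf_conj_eq, Subgroup.orderOf_coe, hy])
          obtain ⟨i, hi⟩ := mem_zpowers_iff.1 (hgen.symm ▸ mem_zpowers xb : xb ∈ zpowers (g * (y : M ⧸ E₀) * g⁻¹))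
          refine hxN g⁻¹ ?_
          rw [← hi, conj_zpow, inv_inv, show g⁻¹ * (g * (y : M ⧸ E₀) ^ i * g⁻¹) * g = (y : M ⧸ E₀) ^ i by group]
          exact zpow_mem y.2 i
        have hd21' : d ∣ 21 := ⟨N.index, hd21.symm⟩
        have : d = 1 ∨ d = 7 := by
          have := Nat.le_of_dvd (by norm_num) hd21'
          interval_cases d <;> omega
        rcases this with rfl | rfl
        · exact le_refl _
        exfalso
        have h3 : N.index = 3 := by omega
        have hcore : N.normalCore = ⊥ := (N.normalCore_normal.eq_bot_or_eq_top).resolve_right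
          fun htop => by
            have : N = ⊤ := top_le_iff.1 (htop ▸ normalCore_le N)
            rw [this, index_top] at h3
            omega
        have hker' : (MulAction.toPermHom (M ⧸ E₀) ((M ⧸ E₀) ⧸ N)).ker = ⊥ := by
          rw [← Subgroup.normalCore_eq_ker, hcore]
        have := Nat.card_le_card_of_injective _ ((MonoidHom.ker_eq_bot_iff _).1 hker')
        rw [hcard, Nat.card_perm, ← index_eq_card, h3] at this
        norm_num [Nat.factorial] at this
      have haN : π ⟨a, ha⟩ ∈ N := by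
        have hle : Sb.map (MulAut.conj (π ⟨a, ha⟩)).toMonoidHom ≤ Sb := by
          rintro _ ⟨_, ⟨s, hs, rfl⟩, rfl⟩
          exact ⟨⟨a, ha⟩ * s * ⟨a, ha⟩⁻¹, han s hs, by
            rw [map_mul, map_mul, map_inv]
            rfl⟩
        exact Core.mem_normalizer_iff_map_conj.2 (eq_of_le_of_card_ge hle
          (le_of_eq (Nat.card_congr (Subgroup.equivMapOfInjective Sb (MulAut.conj (π ⟨a, ha⟩)).toMonoidHom (MulEquiv.injective _)).toEquiv)))
      rw [hNS] at haN
      obtain ⟨s, hs, hsa⟩ := haN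
      have he : (s⁻¹ * ⟨a, ha⟩ : M) ∈ E₀ := hker.le (MonoidHom.mem_ker.2 (by
        rw [map_mul, map_inv, hsa, inv_mul_cancel]))
      have := mul_mem (show (s : G) ∈ (S : Subgroup G) from hs) (hES _ he)
      simpa using this

end Hyp

end Cfsg.Lib.OrderSixCHZ
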