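import Cfsg.Agent.Lib.OrderSixCHZ.Local
import Cfsg.Agent.S1545
import Cfsg.Agent.Lib.Walter3.Coprime

/-!
# An `x`-invariant odd subgroup moving `z`, and the fixed point count on a 2-subgroup
-/

set_option autoImplicit false
set_option linter.style.haveILetI false
set_option linter.unusedSectionVars false

namespace Cfsg.Lib.OrderSixCHZ

open Subgroup
open scoped Pointwise

universe u

variable {G : Type u} [Group G] [Finite G] {t : G}

theorem mem_norm {A : Subgroup G} {g : G} (hg : ∀ a ∈ A, g * a * g⁻¹ ∈ A) : g ∈ normalizer (A : Set G) :=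
  Core.mem_normalizer_iff_map_conj.2 (eq_of_le_of_card_ge (by rintro _ ⟨a, ha, rfl⟩; exact hg a ha)
    (le_of_eq (Nat.card_congr
      (Subgroup.equivMapOfInjective A (MulAut.conj g).toMonoidHom (MulEquiv.injective _)).toEquiv)))

/-- An element of order three normalises a Sylow subgroup of a subgroup of order prime to three that it
normalises. -/
theorem exists_invariant_sylow_of_count {P : Subgroup G} {x : G} (hx3 : x ^ 3 = 1)
    (hxP : x ∈ normalizer (P : Set G)) {r : ℕ} [Fact r.Prime] (h3 : ¬ 3 ∣ Nat.card (Sylow r P)) :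
    ∃ R : Sylow r P, ∀ a : P, a ∈ (R : Subgroup P) → ∃ b : P, b ∈ (R : Subgroup P) ∧ (b : G) = x * a * x⁻¹ := by
  haveI : Fact (Nat.Prime 3) := ⟨Nat.prime_three⟩
  set φ : MulAut P := P.normalizerMonoidHom ⟨x, hxP⟩ with hφ
  have hφ3 : φ ^ 3 = 1 := by
    rw [hφ, ← map_pow, show (⟨x, hxP⟩ : normalizer (P : Set G)) ^ 3 = 1 from Subtype.ext hx3, map_one]
  set σ : Equiv.Perm (Sylow r P) := MulAction.toPermHom (MulAut P) (Sylow r P) φ with hσ
  have hσ3 : σ ^ 3 = 1 := by rw [hσ, ← map_pow, hφ3, map_one]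
  have hp : IsPGroup 3 (zpowers σ) := fun g => ⟨1, by
    obtain ⟨g, k, rfl⟩ := g
    apply Subtype.ext
    show (σ ^ k) ^ (3 ^ 1) = 1
    rw [pow_one, ← zpow_natCast, ← zpow_mul, mul_comm, zpow_mul, zpow_natCast, hσ3, one_zpow]⟩
  obtain ⟨R, hR⟩ := hp.nonempty_fixed_point_of_prime_not_dvd_card (Sylow r P) h3
  refine ⟨R, fun a ha => ⟨φ a, ?_, rfl⟩⟩
  have h1 : φ • R = R := hR ⟨σ, mem_zpowers σ⟩
  have h2 : φ a ∈ φ • (R : Subgroup P) := Subgroup.mem_smul_pointwise_iff_exists _ _ _ |>.2 ⟨a, ha, rfl⟩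
  rw [← h1]
  exact h2

/-- The same when the order of the subgroup is prime to three. -/
theorem exists_invariant_sylow {P : Subgroup G} {x : G} (hx3 : x ^ 3 = 1) (hxP : x ∈ normalizer (P : Set G))
    (h3 : ¬ 3 ∣ Nat.card P) {r : ℕ} [Fact r.Prime] :
    ∃ R : Sylow r P, ∀ a : P, a ∈ (R : Subgroup P) → ∃ b : P, b ∈ (R : Subgroup P) ∧ (b : G) = x * a * x⁻¹ :=
  exists_invariant_sylow_of_count hx3 hxP fun hd => h3 (hd.trans (by
    obtain ⟨R₀⟩ := (inferInstance : Nonempty (Sylow r P))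
    rw [R₀.card_eq_index_normalizer]
    exact ⟨_, (index_mul_card (normalizer ((R₀ : Subgroup P) : Set P))).symm⟩))

namespace Hyp

variable (h : Hyp t)
include h

/-- An odd subgroup of a local subgroup, normalised by `x` and moving `z`. -/
theorem exists_moving {S : Sylow 2 G} (hS : (S : Subgroup G) ≤ centralizer ({t ^ 3} : Set G))
    {M E : Subgroup G} (hSM : (S : Subgroup G) ≤ M) (hxM : t ^ 2 ∈ M) (hE : LocalData t S M E)
    (htop : SolvTop M E) (hmove : ∃ m ∈ M, m * t ^ 3 ≠ t ^ 3 * m) :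
    ∃ R : Subgroup G, R ≤ M ∧ (Nat.card R).Coprime 6 ∧ (∀ a ∈ R, t ^ 2 * a * (t ^ 2)⁻¹ ∈ R) ∧
      ∃ a ∈ R, a * t ^ 3 ≠ t ^ 3 * a := by
  classical
  haveI : Fact (Nat.Prime 3) := ⟨Nat.prime_three⟩
  haveI : Fact (Nat.Prime 2) := ⟨Nat.prime_two⟩
  obtain ⟨P, hPM, hEP, hPn, hP3, hidx⟩ := htop
  have hP3' : ¬ 3 ∣ Nat.card P := fun hd => absurd (Nat.eq_one_of_dvd_coprimes hP3 hd dvd_rfl) (by norm_num)
  have hxN : t ^ 2 ∈ normalizer (P : Set G) := mem_norm (fun p hp => hPn _ hxM p hp)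
  have hEC : E ≤ centralizer ({t ^ 3} : Set G) := hE.le_sylow.trans hS
  by_contra hcon
  push Not at hcon
  set B : Subgroup G := M ⊓ centralizer ({t ^ 3} : Set G) with hB
  have hSB : (S : Subgroup G) ≤ B := le_inf hSM hS
  -- every prime power divisor of `|P|` divides `|B|`
  have hdvd : Nat.card P ∣ Nat.card B := by
    rw [← Nat.factorization_le_iff_dvd Nat.card_pos.ne' Nat.card_pos.ne']
    intro r
    by_cases hr : r.Prime
    swap
    · rw [Nat.factorization_eq_zero_of_not_prime _ hr]; exact Nat.zero_le _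
    haveI : Fact r.Prime := ⟨hr⟩
    by_cases hr2 : r = 2
    · subst hr2
      have h1 : Nat.card (S : Subgroup G) ∣ Nat.card B := card_dvd_of_le hSB
      rw [S.card_eq_multiplicity] at h1
      exact ((Nat.factorization_le_iff_dvd Nat.card_pos.ne' Nat.card_pos.ne').2 (card_subgroup_dvd_card P) 2).trans
        ((Nat.Prime.pow_dvd_iff_le_factorization Nat.prime_two Nat.card_pos.ne').1 h1)
    by_cases hr3 : r = 3
    · subst hr3
      rw [Nat.factorization_eq_zero_of_not_dvd hP3']; exact Nat.zero_le _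
    obtain ⟨R₀, hR₀⟩ := exists_invariant_sylow h.x_cube hxN hP3' (r := r)
    set R : Subgroup G := (R₀ : Subgroup P).map P.subtype with hR
    have hcardR : Nat.card R = r ^ (Nat.card P).factorization r := by
      rw [hR, card_map_of_injective P.subtype_injective, R₀.card_eq_multiplicity]
    have hcop : (Nat.card R).Coprime 6 := by
      rw [hcardR, show (6 : ℕ) = 2 * 3 from rfl]
      exact (Nat.Coprime.mul_right ((Nat.coprime_primes hr Nat.prime_two).2 hr2)
        ((Nat.coprime_primes hr Nat.prime_three).2 hr3)).pow_left _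
    have hRx : ∀ a ∈ R, t ^ 2 * a * (t ^ 2)⁻¹ ∈ R := by
      rintro _ ⟨a, ha, rfl⟩
      obtain ⟨b, hb, e⟩ := hR₀ a ha
      exact ⟨b, hb, e⟩
    have hRM : R ≤ M := (map_subtype_le _).trans hPM
    have hRB : R ≤ B := le_inf hRM fun a ha => mem_centralizer_singleton_iff.2 (hcon R hRM hcop hRx a ha)
    have h2 := card_dvd_of_le hRB
    rw [hcardR] at h2
    exact (Nat.Prime.pow_dvd_iff_le_factorization hr Nat.card_pos.ne').1 h2
  -- so the index of the stabiliser is `1`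
  have hBM : B ≤ M := inf_le_left
  have hi : (B.subgroupOf M).index % 3 = 1 := by
    refine index_mod_three (B.subgroupOf M) ⟨t ^ 2, hxM⟩ (Subtype.ext h.x_cube) ⟨hxM, h.x_mem_cen⟩ fun m hm => ?_
    have hm' : (m : G)⁻¹ * t ^ 2 * m ∈ centralizer ({t ^ 3} : Set G) := hm.2
    rw [mem_centralizer_singleton_iff] at hm'
    have ha : (m : G) * t ^ 3 * (m : G)⁻¹ ∈ E := hE.norm _ m.2 _ hE.z_mem
    have e : t ^ 2 * ((m : G) * t ^ 3 * (m : G)⁻¹) = (m : G) * t ^ 3 * (m : G)⁻¹ * t ^ 2 := by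
      calc t ^ 2 * ((m : G) * t ^ 3 * (m : G)⁻¹)
          = (m : G) * ((m : G)⁻¹ * t ^ 2 * m * t ^ 3) * (m : G)⁻¹ := by group
        _ = _ := by rw [hm']; group
    have := h.eq_z_of_fixed (by rw [Invol.orderOf_conj_eq, h.orderOf_z]) e
      (mem_centralizer_singleton_iff.1 (hEC ha)).symm
    exact ⟨m.2, mem_centralizer_singleton_iff.2 (mul_inv_eq_iff_eq_mul.1 this)⟩
  have hcardB : Nat.card B * (B.subgroupOf M).index = Nat.card M := by
    rw [← Nat.card_congr (subgroupOfEquivOfLe hBM).toEquiv]; exact card_mul_index _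
  have hodd : ¬ 2 ∣ (B.subgroupOf M).index := by
    intro h2
    have hS2 : ¬ 2 ∣ ((S : Subgroup G).subgroupOf M).index := (S.subtype hSM).not_dvd_index
    exact hS2 (h2.trans (index_dvd_of_le (fun a ha => hSB ha)))
  obtain ⟨j, hj⟩ := hdvd
  have hd6 : (B.subgroupOf M).index ∣ 6 := by
    rw [hj] at hcardB
    rcases hidx with e | e <;> rw [e, mul_assoc] at hcardB <;>
      have e2 := Nat.eq_of_mul_eq_mul_left Nat.card_pos hcardB
    · exact ⟨2 * j, by rw [← mul_assoc, mul_comm _ 2, mul_assoc, mul_comm _ j, e2]; rfl⟩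
    · exact ⟨j, by rw [mul_comm, e2]⟩
  have h1 : (B.subgroupOf M).index = 1 := by
    have := Nat.le_of_dvd (by norm_num) hd6
    interval_cases (B.subgroupOf M).index <;> omega
  obtain ⟨m, hm, hm'⟩ := hmove
  have := (subgroupOf_eq_top.1 (index_eq_one.1 h1)) hm
  exact hm' (mem_centralizer_singleton_iff.1 this.2)

/-- The count of fixed points. -/
theorem card_eight_mul {M R H : Subgroup G} {E : Subgroup G} {S : Subgroup G} (hS : S ≤ centralizer ({t ^ 3} : Set G))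
    (hE : LocalData t S M E) (hRM : R ≤ M) (hR6 : (Nat.card R).Coprime 6)
    (hRx : ∀ a ∈ R, t ^ 2 * a * (t ^ 2)⁻¹ ∈ R) (hmove : ∃ a ∈ R, a * t ^ 3 ≠ t ^ 3 * a)
    (hH : IsPGroup 2 H) (hHC : H ≤ centralizer ({t ^ 3} : Set G)) (hzH : t ^ 3 ∈ H)
    (hHx : ∀ a ∈ H, t ^ 2 * a * (t ^ 2)⁻¹ ∈ H) (hHR : ∀ r ∈ R, ∀ a ∈ H, r * a * r⁻¹ ∈ H) :
    Nat.card H = 8 * Nat.card ↥(H ⊓ centralizer (R : Set G)) := by
  haveI : Fact (Nat.Prime 2) := ⟨Nat.prime_two⟩
  set X : Subgroup G := zpowers (t ^ 2) with hXdef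
  have hX : Nat.card X = 3 := by rw [hXdef, Nat.card_zpowers, h.orderOf_x]
  have hxN : t ^ 2 ∈ normalizer (R : Set G) := mem_norm hRx
  have hHc : ∀ a ∈ H, t ^ 3 * a = a * t ^ 3 := fun a ha => (mem_centralizer_singleton_iff.1 (hHC ha)).symm
  have hRX : R ⊓ X = ⊥ := by
    rw [eq_bot_iff]
    intro a ha
    have h1 : orderOf a ∣ Nat.card R := Subgroup.orderOf_dvd_natCard R ha.1
    have h2 : orderOf a ∣ 3 := hX ▸ Subgroup.orderOf_dvd_natCard X ha.2
    rw [mem_bot, ← orderOf_eq_one_iff]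
    exact Nat.eq_one_of_dvd_coprimes (hR6.coprime_dvd_right (show 3 ∣ 6 by norm_num)) h1 h2
  have hcard : Nat.card ↥(R ⊔ X) ∣ Nat.card R * 3 := by
    rw [← hX]
    exact Walter3.card_sup_dvd (zpowers_le.2 hxN)
  obtain ⟨n, hn⟩ := IsPGroup.iff_card.1 hH
  have hcop : Nat.Coprime (Nat.card H) (Nat.card ↥(R ⊔ X)) := by
    rw [hn]
    refine (Nat.Coprime.coprime_dvd_right hcard ?_).pow_left n
    exact Nat.Coprime.mul_right (hR6.coprime_dvd_right (show 2 ∣ 6 by norm_num)).symm (by norm_num)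
  have hdisj : H ⊓ (R ⊔ X) = ⊥ := inf_eq_bot_of_coprime hcop
  have hUn : ∀ e ∈ X, ∀ u ∈ R, e * u * e⁻¹ ∈ R := fun e he u hu =>
    (mem_normalizer_iff.1 ((zpowers_le.2 hxN) he) u).1 hu
  have hfpf : ∀ e ∈ X, e ≠ 1 → ∀ u ∈ R, e * u = u * e → u = 1 := by
    intro e he he1 u hu hc
    have hgen : t ^ 2 ∈ zpowers e := by
      have : zpowers e = X := eq_of_le_of_card_ge (zpowers_le.2 he) (by
        rw [hX, Nat.card_zpowers]
        rcases (Nat.dvd_prime Nat.prime_three).1 (hX ▸ Subgroup.orderOf_dvd_natCard X he) with e' | e'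
        · exact absurd (orderOf_eq_one_iff.1 e') he1
        · exact e'.ge)
      rw [this]; exact mem_zpowers _
    obtain ⟨i, hi⟩ := mem_zpowers_iff.1 hgen
    have hxu : t ^ 2 * u = u * t ^ 2 := hi ▸ ((show Commute e u from hc).zpow_left i).eq
    have hEz : ∀ a ∈ E, t ^ 3 * a = a * t ^ 3 := fun a ha => (mem_centralizer_singleton_iff.1 (hS (hE.le_sylow ha))).symm
    have hE2' : ∀ a ∈ E, ∃ j : ℕ, a ^ 2 ^ j = 1 ∨ True := fun _ _ => ⟨0, Or.inr trivial⟩
    have hut : u ∈ zpowers t := by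
      refine h.mem_zpowers_of_comm hxu ?_
      have hm := hE.norm u (hRM hu) _ hE.z_mem
      have e2 : t ^ 2 * (u * t ^ 3 * u⁻¹) = u * t ^ 3 * u⁻¹ * t ^ 2 := by
        have hc' : Commute (t ^ 2) u := hxu
        exact ((hc'.mul_right h.xz_comm).mul_right hc'.inv_right).eq
      exact (mul_inv_eq_iff_eq_mul.1 (h.eq_z_of_fixed (by rw [Invol.orderOf_conj_eq, h.orderOf_z]) e2 (hEz _ hm))).symm
    have h1 : orderOf u ∣ 6 := h.ord ▸ orderOf_dvd_of_mem_zpowers hut
    exact orderOf_eq_one_iff.1 (Nat.eq_one_of_dvd_coprimes hR6 (Subgroup.orderOf_dvd_natCard R hu) h1)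
  have hHn : ∀ g ∈ R ⊔ X, ∀ a ∈ H, g * a * g⁻¹ ∈ H := by
    have : R ⊔ X ≤ normalizer (H : Set G) := sup_le (fun r hr => mem_norm (hHR r hr))
      (zpowers_le.2 (mem_norm hHx))
    exact fun g hg a ha => (mem_normalizer_iff.1 (this hg) a).1 ha
  have hmain := Cfsg.Agent.S1545.result R X H (fun e => by
      obtain ⟨a, ha, hne⟩ := hmove
      rw [e, mem_bot] at ha
      exact hne (by rw [ha, one_mul, mul_one])) (fun e => by rw [e, card_bot] at hX; omega) hRX hUn hfpf hHn hdisj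
    (haveI := hH.isNilpotent; inferInstance) hcop
  have hCE : H ⊓ centralizer (X : Set G) = zpowers (t ^ 3) := by
    refine le_antisymm (fun a ha => ?_) (zpowers_le.2 ⟨hzH, ?_⟩)
    · obtain ⟨k, hk⟩ := hH ⟨a, ha.1⟩
      rcases h.eq_one_or_z (congrArg Subtype.val hk)
        (mem_centralizer_iff.1 ha.2 _ (mem_zpowers _)) (hHc a ha.1) with e | e <;>
        change a = _ at e <;> subst e
      · exact one_mem _
      · exact mem_zpowers _
    · refine mem_centralizer_iff.2 fun b hb => ?_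
      obtain ⟨i, rfl⟩ := mem_zpowers_iff.1 hb
      exact (h.xz_comm.zpow_left i).eq
  have hCUE : H ⊓ centralizer ((R ⊔ X : Subgroup G) : Set G) = ⊥ := by
    rw [eq_bot_iff]
    intro a ha
    have h1 : a ∈ zpowers (t ^ 3) := hCE ▸ ⟨ha.1, centralizer_le (le_sup_right : X ≤ R ⊔ X) ha.2⟩
    obtain ⟨r, hr, hne⟩ := hmove
    have h2 := mem_centralizer_iff.1 ha.2 r (mem_sup_left hr)
    obtain ⟨i, rfl⟩ := mem_zpowers_iff.1 h1
    rw [mem_bot]
    rcases Int.even_or_odd i with ⟨j, rfl⟩ | ⟨j, rfl⟩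
    · rw [← two_mul, zpow_mul, zpow_two, h.z_sq, one_zpow]
    · rw [zpow_add, zpow_mul, zpow_two, h.z_sq, one_zpow, one_mul, zpow_one] at h2
      exact absurd h2 hne
  rw [hCE, hCUE, card_bot, one_pow, one_mul, Nat.card_zpowers, h.orderOf_z, hX] at hmain
  rw [hmain]
  norm_num

end Hyp

end Cfsg.Lib.OrderSixCHZ
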