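import Cfsg.Agent.Lib.OrderSixCHZ.SolBase

/-!
# The shape `(Q × W) · S₃`: the Sylow subgroup `Q⟨s⟩` and the minimal parabolic in the centraliser
-/

set_option autoImplicit false
set_option linter.style.haveILetI false
set_option linter.unusedSectionVars false

namespace Cfsg.Lib.OrderSixCHZ

open Subgroup
open scoped Pointwise

universe u

variable {G : Type u} [Group G] [Finite G] {t : G}

/-- A subgroup `S'` of index three, not normal, is a point stabiliser of `S₃`. -/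
theorem quot_of_index_three {X : Type u} [Group X] [Finite X] (S' : Sylow 2 X) (hidx : (S' : Subgroup X).index = 3)
    (hnn : ¬ (S' : Subgroup X).Normal) :
    Cfsg.pCore 2 X = (S' : Subgroup X).normalCore ∧ (Cfsg.pCore 2 X).index = 6 ∧
      Nonempty (X ⧸ Cfsg.pCore 2 X ≃* Equiv.Perm (Fin 3)) := by
  haveI : Fact (Nat.Prime 2) := ⟨Nat.prime_two⟩
  have hcore : Cfsg.pCore 2 X = (S' : Subgroup X).normalCore := by
    haveI : (Cfsg.pCore 2 X).Normal := Cfsg.pCore_normal 2 X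
    refine le_antisymm (normal_le_normalCore.2 fun a ha => ?_) ?_
    · have := S'.3 (IsPGroup.to_sup_of_normal_left (Core.pCore_isPGroup 2 X) S'.2) le_sup_right
      exact (this ▸ (le_sup_left : Cfsg.pCore 2 X ≤ Cfsg.pCore 2 X ⊔ (S' : Subgroup X))) ha
    · exact Fusion.le_pCore (normalCore_normal _) (S'.2.to_le (normalCore_le _))
  let Φ : X →* Equiv.Perm (X ⧸ (S' : Subgroup X)) := MulAction.toPermHom X _
  have hker : Φ.ker = (S' : Subgroup X).normalCore := (normalCore_eq_ker _).symm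
  have hP : Nat.card (Equiv.Perm (X ⧸ (S' : Subgroup X))) = 6 := by
    rw [Nat.card_perm, ← index_eq_card, hidx]; rfl
  have hci : (S' : Subgroup X).normalCore.index = Nat.card Φ.range := by rw [← hker, index_ker]
  have hd : (S' : Subgroup X).normalCore.index ∣ 6 := hci ▸ hP ▸ card_subgroup_dvd_card _
  have h3 : 3 ∣ (S' : Subgroup X).normalCore.index := hidx ▸ index_dvd_of_le (normalCore_le _)
  have h6 : (S' : Subgroup X).normalCore.index = 6 := by
    obtain ⟨k, hk⟩ := h3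
    have hle := Nat.le_of_dvd (by norm_num) hd
    have hne : (S' : Subgroup X).normalCore.index ≠ 3 := fun e => hnn (by
      have h1 := relIndex_mul_index (normalCore_le (S' : Subgroup X))
      rw [hidx, e] at h1
      have h2 : (S' : Subgroup X).normalCore.relIndex S' = 1 := by omega
      have h3' : (S' : Subgroup X).normalCore = S' := le_antisymm (normalCore_le _) (relIndex_eq_one.1 h2)
      rw [← h3']; infer_instance)
    have hpos : 0 < (S' : Subgroup X).normalCore.index := Nat.pos_of_ne_zero index_ne_zero_of_finite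
    omega
  refine ⟨hcore, hcore ▸ h6, ?_⟩
  have hsurj : Function.Surjective Φ :=
    MonoidHom.range_eq_top.1 (eq_top_of_card_eq _ (by rw [← hci, h6, hP]))
  have e3 : (X ⧸ (S' : Subgroup X)) ≃ Fin 3 := Finite.equivFinOfCardEq (by rw [← index_eq_card, hidx])
  exact ⟨(QuotientGroup.quotientMulEquivOfEq (hcore.trans hker.symm)).trans
    ((QuotientGroup.quotientKerEquivOfSurjective Φ hsurj).trans e3.permCongrHom)⟩

/-- The Sylow subgroup `Q⟨s⟩`. -/
structure Frame (t : G) (D : Sol t) where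
  S : Sylow 2 G
  s : G
  hS : (S : Subgroup G) ≤ centralizer ({t ^ 3} : Set G)
  hsS : s ∈ (S : Subgroup G)
  hsQ : s ∉ D.Q
  hQS : D.Q ≤ (S : Subgroup G)
  sinv : s * t ^ 2 * s⁻¹ = (t ^ 2)⁻¹
  s_sq : s * s = 1 ∨ s * s = t ^ 3
  split : ∀ a ∈ (S : Subgroup G), a ∈ D.Q ∨ s⁻¹ * a ∈ D.Q
  card : Nat.card (S : Subgroup G) = 2 * Nat.card D.Q

namespace Sol

variable (h : Hyp t) (D : Sol t)
include h D

theorem exists_frame (hm : D.m = 6) : Nonempty (Frame t D) := by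
  classical
  haveI : Fact (Nat.Prime 2) := ⟨Nat.prime_two⟩
  obtain ⟨s, hsC, ⟨k, hk⟩, hsQ, hsx⟩ := D.inv hm
  set x := t ^ 2 with hx
  have hsz : s * t ^ 3 = t ^ 3 * s := mem_centralizer_singleton_iff.1 hsC
  have hs2 : s * s = 1 ∨ s * s = t ^ 3 := by
    refine h.eq_one_or_z (k := k) ?_ ?_ ?_
    · rw [← pow_two, ← pow_mul, mul_comm, pow_mul, hk, one_pow]
    · have : s * s * x * (s * s)⁻¹ = x := by
        rw [show s * s * x * (s * s)⁻¹ = s * (s * x * s⁻¹) * s⁻¹ by group, hsx,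
          show s * x⁻¹ * s⁻¹ = (s * x * s⁻¹)⁻¹ by group, hsx, inv_inv]
      exact (mul_inv_eq_iff_eq_mul.1 this).symm
    · rw [← mul_assoc, ← hsz, mul_assoc, ← hsz, mul_assoc]
  have hp : IsPGroup 2 (zpowers s) := by
    obtain ⟨j, -, hj⟩ := (Nat.dvd_prime_pow Nat.prime_two).1 (orderOf_dvd_of_pow_eq_one hk)
    exact IsPGroup.of_card (n := j) (by rw [Nat.card_zpowers, hj])
  have hn : zpowers s ≤ normalizer (D.Q : Set G) := zpowers_le.2 (mem_norm (D.Q_norm s hsC))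
  set S0 : Subgroup G := zpowers s ⊔ D.Q with hS0
  have hS0p : IsPGroup 2 S0 := IsPGroup.to_sup_of_normal_right' hp D.Q_two hn
  have hS0C : S0 ≤ centralizer ({t ^ 3} : Set G) := sup_le (zpowers_le.2 hsC) D.Q_le
  obtain ⟨n0, hn0⟩ := IsPGroup.iff_card.1 hS0p
  obtain ⟨nQ, hnQ⟩ := IsPGroup.iff_card.1 D.Q_two
  have hlt : Nat.card D.Q < Nat.card S0 := by
    by_contra hge
    exact hsQ ((eq_of_le_of_card_ge (le_sup_right : D.Q ≤ S0) (not_lt.1 hge)).ge
      (mem_sup_left (mem_zpowers s)))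
  have h2Q : 2 * Nat.card D.Q ≤ Nat.card S0 := by
    rw [hn0, hnQ] at hlt ⊢
    have := (Nat.pow_lt_pow_iff_right (a := 2) (by norm_num)).1 hlt
    rw [← pow_succ']
    exact Nat.pow_le_pow_right two_pos this
  obtain ⟨S', hS'⟩ := h.exists_sylow
  have hd : Nat.card (S' : Subgroup G) ∣ 2 * Nat.card D.Q := by
    have h1 : Nat.card (S' : Subgroup G) ∣ 2 * Nat.card D.Q * (Nat.card D.W * 3) := by
      have := card_dvd_of_le hS'
      rw [D.card_eq, hm] at this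
      rwa [show 2 * Nat.card D.Q * (Nat.card D.W * 3) = Nat.card D.Q * Nat.card D.W * 6 by ring]
    refine Nat.Coprime.dvd_of_dvd_mul_right ?_ h1
    obtain ⟨j, hj⟩ := IsPGroup.iff_card.1 S'.2
    rw [hj]
    exact (Nat.Coprime.mul_right (D.W_cop.coprime_dvd_right (show 2 ∣ 6 by norm_num)).symm
      (by norm_num)).pow_left j
  have hfac : Nat.card S0 = 2 ^ (Nat.card G).factorization 2 := by
    rw [← S'.card_eq_multiplicity]
    refine le_antisymm ?_ ((Nat.le_of_dvd (Nat.mul_pos two_pos Nat.card_pos) hd).trans h2Q)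
    rw [S'.card_eq_multiplicity, hn0]
    exact Nat.pow_le_pow_right two_pos ((Nat.Prime.pow_dvd_iff_le_factorization Nat.prime_two
      Nat.card_pos.ne').1 (hn0 ▸ card_subgroup_dvd_card S0))
  have hcard : Nat.card S0 = 2 * Nat.card D.Q :=
    le_antisymm (by rw [hfac, ← S'.card_eq_multiplicity]; exact Nat.le_of_dvd (Nat.mul_pos two_pos Nat.card_pos) hd) h2Q
  let S : Sylow 2 G := Sylow.ofCard S0 hfac
  have hSeq : (S : Subgroup G) = S0 := Sylow.coe_ofCard _ _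
  refine ⟨⟨S, s, hSeq ▸ hS0C, hSeq ▸ mem_sup_left (mem_zpowers s), hsQ, hSeq ▸ le_sup_right, hsx, hs2, ?_,
    by rw [hSeq, hcard]⟩⟩
  intro a ha
  rw [hSeq] at ha
  have hidx : (D.Q.subgroupOf S0).index = 2 := by
    have := card_mul_index (D.Q.subgroupOf S0)
    rw [Nat.card_congr (subgroupOfEquivOfLe (le_sup_right : D.Q ≤ S0)).toEquiv, hcard, mul_comm 2] at this
    exact Nat.eq_of_mul_eq_mul_left Nat.card_pos this
  by_cases haQ : a ∈ D.Q
  · exact Or.inl haQ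
  right
  have := (mul_mem_iff_of_index_two hidx (a := ⟨s⁻¹, inv_mem (mem_sup_left (mem_zpowers s))⟩) (b := ⟨a, ha⟩)).2
    (iff_of_false (fun e => hsQ (by simpa [mem_subgroupOf] using e)) (fun e => haQ (by simpa [mem_subgroupOf] using e)))
  simpa [mem_subgroupOf] using this

end Sol

namespace Frame

variable {D : Sol t} (F : Frame t D) (h : Hyp t)
include F h

theorem s_mem_cen : F.s ∈ centralizer ({t ^ 3} : Set G) := F.hS F.hsS

theorem conj_s_x : F.s⁻¹ * t ^ 2 * F.s = (t ^ 2)⁻¹ := by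
  have h1 : F.s * (t ^ 2)⁻¹ * F.s⁻¹ = t ^ 2 := by
    rw [show F.s * (t ^ 2)⁻¹ * F.s⁻¹ = (F.s * t ^ 2 * F.s⁻¹)⁻¹ by group, F.sinv, inv_inv]
  calc F.s⁻¹ * t ^ 2 * F.s = F.s⁻¹ * (F.s * (t ^ 2)⁻¹ * F.s⁻¹) * F.s := by rw [h1]
    _ = _ := by group

theorem x_mem_not_sylow : t ^ 2 ∉ (F.S : Subgroup G) := by
  haveI : Fact (Nat.Prime 2) := ⟨Nat.prime_two⟩
  intro hx
  obtain ⟨k, hk⟩ := F.S.2 ⟨t ^ 2, hx⟩
  have h1 : (t ^ 2) ^ 2 ^ k = 1 := congrArg Subtype.val hk
  have h2 := orderOf_dvd_of_pow_eq_one h1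
  rw [h.orderOf_x] at h2
  have := Nat.prime_three.dvd_of_dvd_pow h2
  omega

/-- A subgroup of `S` normalised by `x` lies in `Q`. -/
theorem le_Q {E : Subgroup G} (hE : E ≤ (F.S : Subgroup G)) (hx : ∀ a ∈ E, t ^ 2 * a * (t ^ 2)⁻¹ ∈ E) :
    E ≤ D.Q := by
  intro a ha
  refine (F.split a (hE ha)).resolve_right fun hq => F.x_mem_not_sylow h ?_
  have h1 := hE (hx a ha)
  have h2 : t ^ 2 * (F.s⁻¹ * a) * (t ^ 2)⁻¹ ∈ (F.S : Subgroup G) := F.hQS (D.Q_norm _ h.x_mem_cen _ hq)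
  have h3 := mul_mem h1 (inv_mem h2)
  rw [show t ^ 2 * a * (t ^ 2)⁻¹ * (t ^ 2 * (F.s⁻¹ * a) * (t ^ 2)⁻¹)⁻¹ = t ^ 2 * F.s * (t ^ 2)⁻¹ by group] at h3
  have h4 := mul_mem (inv_mem F.hsS) h3
  rw [show F.s⁻¹ * (t ^ 2 * F.s * (t ^ 2)⁻¹) = (F.s⁻¹ * t ^ 2 * F.s) * (t ^ 2)⁻¹ by group, F.conj_s_x h] at h4
  have h5 := inv_mem h4
  rw [show ((t ^ 2)⁻¹ * (t ^ 2)⁻¹)⁻¹ = (t ^ 2) ^ 3 * (t ^ 2)⁻¹ by group, h.x_cube, one_mul] at h5
  simpa using inv_mem h5

theorem not_norm : ¬ ∀ a ∈ (F.S : Subgroup G), t ^ 2 * a * (t ^ 2)⁻¹ ∈ (F.S : Subgroup G) :=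
  fun hall => F.hsQ (F.le_Q h le_rfl hall F.hsS)

/-- An element centralising `Q` lies in `Q`, unless `Q = ⟨z⟩`. -/
theorem mem_Q_of_cent (hQ : D.Q ≠ zpowers (t ^ 3)) {a : G} (ha : a ∈ (F.S : Subgroup G))
    (hc : ∀ b ∈ D.Q, a * b = b * a) : a ∈ D.Q := by
  refine (F.split a ha).resolve_right fun hq => hQ ?_
  have q := D.qhyp h
  set x := t ^ 2 with hx
  set c := F.s⁻¹ * a with hcdef
  have hsc : a = F.s * c := by rw [hcdef]; group
  -- `s` acts on `Q` as `c⁻¹` does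
  have hs : ∀ b ∈ D.Q, F.s * b * F.s⁻¹ = c⁻¹ * b * c := by
    intro b hb
    have hb' : c⁻¹ * b * c ∈ D.Q := mul_mem (mul_mem (inv_mem hq) hb) hq
    have e := hc _ hb'
    rw [hsc] at e
    calc F.s * b * F.s⁻¹ = F.s * c * (c⁻¹ * b * c) * (F.s * c)⁻¹ := by group
      _ = c⁻¹ * b * c := by rw [e, mul_inv_cancel_right]
  have hxinv : ∀ b ∈ D.Q, x⁻¹ * b * x ∈ D.Q := fun b hb => by
    have := D.Q_norm _ (inv_mem h.x_mem_cen) b hb
    rwa [inv_inv] at this
  have hs' : ∀ b ∈ D.Q, F.s⁻¹ * b * F.s = c * b * c⁻¹ := by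
    intro b hb
    have e := hs (c * b * c⁻¹) (mul_mem (mul_mem hq hb) (inv_mem hq))
    rw [show c⁻¹ * (c * b * c⁻¹) * c = b by group] at e
    calc F.s⁻¹ * b * F.s = F.s⁻¹ * (F.s * (c * b * c⁻¹) * F.s⁻¹) * F.s := by rw [e]
      _ = _ := by group
  set d := (x⁻¹ * c⁻¹ * x) * c with hd
  have hdQ : d ∈ D.Q := mul_mem (hxinv _ (inv_mem hq)) hq
  -- `x² d` centralises `Q`
  have he : ∀ b ∈ D.Q, x * x * d * b = b * (x * x * d) := by
    intro b hb
    have hb' : c * b * c⁻¹ ∈ D.Q := mul_mem (mul_mem hq hb) (inv_mem hq)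
    have hb'' : x⁻¹ * b * x ∈ D.Q := hxinv b hb
    have e1 : x⁻¹ * b * x = F.s * (x * (F.s⁻¹ * b * F.s) * x⁻¹) * F.s⁻¹ := by
      conv_lhs => rw [← F.sinv, ← hx]
      rw [show (F.s * x * F.s⁻¹) * b * x = F.s * x * (F.s⁻¹ * b * F.s) * (F.s⁻¹ * x * F.s) * F.s⁻¹ by group, hx,
        F.conj_s_x h, ← hx]
      group
    rw [hs' b hb, hs _ (D.Q_norm _ h.x_mem_cen _ hb'), ← hx] at e1
    calc x * x * d * b = x * x * (x⁻¹ * c⁻¹ * x) * (c * b) := by rw [hd]; group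
      _ = x * (c⁻¹ * (x * (c * b * c⁻¹) * x⁻¹) * c) * (c⁻¹ * x * c) := by group
      _ = x * (x⁻¹ * b * x) * (c⁻¹ * x * c) := by rw [← e1]
      _ = b * (x * x * (x⁻¹ * c⁻¹ * x) * c) := by group
      _ = _ := by rw [hd]; group
  have hdx : x * x * d = d * (x * x) := by
    refine mul_right_cancel (b := d) ?_
    rw [he d hdQ]; group
  have hdfix : d = 1 ∨ d = t ^ 3 := by
    refine q.fixed hdQ ?_
    have h4 : x * x * x * x = x := by
      have := h.x_cube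
      rw [← hx, pow_succ, pow_two] at this
      rw [this, one_mul]
    calc x * d = x * x * x * x * d := by rw [h4]
      _ = x * x * (x * x * d) := by group
      _ = x * x * (d * (x * x)) := by rw [hdx]
      _ = x * x * d * (x * x) := by group
      _ = d * (x * x) * (x * x) := by rw [hdx]
      _ = d * (x * x * x * x) := by group
      _ = d * x := by rw [h4]
  refine le_antisymm (fun b hb => q.mem_zz.2 (q.fixed hb ?_)) (zpowers_le.2 D.z_mem)
  have hdb : d * b = b * d := by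
    rcases hdfix with e | e <;> rw [e]
    · rw [one_mul, mul_one]
    · exact q.z_comm hb
  have hxxb : x * x * b = b * (x * x) := by
    refine mul_right_cancel (b := d) ?_
    rw [mul_assoc (x * x) b d, ← hdb, ← mul_assoc, he b hb]; group
  have h4 : x * x * x * x = x := by
    have := h.x_cube
    rw [← hx, pow_succ, pow_two] at this
    rw [this, one_mul]
  calc x * b = x * x * x * x * b := by rw [h4]
    _ = x * x * (x * x * b) := by group
    _ = x * x * (b * (x * x)) := by rw [hxxb]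
    _ = x * x * b * (x * x) := by group
    _ = b * (x * x) * (x * x) := by rw [hxxb]
    _ = b * (x * x * x * x) := by group
    _ = b * x := by rw [h4]

/-- If `S` has class two then `Q` is abelian. -/
theorem comm_of_class_two (hQ : D.Q ≠ zpowers (t ^ 3))
    (h2 : ∀ a ∈ (F.S : Subgroup G), ∀ b ∈ (F.S : Subgroup G), ∀ c ∈ (F.S : Subgroup G),
      c * (a * b * a⁻¹ * b⁻¹) = a * b * a⁻¹ * b⁻¹ * c) :
    ∀ a ∈ D.Q, ∀ b ∈ D.Q, a * b = b * a := by
  have q := D.qhyp h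
  set x := t ^ 2 with hx
  set Z : Subgroup G := D.Q ⊓ centralizer (D.Q : Set G) with hZ
  have hZp : IsPGroup 2 Z := D.Q_two.to_le inf_le_left
  have hnorm : ∀ g ∈ centralizer ({t ^ 3} : Set G), ∀ a ∈ Z, g * a * g⁻¹ ∈ Z := by
    intro g hg a ha
    refine ⟨D.Q_norm g hg a ha.1, mem_centralizer_iff.2 fun b hb => ?_⟩
    have hb' := D.Q_norm g⁻¹ (inv_mem hg) b hb
    have e := mem_centralizer_iff.1 ha.2 _ hb'
    calc b * (g * a * g⁻¹) = g * (g⁻¹ * b * g⁻¹⁻¹ * a) * g⁻¹ := by group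
      _ = g * (a * (g⁻¹ * b * g⁻¹⁻¹)) * g⁻¹ := by rw [e]
      _ = _ := by group
  -- commutators with `s` are central in `Q`
  have hsc : ∀ a ∈ D.Q, F.s * a * F.s⁻¹ * a⁻¹ ∈ Z := fun a ha =>
    ⟨D.Q.mul_mem (D.Q_norm _ (F.s_mem_cen h) a ha) (D.Q.inv_mem ha), mem_centralizer_iff.2 fun b hb =>
      h2 F.s F.hsS a (F.hQS ha) b (F.hQS hb)⟩
  -- hence so are those with `x`
  have hxc : ∀ a ∈ D.Q, a⁻¹ * (x * a * x⁻¹) ∈ Z := by
    intro a ha
    have hb : x * a * x⁻¹ ∈ D.Q := D.Q_norm _ h.x_mem_cen a ha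
    -- `s x s⁻¹ x⁻¹ = x⁻²`
    have e1 := hsc _ hb
    have e2 := hnorm x⁻¹ (inv_mem h.x_mem_cen) _ (hsc a ha)
    -- `s (x a x⁻¹) s⁻¹ = x⁻¹ (s a s⁻¹) x`
    have e3 : F.s * (x * a * x⁻¹) * F.s⁻¹ = x⁻¹ * (F.s * a * F.s⁻¹) * x := by
      conv_rhs => rw [← F.sinv, ← hx]
      rw [show F.s * x * F.s⁻¹ * (F.s * a * F.s⁻¹) * x = F.s * x * a * (F.s⁻¹ * x * F.s) * F.s⁻¹ by group, hx,
        F.conj_s_x h, ← hx]
      group
    have e4 := mul_mem (inv_mem e2) e1
    rw [e3, inv_inv, show (x⁻¹ * (F.s * a * F.s⁻¹ * a⁻¹) * x)⁻¹ * (x⁻¹ * (F.s * a * F.s⁻¹) * x * (x * a * x⁻¹)⁻¹) =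
      x⁻¹ * a * x * (x * a * x⁻¹)⁻¹ by group] at e4
    -- conjugate by `x`
    have e5 := hnorm x h.x_mem_cen _ e4
    rw [show x * (x⁻¹ * a * x * (x * a * x⁻¹)⁻¹) * x⁻¹ = a * (x * (x * a * x⁻¹) * x⁻¹)⁻¹ by
      simp [mul_assoc]] at e5
    have e5' := hnorm x h.x_mem_cen _ e5
    have ha3 : x * (x * (x * a * x⁻¹) * x⁻¹) * x⁻¹ = a := by
      rw [conj_three, show x ^ 3 = 1 from h.x_cube, inv_one, mul_one, one_mul]
    rw [show x * (a * (x * (x * a * x⁻¹) * x⁻¹)⁻¹) * x⁻¹ =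
      x * a * x⁻¹ * (x * (x * (x * a * x⁻¹) * x⁻¹) * x⁻¹)⁻¹ by group, ha3] at e5'
    have e6 := hnorm a⁻¹ (inv_mem (D.Q_le ha)) _ e5'
    rwa [inv_inv, show a⁻¹ * (x * a * x⁻¹ * a⁻¹) * a = a⁻¹ * (x * a * x⁻¹) by group] at e6
  intro a ha b hb
  obtain ⟨c, hc1, hc2⟩ := exists_fixed_coset hZp h.x_cube (fun e he => hnorm x h.x_mem_cen e he) (hxc a ha)
  have hcQ : c ∈ D.Q := by simpa using mul_mem ha hc1.1
  have hcb : c * b = b * c := by
    rcases q.fixed hcQ hc2 with e | e <;> rw [e]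
    · rw [one_mul, mul_one]
    · exact q.z_comm hb
  have hac : Commute (a⁻¹ * c) b := (mem_centralizer_iff.1 hc1.2 b hb).symm
  have := (show Commute c b from hcb).mul_left hac.inv_left
  rwa [show c * (a⁻¹ * c)⁻¹ = a by group] at this

/-- The parabolic inside the centraliser. -/
theorem exists_low (hQ : D.Q ≠ zpowers (t ^ 3)) :
    ∃ X : Subgroup G, (F.S : Subgroup G) ≤ X ∧ t ^ 2 ∈ X ∧ X ≤ centralizer ({t ^ 3} : Set G) ∧
      Nat.card X = 3 * Nat.card (F.S : Subgroup G) ∧ Cfsg.pCore 2 X = D.Q.subgroupOf X ∧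
      (∀ a ∈ X, (∀ d ∈ D.Q, a * d = d * a) → a ∈ D.Q) ∧
      Nonempty (X ⧸ Cfsg.pCore 2 X ≃* Equiv.Perm (Fin 3)) := by
  classical
  haveI : Fact (Nat.Prime 2) := ⟨Nat.prime_two⟩
  haveI : Fact (Nat.Prime 3) := ⟨Nat.prime_three⟩
  set x := t ^ 2 with hx
  set Y : Subgroup G := D.Q ⊔ zpowers x with hY
  have hxN : zpowers x ≤ normalizer (D.Q : Set G) := zpowers_le.2 (mem_norm (D.Q_norm _ h.x_mem_cen))
  have hYcard : Nat.card Y ∣ Nat.card D.Q * 3 := by
    have := Walter3.card_sup_dvd hxN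
    rwa [Nat.card_zpowers, h.orderOf_x] at this
  have hsY : ∀ y ∈ Y, F.s * y * F.s⁻¹ ∈ Y := by
    intro y hy
    have : Y.map (MulAut.conj F.s).toMonoidHom ≤ Y := by
      rw [hY, Subgroup.map_sup, MonoidHom.map_zpowers]
      refine sup_le (fun a ha => ?_) (zpowers_le.2 ?_)
      · obtain ⟨b, hb, rfl⟩ := ha
        exact mem_sup_left (D.Q_norm _ (F.s_mem_cen h) b hb)
      · show F.s * x * F.s⁻¹ ∈ _
        rw [F.sinv]
        exact inv_mem (mem_sup_right (mem_zpowers _))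
    exact this ⟨y, hy, rfl⟩
  have hSN : (F.S : Subgroup G) ≤ normalizer (Y : Set G) := by
    intro a ha
    rcases F.split a ha with hq | hq
    · exact le_normalizer (mem_sup_left hq)
    · simpa using mul_mem (mem_norm hsY) (le_normalizer (mem_sup_left hq : F.s⁻¹ * a ∈ Y))
  set X : Subgroup G := Y ⊔ (F.S : Subgroup G) with hX
  have hmul : ∀ a ∈ X, a ∈ Y ∨ a * F.s ∈ Y := by
    intro a ha
    rw [hX, ← SetLike.mem_coe, coe_mul_of_right_le_normalizer_left _ _ hSN] at ha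
    obtain ⟨y, hy, b, hb, rfl⟩ := ha
    show y * b ∈ Y ∨ y * b * F.s ∈ Y
    rcases F.split b hb with hq | hq
    · exact Or.inl (mul_mem hy (mem_sup_left hq))
    · right
      have h1 := D.Q_norm _ (F.s_mem_cen h) _ hq
      have h2 : F.s * F.s ∈ D.Q := by
        rcases F.s_sq with e | e <;> rw [e]
        · exact one_mem _
        · exact D.z_mem
      have h3 := mul_mem hy (mem_sup_left (mul_mem h1 h2) :
        F.s * (F.s⁻¹ * b) * F.s⁻¹ * (F.s * F.s) ∈ Y)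
      rwa [show y * (F.s * (F.s⁻¹ * b) * F.s⁻¹ * (F.s * F.s)) = y * b * F.s by group] at h3
  have hSX : (F.S : Subgroup G) ≤ X := le_sup_right
  have hxX : x ∈ X := mem_sup_left (mem_sup_right (mem_zpowers x))
  have hXC : X ≤ centralizer ({t ^ 3} : Set G) :=
    sup_le (sup_le D.Q_le (zpowers_le.2 h.x_mem_cen)) F.hS
  have hXle : Nat.card X ≤ 2 * (Nat.card D.Q * 3) := by
    let f : Bool × Y → X := fun p => ⟨(p.2 : G) * (if p.1 then F.s⁻¹ else 1), mul_mem (mem_sup_left p.2.2) (by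
      split
      · exact inv_mem (hSX F.hsS)
      · exact one_mem _)⟩
    have hf : Function.Surjective f := by
      intro a
      rcases hmul a a.2 with e | e
      · exact ⟨(false, ⟨a, e⟩), Subtype.ext (by simp [f])⟩
      · exact ⟨(true, ⟨_, e⟩), Subtype.ext (by simp [f])⟩
    refine (Nat.card_le_card_of_surjective f hf).trans ?_
    rw [Nat.card_prod, Nat.card_eq_fintype_card (α := Bool), Fintype.card_bool]
    exact Nat.mul_le_mul_left 2 (Nat.le_of_dvd (Nat.mul_pos Nat.card_pos three_pos) hYcard)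
  have hXdvd : 3 * Nat.card (F.S : Subgroup G) ∣ Nat.card X := by
    obtain ⟨j, hj⟩ := IsPGroup.iff_card.1 F.S.2
    refine Nat.Coprime.mul_dvd_of_dvd_of_dvd ?_ (h.orderOf_x ▸ Subgroup.orderOf_dvd_natCard X hxX) (card_dvd_of_le hSX)
    rw [hj]
    exact (show Nat.Coprime 3 2 by norm_num).pow_right j
  have hcard : Nat.card X = 3 * Nat.card (F.S : Subgroup G) := by
    have := Nat.le_of_dvd Nat.card_pos hXdvd
    have := F.card
    omega
  let S' : Sylow 2 X := F.S.subtype hSX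
  have hidx : (S' : Subgroup X).index = 3 := by
    have h1 := card_mul_index (S' : Subgroup X)
    rw [show Nat.card (S' : Subgroup X) = Nat.card (F.S : Subgroup G) from
      Nat.card_congr (subgroupOfEquivOfLe hSX).toEquiv, hcard, mul_comm 3] at h1
    exact Nat.eq_of_mul_eq_mul_left Nat.card_pos h1
  have hnn : ¬ (S' : Subgroup X).Normal := fun hN =>
    F.not_norm h fun a ha => hN.conj_mem ⟨a, hSX ha⟩ ha ⟨x, hxX⟩
  obtain ⟨hc1, hc6, hquot⟩ := quot_of_index_three S' hidx hnn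
  have hQX : D.Q ≤ X := F.hQS.trans hSX
  have hcore : Cfsg.pCore 2 X = D.Q.subgroupOf X := by
    refine (eq_of_le_of_card_ge (Fusion.le_pCore (N := D.Q.subgroupOf X) ⟨fun a ha g => D.Q_norm g (hXC g.2) a ha⟩
      (D.Q_two.of_equiv (subgroupOfEquivOfLe hQX).symm)) (le_of_eq ?_)).symm
    have h1 := card_mul_index (Cfsg.pCore 2 X)
    rw [hc6, hcard, F.card] at h1
    rw [Nat.card_congr (subgroupOfEquivOfLe hQX).toEquiv]
    omega
  refine ⟨X, hSX, hxX, hXC, hcard, hcore, fun a ha hac => ?_, hquot⟩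
  -- the centraliser of `Q` in `X` is a normal 2-subgroup
  set K : Subgroup X := (centralizer (D.Q : Set G)).subgroupOf X with hK
  have hKn : K.Normal := ⟨fun b hb g => mem_centralizer_iff.2 fun d hd => by
    have hd' := D.Q_norm (g : G)⁻¹ (inv_mem (hXC g.2)) d hd
    have e : ((g : G)⁻¹ * d * (g : G)⁻¹⁻¹) * (b : G) = (b : G) * ((g : G)⁻¹ * d * (g : G)⁻¹⁻¹) :=
      mem_centralizer_iff.1 hb _ hd'
    show d * ((g : G) * b * (g : G)⁻¹) = (g : G) * b * (g : G)⁻¹ * d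
    calc d * ((g : G) * b * (g : G)⁻¹) = (g : G) * (((g : G)⁻¹ * d * (g : G)⁻¹⁻¹) * b) * (g : G)⁻¹ := by group
      _ = (g : G) * (b * ((g : G)⁻¹ * d * (g : G)⁻¹⁻¹)) * (g : G)⁻¹ := by rw [e]
      _ = _ := by group⟩
  have hxK : (⟨x, hxX⟩ : X) ∉ K := fun hmem => hQ (le_antisymm (fun b hb => (D.qhyp h).mem_zz.2
    ((D.qhyp h).fixed hb (mem_centralizer_iff.1 hmem b hb).symm)) (zpowers_le.2 D.z_mem))
  haveI := hKn
  have h3K : ¬ 3 ∣ Nat.card K := by
    intro h3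
    obtain ⟨y, hy⟩ := exists_prime_orderOf_dvd_card' 3 h3
    have hyo : orderOf (y : X) = 3 := by rw [orderOf_coe, hy]
    have hXf : (Nat.card X).factorization 3 = 1 := by
      obtain ⟨j, hj⟩ := IsPGroup.iff_card.1 F.S.2
      rw [hcard, hj, Nat.factorization_mul (by norm_num) (by positivity), Finsupp.add_apply,
        Nat.Prime.factorization_self Nat.prime_three, Nat.factorization_pow]
      simp [Nat.factorization_eq_zero_of_not_dvd (show ¬ 3 ∣ 2 by norm_num)]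
    let P3 : Sylow 3 X := Sylow.ofCard (zpowers ⟨x, hxX⟩) (by
      rw [hXf, Nat.card_zpowers, Subgroup.orderOf_mk, h.orderOf_x, pow_one])
    obtain ⟨g, hg⟩ := Invol.exists_conj_mem_sylow P3 (K := zpowers (y : X))
      (IsPGroup.of_card (n := 1) (by rw [Nat.card_zpowers, hyo, pow_one]))
    have hgy : g * y * g⁻¹ ∈ zpowers (⟨x, hxX⟩ : X) := by
      have := hg _ (mem_zpowers _)
      rwa [Sylow.coe_ofCard] at this
    have hgK : g * y * g⁻¹ ∈ K := hKn.conj_mem _ y.2 g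
    refine hxK ((show zpowers (⟨x, hxX⟩ : X) ≤ K from ?_) (mem_zpowers _))
    rw [← eq_of_le_of_card_ge (zpowers_le.2 hgy) (le_of_eq ?_)]
    · exact zpowers_le.2 hgK
    · rw [Nat.card_zpowers, Nat.card_zpowers, Invol.orderOf_conj_eq, hyo, Subgroup.orderOf_mk, h.orderOf_x]
  have hKp : IsPGroup 2 K := by
    obtain ⟨j, hj⟩ := IsPGroup.iff_card.1 F.S.2
    have hd : Nat.card K ∣ 3 * 2 ^ j := hj ▸ hcard ▸ card_subgroup_dvd_card K
    obtain ⟨i, -, hi⟩ := (Nat.dvd_prime_pow Nat.prime_two).1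
      (((Nat.prime_three.coprime_iff_not_dvd.2 h3K).symm).dvd_of_dvd_mul_left hd)
    exact IsPGroup.of_card hi
  have h1 := Fusion.le_pCore hKn hKp (show (⟨a, ha⟩ : X) ∈ K from mem_centralizer_iff.2 fun d hd => (hac d hd).symm)
  rw [hcore] at h1
  exact h1

end Frame

end Cfsg.Lib.OrderSixCHZ
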