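import Cfsg.Agent.Lib.OrderSixCHZ.SixExtraFinal
import Cfsg.Agent.Lib.Small.RepSymFour
import Cfsg.Agent.Lib.Small.CentralizerGL23Core
import Cfsg.Agent.Lib.LenSeven.Tools
import Cfsg.Agent.Lib.Dickson.CentralizerCard
import Cfsg.Agent.Lib.Dickson.Necessity
import Cfsg.Agent.S3188
import Cfsg.Agent.S2916

/-!
# The shape `(Q × W) · S₃`: `L₂(11)`, `L₂(13)`, `L₃(3)`, `M₁₁`
-/

set_option autoImplicit false
set_option linter.style.haveILetI false
set_option linter.unusedSectionVars false

namespace Cfsg.Lib.OrderSixCHZ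

open Subgroup

universe u

variable {G : Type u} [Group G] [Finite G] {t : G}

/-- In `PSL(2, q)` a self-centralising element of order six forces `q = 11` or `q = 13`. -/
theorem psl_two_field {F : Type} [Field F] [Fintype F] (h4 : 4 ≤ Fintype.card F)
    (hq : (Fintype.card F % 8 = 3 ∨ Fintype.card F % 8 = 5) ∨ Fintype.card F = 4)
    (y : Matrix.ProjectiveSpecialLinearGroup (Fin 2) F) (hy : orderOf y = 6)
    (hc : Nat.card (centralizer ({y} : Set (Matrix.ProjectiveSpecialLinearGroup (Fin 2) F))) = 6) :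
    Fintype.card F = 11 ∨ Fintype.card F = 13 := by
  obtain ⟨p, hp, hch, n, hn, hpn⟩ := Dickson.exists_char (F := F)
  haveI := Fact.mk hp
  haveI := hch
  have hexp := Spec.psl_two_exponents p y
  rcases hq with h8 | h4'
  · have hodd : Fintype.card F % 2 = 1 := by omega
    have hgcd : Nat.gcd 2 (Fintype.card F - 1) = 2 := Nat.gcd_eq_left (by omega)
    have hx2 : y ^ 2 ≠ 1 := fun e => by
      have := Nat.le_of_dvd (by norm_num) (orderOf_dvd_of_pow_eq_one e)
      omega
    have hpd : ¬ p ∣ orderOf y := by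
      rw [hy]
      intro hd
      rcases (Nat.Prime.dvd_mul hp).1 (show p ∣ 2 * 3 from hd) with e | e
      · rw [(Nat.prime_dvd_prime_iff_eq hp Nat.prime_two).1 e] at hpn
        have : Fintype.card F % 2 = 0 := by
          rw [hpn, Nat.pow_mod]
          simp [Nat.zero_pow hn]
        omega
      · have hp3 := (Nat.prime_dvd_prime_iff_eq hp Nat.prime_three).1 e
        have h3q : 3 ∣ Fintype.card F := by rw [hpn, hp3]; exact dvd_pow_self 3 hn.ne'
        rcases hexp with e' | e' | e'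
        · have := Nat.le_of_dvd hp.pos (orderOf_dvd_of_pow_eq_one e')
          omega
        · have h6 := orderOf_dvd_of_pow_eq_one e'
          rw [hy, hgcd] at h6
          omega
        · have h6 := orderOf_dvd_of_pow_eq_one e'
          rw [hy, hgcd] at h6
          omega
    rcases Dickson.card_centralizer_semisimple h4 p hx2 hpd with ⟨h1, -⟩ | ⟨h1, -⟩ <;>
      rw [hgcd, hc] at h1 <;> omega
  · exfalso
    have hp2 : p = 2 := by
      have hd : p ∣ 2 ^ 2 := by rw [show (2 : ℕ) ^ 2 = 4 from rfl, ← h4', hpn]; exact dvd_pow_self p hn.ne'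
      exact (Nat.prime_dvd_prime_iff_eq hp Nat.prime_two).1 (hp.dvd_of_dvd_pow hd)
    rw [hp2, h4'] at hexp
    norm_num at hexp
    rcases hexp with e | e | e <;>
    · have := Nat.le_of_dvd (by norm_num) (orderOf_dvd_of_pow_eq_one e)
      omega

namespace Frame

variable {D : Sol t} (F : Frame t D) (h : Hyp t)
include F h

/-- `Q = ⟨z⟩`: the four-group case. -/
theorem four_case [IsSimpleGroup G] (hna : ¬ IsMulCommutative G) (hQ : D.Q = zpowers (t ^ 3)) :
    ∃ (K : Type) (_ : Field K) (_ : Fintype K), (Fintype.card K = 11 ∨ Fintype.card K = 13) ∧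
      Nonempty (G ≃* Matrix.ProjectiveSpecialLinearGroup (Fin 2) K) := by
  classical
  haveI : Fact (Nat.Prime 2) := ⟨Nat.prime_two⟩
  have h4 : Nat.card (F.S : Subgroup G) = 2 ^ 2 := by
    rw [F.card, hQ, Nat.card_zpowers, h.orderOf_z]; rfl
  have hS : IsMulCommutative ↥(F.S : Subgroup G) := IsPGroup.isMulCommutative_of_card_eq_prime_sq (p := 2) h4
  have hsol : ∀ y : G, orderOf y = 2 → Group.IsSolvable ↥(centralizer ({y} : Set G)) := by
    intro y hy
    obtain ⟨g, hg⟩ := isConj_iff.1 (h.one (t ^ 3) y h.orderOf_z hy)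
    haveI := D.solv
    have hle : (centralizer ({t ^ 3} : Set G)).map (MulAut.conj g).toMonoidHom = centralizer ({y} : Set G) := by
      ext c
      simp only [mem_map, MulEquiv.coe_toMonoidHom, MulAut.conj_apply, mem_centralizer_singleton_iff]
      constructor
      · rintro ⟨b, hb, rfl⟩
        rw [← hg, show g * b * g⁻¹ * (g * t ^ 3 * g⁻¹) = g * (b * t ^ 3) * g⁻¹ by group, hb]
        group
      · intro hc
        refine ⟨g⁻¹ * c * g, ?_, by group⟩
        rw [← hg] at hc
        calc g⁻¹ * c * g * t ^ 3 = g⁻¹ * (c * (g * t ^ 3 * g⁻¹)) * g := by group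
          _ = g⁻¹ * (g * t ^ 3 * g⁻¹ * c) * g := by rw [hc]
          _ = _ := by group
    rw [← hle]
    exact Group.isSolvable_of_surjective ((MulAut.conj g).toMonoidHom.subgroupMap_surjective _)
  rcases Cfsg.Agent.S3188.result F.S hS hsol with hs | ⟨K, iK, iK', hq, N, hN, ⟨e⟩, -⟩
  · exact absurd hs (LenEight.not_solvable_simple hna)
  have hO : Cfsg.oddCore G = ⊥ := oddCore_bot_of_involution h.orderOf_z
  let eG : (G ⧸ Cfsg.oddCore G) ≃* G := (QuotientGroup.quotientMulEquivOfEq hO).trans QuotientGroup.quotientBot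
  have hcardK : 4 ≤ Fintype.card K := by
    rcases hq with ⟨-, h5⟩ | ⟨k, hk, e'⟩
    · omega
    · rw [e']; exact le_trans (by norm_num) (Nat.pow_le_pow_right two_pos hk)
  haveI : IsSimpleGroup (G ⧸ Cfsg.oddCore G) := eG.isSimpleGroup
  have hNtop : N = ⊤ := hN.eq_bot_or_eq_top.resolve_left fun hb => by
    haveI := Walter3.psl_simple hcardK
    subst hb
    exact not_subsingleton (Matrix.ProjectiveSpecialLinearGroup (Fin 2) K) e.symm.toEquiv.subsingleton
  subst hNtop
  let eP : G ≃* Matrix.ProjectiveSpecialLinearGroup (Fin 2) K := (eG.symm.trans Subgroup.topEquiv.symm).trans e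
  refine ⟨K, iK, iK', psl_two_field hcardK ?_ (eP t) (by rw [MulEquiv.orderOf_eq, h.ord]) ?_, ⟨eP⟩⟩
  · rcases hq with ⟨hq8, -⟩ | ⟨k, hk, e'⟩
    · exact Or.inl hq8
    · right
      -- the order of a Sylow subgroup
      have h8S := F.S.card_eq_multiplicity
      rw [h4, Nat.card_congr eP.toEquiv] at h8S
      have hv := (Nat.pow_right_injective le_rfl h8S).symm
      have hc := Linear.Two.card_PSL_two (F := K)
      rw [e'] at hc
      have hd : 2 ^ k ∣ Nat.card (Matrix.ProjectiveSpecialLinearGroup (Fin 2) K) := by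
        have hg : Nat.gcd 2 (2 ^ k - 1) = 1 := by
          apply Nat.coprime_two_left.2
          rw [Nat.odd_iff]
          obtain ⟨i, rfl⟩ := Nat.exists_eq_succ_of_ne_zero (show k ≠ 0 by omega)
          rw [pow_succ]
          have : 0 < 2 ^ i := Nat.two_pow_pos i
          omega
        rw [hg, one_mul] at hc
        rw [hc]
        exact dvd_mul_right _ _
      have := (Nat.Prime.pow_dvd_iff_le_factorization Nat.prime_two Nat.card_pos.ne').1 hd
      rw [e', show k = 2 by omega]
      rfl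
  · have hmap : (centralizer ({t} : Set G)).map eP.toMonoidHom = centralizer ({eP t} : Set _) := by
      ext c
      simp only [mem_map, MulEquiv.coe_toMonoidHom, mem_centralizer_singleton_iff]
      constructor
      · rintro ⟨b, hb, rfl⟩; rw [← map_mul, hb, map_mul]
      · intro hc
        exact ⟨eP.symm c, eP.injective (by simp [hc]), by simp⟩
    rw [← hmap, card_map_of_injective eP.injective, h.cent, Nat.card_zpowers, h.ord]

/-- `Q` quaternion: the case of `GL(2,3)`. -/
theorem quat_case [IsSimpleGroup G] (hna : ¬ IsMulCommutative G) (h8 : Nat.card D.Q = 8)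
    (huniq : ∀ a ∈ D.Q, a * a = 1 → a = 1 ∨ a = t ^ 3) (hm : D.m = 6) :
    (∃ (K : Type) (_ : Field K) (_ : Fintype K), Fintype.card K = 3 ∧
      Nonempty (G ≃* Matrix.ProjectiveSpecialLinearGroup (Fin 3) K)) ∨ Cfsg.Spor.IsoM11 G := by
  classical
  haveI : Fact (Nat.Prime 2) := ⟨Nat.prime_two⟩
  have hQ : D.Q ≠ zpowers (t ^ 3) := fun e => by rw [e, Nat.card_zpowers, h.orderOf_z] at h8; omega
  have q := D.qhyp h
  obtain ⟨y, hy, hyQ, hy2⟩ : ∃ y ∈ (F.S : Subgroup G), y ∉ D.Q ∧ y * y = 1 := by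
    by_contra hcon
    push Not at hcon
    exact not_unique_involution hna F.S h.orderOf_z fun a ha ha2 => by
      by_cases haQ : a ∈ D.Q
      · exact huniq a haQ ha2
      · exact absurd ha2 (hcon a ha haQ)
  obtain ⟨X, hSX, hxX, hXC, hcard, hcore, hself, -⟩ := F.exists_low h hQ
  have hQX : D.Q ≤ X := F.hQS.trans hSX
  have hX48 : Nat.card X = 48 := by rw [hcard, F.card, h8]
  have hu' : ∀ A B : Subgroup D.Q, Nat.card A = 2 → Nat.card B = 2 → A = B := by
    have key : ∀ A : Subgroup D.Q, Nat.card A = 2 → A = zpowers ⟨t ^ 3, D.z_mem⟩ := by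
      intro A hA
      obtain ⟨a, ha⟩ := exists_prime_orderOf_dvd_card' 2 (dvd_of_eq hA.symm)
      have hao : orderOf ((a : D.Q) : G) = 2 := by rw [orderOf_coe, orderOf_coe, ha]
      have haz : ((a : D.Q) : G) = t ^ 3 := (huniq _ (a : D.Q).2 (LenEight.sq_of_orderOf hao).1).resolve_left
        (LenEight.sq_of_orderOf hao).2
      refine (eq_of_le_of_card_ge (zpowers_le.2 ?_) ?_).symm
      · rw [show (⟨t ^ 3, D.z_mem⟩ : D.Q) = (a : D.Q) from Subtype.ext haz.symm]; exact a.2
      · rw [hA, Nat.card_zpowers, Subgroup.orderOf_mk, h.orderOf_z]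
    exact fun A B hA hB => (key A hA).trans (key B hB).symm
  obtain ⟨eQ⟩ : Nonempty (D.Q ≃* QuaternionGroup 2) := by
    rcases Cfsg.Agent.S0016.result 2 D.Q_two hu' with hcy | ⟨-, n, ⟨e⟩⟩
    · exfalso
      haveI := hcy
      obtain ⟨g0, hg0⟩ := IsCyclic.exists_generator (α := D.Q)
      obtain ⟨i, hi⟩ := mem_zpowers_iff.1 (hg0 ⟨_, D.Q_norm _ h.x_mem_cen g0 g0.2⟩)
      have hi' : (g0 : G) ^ i = t ^ 2 * g0 * (t ^ 2)⁻¹ := by simpa using congrArg Subtype.val hi
      have hord : orderOf (g0 : G) = 8 := by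
        rw [orderOf_coe, orderOf_eq_card_of_forall_mem_zpowers hg0, h8]
      have hiodd : i % 2 = 1 := by
        by_contra hev
        have h1 := congrArg (fun c : G => c ^ (4 : ℤ)) hi'
        simp only [← zpow_mul, conj_zpow] at h1
        obtain ⟨j, rfl⟩ : (2 : ℤ) ∣ i := ⟨i / 2, by omega⟩
        rw [show (2 : ℤ) * j * 4 = (8 : ℕ) * j by push_cast; ring, zpow_mul, zpow_natCast, ← hord,
          pow_orderOf_eq_one, one_zpow, eq_comm, conj_eq_one_iff, ← orderOf_dvd_iff_zpow_eq_one, hord] at h1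
        omega
      have h2 : t ^ 2 * (t ^ 2 * (g0 : G) * (t ^ 2)⁻¹) * (t ^ 2)⁻¹ = g0 := by
        rw [← hi', ← conj_zpow, ← hi', ← zpow_mul]
        conv_rhs => rw [← zpow_one (g0 : G)]
        rw [zpow_eq_zpow_iff_modEq, hord]
        obtain ⟨j, rfl⟩ : ∃ j, i = 2 * j + 1 := ⟨i / 2, by omega⟩
        obtain ⟨l, hl⟩ := Int.even_mul_succ_self j
        refine Int.modEq_iff_dvd.2 ⟨-l, ?_⟩
        push_cast
        linear_combination (-4 : ℤ) * hl
      have h3 := conj_three (t ^ 2) (g0 : G)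
      rw [h.x_cube, inv_one, mul_one, one_mul, h2] at h3
      rcases q.fixed g0.2 (mul_inv_eq_iff_eq_mul.1 h3) with e | e <;> rw [e] at hord
      · rw [orderOf_one] at hord; omega
      · rw [h.orderOf_z] at hord; omega
    · have hc := Nat.card_congr e.toEquiv
      rw [h8, Nat.card_eq_fintype_card, QuaternionGroup.card] at hc
      have hn : (2 : ℕ) ^ n = 2 ^ 1 := by omega
      obtain rfl := Nat.pow_right_injective le_rfl hn
      exact ⟨e⟩
  haveI hnorm : (D.Q.subgroupOf X).Normal := ⟨fun a ha g => D.Q_norm g (hXC g.2) a ha⟩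
  obtain ⟨eX⟩ := Small.RepSymFour.iso_gl hX48 (D.Q.subgroupOf X)
    ((subgroupOfEquivOfLe hQX).trans eQ)
    (fun a ha => hself a a.2 fun d hd => (congrArg Subtype.val (mem_centralizer_iff.1 ha ⟨d, hQX hd⟩ hd)).symm)
    ⟨y, hSX hy⟩ (Subtype.ext hy2) hyQ
  set L := centralizer ({t ^ 3} : Set G) with hL
  set WL := D.W.subgroupOf L with hWL
  haveI hWn : WL.Normal := ⟨fun a ha g => D.W_norm g g.2 a ha⟩
  let ψ : X →* L ⧸ WL := (QuotientGroup.mk' WL).comp (Subgroup.inclusion hXC)
  have hψi : Function.Injective ψ := by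
    refine (injective_iff_map_eq_one ψ).2 fun a ha => Subtype.ext ?_
    have hm' : (a : G) ∈ D.W := (QuotientGroup.eq_one_iff (Subgroup.inclusion hXC a)).1 ha
    refine orderOf_eq_one_iff.1 (Nat.eq_one_of_dvd_coprimes (D.W_cop.coprime_dvd_right dvd_rfl |>.pow_right 4)
      (Subgroup.orderOf_dvd_natCard D.W hm') ?_)
    exact (Subgroup.orderOf_dvd_natCard X a.2).trans (hX48 ▸ (by norm_num))
  have hψb : Function.Bijective ψ := by
    refine (Nat.bijective_iff_injective_and_card ψ).2 ⟨hψi, ?_⟩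
    have h1 := card_mul_index WL
    rw [Nat.card_congr (subgroupOfEquivOfLe D.W_le).toEquiv, show Nat.card L = _ from D.card_eq, h8, hm, index_eq_card] at h1
    rw [hX48]
    exact (Nat.eq_of_mul_eq_mul_left Nat.card_pos (h1.trans (by ring))).symm
  let f : L →* GL (Fin 2) (ZMod 3) :=
    (eX.toMonoidHom.comp (MulEquiv.ofBijective ψ hψb).symm.toMonoidHom).comp (QuotientGroup.mk' WL)
  have hf : Function.Surjective f :=
    (eX.surjective.comp (MulEquiv.ofBijective ψ hψb).symm.surjective).comp (QuotientGroup.mk'_surjective WL)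
  have hker : f.ker = WL := by
    ext a
    simp [f, MonoidHom.mem_ker, QuotientGroup.eq_one_iff]
  have hodd : Odd (Nat.card f.ker) := by
    rw [hker, Nat.card_congr (subgroupOfEquivOfLe D.W_le).toEquiv]
    exact Nat.coprime_two_right.1 (D.W_cop.coprime_dvd_right (show 2 ∣ 6 by norm_num))
  have hbot := Small.CentralizerGL23.core_eq_bot' (t ^ 3) h.orderOf_z f hf hodd
  exact Cfsg.Agent.S2916.result (LenSeven.pResidual_eq_top hna) (t ^ 3) h.orderOf_z
    ⟨MulEquiv.ofBijective f ⟨(MonoidHom.ker_eq_bot_iff f).1 hbot, hf⟩⟩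

end Frame

namespace Sol

variable (h : Hyp t) (D : Sol t)
include h D

/-- The shape `(Q × W) · S₃` leads to `L₂(11)`, `L₂(13)`, `L₃(3)` or `M₁₁`. -/
theorem six_cases [IsSimpleGroup G] (hna : ¬ IsMulCommutative G) (hm : D.m = 6) :
    (∃ (F : Type) (_ : Field F) (_ : Fintype F), (Fintype.card F = 11 ∨ Fintype.card F = 13) ∧
        Nonempty (G ≃* Matrix.ProjectiveSpecialLinearGroup (Fin 2) F)) ∨
      (∃ (F : Type) (_ : Field F) (_ : Fintype F), Fintype.card F = 3 ∧
        Nonempty (G ≃* Matrix.ProjectiveSpecialLinearGroup (Fin 3) F)) ∨ Cfsg.Spor.IsoM11 G := by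
  obtain ⟨F⟩ := D.exists_frame h hm
  by_cases hQ : D.Q = zpowers (t ^ 3)
  · exact Or.inl (F.four_case h hna hQ)
  · rcases (D.qhyp h).exists_u (F.only_z_Q h hQ) with ⟨u, hu, hu2, hu1, huz, huc⟩ | hQ' | ⟨h8, huniq⟩
    · exact (F.false_of_u h hna hQ hu hu2 hu1 huz huc).elim
    · exact absurd hQ' hQ
    · exact Or.inr (F.quat_case h hna h8 huniq hm)

end Sol

end Cfsg.Lib.OrderSixCHZ
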