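import Cfsg.Agent.Lib.OrderSixCHZ.SixBase

/-!
# The shape `(Q × W) · S₃`: `z` is the only central involution of the Sylow subgroup
-/

set_option autoImplicit false
set_option linter.style.haveILetI false
set_option linter.unusedSectionVars false

namespace Cfsg.Lib.OrderSixCHZ

open Subgroup

universe u

variable {G : Type u} [Group G] [Finite G] {t : G}

namespace Sol

variable (h : Hyp t) (D : Sol t)
include h D

/-- A 2-subgroup of the centraliser meets `Q` in a subgroup of index at most two. -/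
theorem card_le_two_mul {T : Subgroup G} (hT : IsPGroup 2 T) (hTC : T ≤ centralizer ({t ^ 3} : Set G)) :
    Nat.card T ≤ 2 * Nat.card ↥(T ⊓ D.Q) := by
  haveI : Fact (Nat.Prime 2) := ⟨Nat.prime_two⟩
  have hn : T ≤ normalizer (D.Q : Set G) := fun a ha => mem_norm (D.Q_norm a (hTC ha))
  have hp : IsPGroup 2 ↥(T ⊔ D.Q) := IsPGroup.to_sup_of_normal_right' hT D.Q_two hn
  obtain ⟨j, hj⟩ := IsPGroup.iff_card.1 hp
  have hd : Nat.card ↥(T ⊔ D.Q) ∣ 2 * Nat.card D.Q * (Nat.card D.W * 3) := by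
    have h1 := card_dvd_of_le (sup_le hTC D.Q_le)
    rw [D.card_eq] at h1
    rcases D.m_cases with e | e <;> rw [e] at h1
    · exact h1.trans ⟨2, by ring⟩
    · rwa [show 2 * Nat.card D.Q * (Nat.card D.W * 3) = Nat.card D.Q * Nat.card D.W * 6 by ring]
  have hd2 : Nat.card ↥(T ⊔ D.Q) ∣ 2 * Nat.card D.Q := by
    refine Nat.Coprime.dvd_of_dvd_mul_right ?_ hd
    rw [hj]
    exact (Nat.Coprime.mul_right (D.W_cop.coprime_dvd_right (show 2 ∣ 6 by norm_num)).symm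
      (by norm_num)).pow_left j
  have hle := Nat.le_of_dvd (Nat.mul_pos two_pos Nat.card_pos) hd2
  have h1 : Nat.card ↥(T ⊓ D.Q) * D.Q.relIndex T = Nat.card T := by
    have := card_mul_index ((T ⊓ D.Q).subgroupOf T)
    rw [Nat.card_congr (subgroupOfEquivOfLe (inf_le_left : T ⊓ D.Q ≤ T)).toEquiv] at this
    rw [← inf_relIndex_left]; exact this
  have h2 : Nat.card D.Q * D.Q.relIndex (T ⊔ D.Q) = Nat.card ↥(T ⊔ D.Q) := by
    have := card_mul_index (D.Q.subgroupOf (T ⊔ D.Q))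
    rwa [Nat.card_congr (subgroupOfEquivOfLe (le_sup_right : D.Q ≤ T ⊔ D.Q)).toEquiv] at this
  have h3 : D.Q.relIndex T ≤ D.Q.relIndex (T ⊔ D.Q) :=
    relIndex_le_of_le_right le_sup_left index_ne_zero_of_finite
  have h4 : D.Q.relIndex (T ⊔ D.Q) ≤ 2 := by
    by_contra hlt
    push Not at hlt
    have := Nat.mul_le_mul_left (Nat.card D.Q) hlt
    have : 0 < Nat.card D.Q := Nat.card_pos
    rw [h2] at *
    nlinarith
  rw [← h1, mul_comm 2]
  exact Nat.mul_le_mul_left _ (h3.trans h4)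

/-- No central involution of a subgroup with few fixed points is centralised by `R`. -/
theorem false_fixed_central {H R : Subgroup G} (hH : IsPGroup 2 H) (hR6 : (Nat.card R).Coprime 6)
    (hcard : Nat.card H = 8 * Nat.card ↥(H ⊓ centralizer (R : Set G))) {a : G}
    (ha2 : a * a = 1) (ha1 : a ≠ 1) (hac : ∀ b ∈ H, b * a = a * b) (hRa : ∀ r ∈ R, r * a = a * r) : False := by
  obtain ⟨g, hg⟩ := isConj_iff.1 (h.one (t ^ 3) a h.orderOf_z (Invol.orderOf_eq_two_of ha1 ha2))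
  set T : Subgroup G := H.map (MulAut.conj g⁻¹).toMonoidHom with hT
  have hTC : T ≤ centralizer ({t ^ 3} : Set G) := by
    rintro _ ⟨b, hb, rfl⟩
    rw [mem_centralizer_singleton_iff]
    show g⁻¹ * b * g⁻¹⁻¹ * t ^ 3 = t ^ 3 * (g⁻¹ * b * g⁻¹⁻¹)
    have e := hac b hb
    rw [← hg] at e
    calc g⁻¹ * b * g⁻¹⁻¹ * t ^ 3 = g⁻¹ * (b * (g * t ^ 3 * g⁻¹)) * g := by group
      _ = g⁻¹ * (g * t ^ 3 * g⁻¹ * b) * g := by rw [e]
      _ = _ := by group
  have h1 := D.card_le_two_mul h (T := T) (hH.map _) hTC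
  have hTcard : Nat.card T = Nat.card H := card_map_of_injective (MulEquiv.injective _)
  set U : Subgroup G := (T ⊓ D.Q).map (MulAut.conj g).toMonoidHom with hU
  have hUle : U ≤ H ⊓ centralizer (R : Set G) := by
    rintro _ ⟨c, ⟨hcT, hcQ⟩, rfl⟩
    obtain ⟨b, hb, rfl⟩ := hcT
    refine ⟨?_, mem_centralizer_iff.2 fun r hr => ?_⟩
    · show g * (g⁻¹ * b * g⁻¹⁻¹) * g⁻¹ ∈ H
      rwa [show g * (g⁻¹ * b * g⁻¹⁻¹) * g⁻¹ = b by group]
    · exact D.comm_conj h (g := g) (w := r) (by rw [hg]; exact hRa r hr)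
        (hR6.coprime_dvd_left (Subgroup.orderOf_dvd_natCard R hr)) hcQ
  have h2 : Nat.card ↥(T ⊓ D.Q) ≤ Nat.card ↥(H ⊓ centralizer (R : Set G)) := by
    have hUc : Nat.card U = Nat.card ↥(T ⊓ D.Q) := card_map_of_injective (MulEquiv.injective _)
    rw [← hUc]
    exact Subgroup.card_le_of_le hUle
  have : 0 < Nat.card ↥(H ⊓ centralizer (R : Set G)) := Nat.card_pos
  omega

/-- An `x`-invariant 2-subgroup of the centraliser normalised by the moving odd subgroup is elementary of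
order eight. -/
theorem eight_of_fixed {M E S H R : Subgroup G} (hS : S ≤ centralizer ({t ^ 3} : Set G))
    (hE : LocalData t S M E) (hRM : R ≤ M) (hR6 : (Nat.card R).Coprime 6)
    (hRx : ∀ a ∈ R, t ^ 2 * a * (t ^ 2)⁻¹ ∈ R) (hmove : ∃ a ∈ R, a * t ^ 3 ≠ t ^ 3 * a)
    (hH : IsPGroup 2 H) (hHC : H ≤ centralizer ({t ^ 3} : Set G)) (hzH : t ^ 3 ∈ H)
    (hHx : ∀ a ∈ H, t ^ 2 * a * (t ^ 2)⁻¹ ∈ H) (hHR : ∀ r ∈ R, ∀ a ∈ H, r * a * r⁻¹ ∈ H) :
    Nat.card H = 8 ∧ (∀ a ∈ H, ∀ b ∈ H, a * b = b * a) ∧ ∀ a ∈ H, a * a = 1 := by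
  classical
  haveI : Fact (Nat.Prime 2) := ⟨Nat.prime_two⟩
  let V : Subgroup G :=
    { carrier := {a | a ∈ H ∧ a * a = 1 ∧ ∀ b ∈ H, b * a = a * b}
      one_mem' := ⟨one_mem _, one_mul 1, fun b _ => by rw [mul_one, one_mul]⟩
      mul_mem' := by
        rintro a b ⟨ha, ha2, hac⟩ ⟨hb, hb2, hbc⟩
        refine ⟨mul_mem ha hb, ?_, fun c hc => ?_⟩
        · calc a * b * (a * b) = a * (b * a) * b := by group
            _ = a * (a * b) * b := by rw [hac b hb]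
            _ = a * a * (b * b) := by group
            _ = 1 := by rw [ha2, hb2, one_mul]
        · rw [← mul_assoc, hac c hc, mul_assoc, hbc c hc, mul_assoc]
      inv_mem' := by
        rintro a ⟨ha, ha2, hac⟩
        rw [show a⁻¹ = a from inv_eq_of_mul_eq_one_right ha2]
        exact ⟨ha, ha2, hac⟩ }
  have hVH : V ≤ H := fun a ha => ha.1
  have hnV : ∀ g : G, (∀ a ∈ H, g * a * g⁻¹ ∈ H) → ∀ a ∈ V, g * a * g⁻¹ ∈ V := by
    intro g hg a ha
    refine ⟨hg a ha.1, ?_, fun b hb => ?_⟩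
    · rw [show g * a * g⁻¹ * (g * a * g⁻¹) = g * (a * a) * g⁻¹ by group, ha.2.1, mul_one, mul_inv_cancel]
    · obtain ⟨c, hc, rfl⟩ : ∃ c ∈ H, g * c * g⁻¹ = b := by
        have hmem := mem_norm hg
        exact ⟨g⁻¹ * b * g, (mem_normalizer_iff''.1 hmem b).1 hb, by group⟩
      rw [show g * c * g⁻¹ * (g * a * g⁻¹) = g * (c * a) * g⁻¹ by group, ha.2.2 c hc]
      group
  have hzV : t ^ 3 ∈ V := ⟨hzH, h.z_sq, fun b hb => mem_centralizer_singleton_iff.1 (hHC hb)⟩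
  have hcV := h.card_eight_mul hS hE hRM hR6 hRx hmove (hH.to_le hVH) (hVH.trans hHC) hzV
    (hnV _ hHx) (fun r hr => hnV r (hHR r hr))
  have hcH := h.card_eight_mul hS hE hRM hR6 hRx hmove hH hHC hzH hHx hHR
  set A : Subgroup G := H ⊓ centralizer (R : Set G) with hA
  have hVA : V ⊓ centralizer (R : Set G) = ⊥ := by
    rw [eq_bot_iff]
    intro a ha
    by_contra hne
    exact D.false_fixed_central h hH hR6 hcH ha.1.2.1 hne ha.1.2.2
      (fun r hr => mem_centralizer_iff.1 ha.2 r hr)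
  rw [hVA, card_bot, mul_one] at hcV
  let f : V × A → H := fun p => ⟨(p.1 : G) * p.2, mul_mem (hVH p.1.2) p.2.2.1⟩
  have hf : Function.Injective f := by
    rintro ⟨v, a⟩ ⟨v', a'⟩ e
    have e' : (v : G) * a = v' * a' := congrArg Subtype.val e
    have hm : (v' : G)⁻¹ * v ∈ V ⊓ centralizer (R : Set G) := by
      refine ⟨V.mul_mem (V.inv_mem v'.2) v.2, ?_⟩
      rw [show (v' : G)⁻¹ * v = (a' : G) * (a : G)⁻¹ by
        rw [eq_mul_inv_iff_mul_eq, mul_assoc, e', inv_mul_cancel_left]]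
      exact Subgroup.mul_mem _ a'.2.2 (Subgroup.inv_mem _ a.2.2)
    rw [hVA, mem_bot, inv_mul_eq_one] at hm
    rw [← hm] at e'
    exact Prod.ext (Subtype.ext hm.symm) (Subtype.ext (mul_left_cancel e'))
  have hsurj : Function.Surjective f :=
    ((Nat.bijective_iff_injective_and_card f).2 ⟨hf, by rw [Nat.card_prod, hcV, hcH]⟩).2
  have hAbot : A = ⊥ := by
    by_contra hne
    obtain ⟨e, heA, he2, he1, hec⟩ := LenEight.exists_fixed_involution (hH.to_le inf_le_left) le_rfl hne le_normalizer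
    refine D.false_fixed_central h hH hR6 hcH he2 he1 (fun b hb => ?_) (fun r hr => mem_centralizer_iff.1 heA.2 r hr)
    obtain ⟨⟨v, a⟩, hva⟩ := hsurj ⟨b, hb⟩
    have hva' : (v : G) * a = b := congrArg Subtype.val hva
    rw [← hva']
    exact ((show Commute (v : G) e from (v.2.2.2 e heA.1).symm).mul_left (show Commute (a : G) e from hec a a.2)).eq
  have hA1 : Nat.card A = 1 := card_eq_one.2 hAbot
  have hHV : V = H := eq_of_le_of_card_ge hVH (by rw [hcH, hA1, hcV])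
  refine ⟨by rw [hcH, hA1], fun a ha b hb => ?_, fun a ha => ?_⟩
  · exact (hHV.ge hb).2.2 a ha
  · exact (hHV.ge ha).2.1

end Sol

namespace Frame

variable {D : Sol t} (F : Frame t D) (h : Hyp t)
include F h

/-- In the solvable local case the normal 2-subgroup is `Q`. -/
theorem eq_Q {M E : Subgroup G} (hE : LocalData t (F.S : Subgroup G) M E) (hx : t ^ 2 ∈ M)
    (h2 : Nat.card (F.S : Subgroup G) = 2 * Nat.card E) : E = D.Q :=
  eq_of_le_of_card_ge (F.le_Q h hE.le_sylow fun a ha => hE.norm _ hx a ha)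
    (by have := F.card; omega)

/-- With a second central involution, `Q` is not abelian. -/
theorem false_of_abelian (hQ : D.Q ≠ zpowers (t ^ 3))
    (hab : ∀ a ∈ D.Q, ∀ b ∈ D.Q, a * b = b * a) : False := by
  classical
  haveI : Fact (Nat.Prime 2) := ⟨Nat.prime_two⟩
  have q := D.qhyp h
  set x := t ^ 2 with hx
  -- the image of `a ↦ a⁻¹ x a x⁻¹`
  let A : Subgroup G :=
    { carrier := {c | ∃ a ∈ D.Q, a⁻¹ * (x * a * x⁻¹) = c}
      one_mem' := ⟨1, one_mem _, by group⟩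
      mul_mem' := by
        rintro _ _ ⟨a, ha, rfl⟩ ⟨b, hb, rfl⟩
        refine ⟨a * b, mul_mem ha hb, ?_⟩
        rw [show (a * b)⁻¹ * (x * (a * b) * x⁻¹) = b⁻¹ * (a⁻¹ * (x * a * x⁻¹)) * (x * b * x⁻¹) by group,
          hab b⁻¹ (inv_mem hb) _ (mul_mem (inv_mem ha) (D.Q_norm _ h.x_mem_cen a ha)), mul_assoc]
      inv_mem' := by
        rintro _ ⟨a, ha, rfl⟩
        refine ⟨a⁻¹, inv_mem ha, ?_⟩
        rw [inv_inv, mul_inv_rev, inv_inv, show (x * a * x⁻¹)⁻¹ = x * a⁻¹ * x⁻¹ by group]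
        exact hab a ha _ (D.Q_norm _ h.x_mem_cen _ (inv_mem ha)) }
  have hAQ : A ≤ D.Q := by
    rintro _ ⟨a, ha, rfl⟩
    exact mul_mem (inv_mem ha) (D.Q_norm _ h.x_mem_cen a ha)
  have hzA : t ^ 3 ∉ A := by
    rintro ⟨a, ha, e⟩
    have h1 : x * a * x⁻¹ = t ^ 3 * a := by
      rw [inv_mul_eq_iff_eq_mul.1 e, hab a ha _ D.z_mem]
    have hzx : x * t ^ 3 * x⁻¹ = t ^ 3 := by rw [hx, h.xz_comm.eq, mul_inv_cancel_right]
    have h3 := conj_three x a
    rw [h.x_cube, inv_one, mul_one, one_mul, h1,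
      show x * (t ^ 3 * a) * x⁻¹ = (x * t ^ 3 * x⁻¹) * (x * a * x⁻¹) by group, hzx, h1,
      ← mul_assoc (t ^ 3) (t ^ 3) a, h.z_sq, one_mul, h1] at h3
    exact h.z_ne (mul_eq_right.1 h3)
  have hsA : ∀ c ∈ A, F.s * c * F.s⁻¹ ∈ A := by
    rintro _ ⟨a, ha, rfl⟩
    set b := F.s * a * F.s⁻¹ with hb
    have hbQ : b ∈ D.Q := D.Q_norm _ (F.s_mem_cen h) a ha
    have hx' : x⁻¹ * b⁻¹ * x ∈ D.Q := by
      have := D.Q_norm _ (inv_mem h.x_mem_cen) _ (inv_mem hbQ)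
      rwa [inv_inv] at this
    refine ⟨x⁻¹ * b⁻¹ * x, hx', ?_⟩
    rw [show F.s * (a⁻¹ * (x * a * x⁻¹)) * F.s⁻¹ =
      b⁻¹ * ((F.s * x * F.s⁻¹) * b * (F.s * x * F.s⁻¹)⁻¹) by rw [hb]; group, hx, F.sinv, ← hx, inv_inv]
    rw [show (x⁻¹ * b⁻¹ * x)⁻¹ * (x * (x⁻¹ * b⁻¹ * x) * x⁻¹) = (x⁻¹ * b * x) * b⁻¹ by group]
    exact hab _ (by simpa [mul_assoc] using inv_mem hx') _ (inv_mem hbQ)
  -- every element is `z^i` times an element of `A`
  have hdec : ∀ a ∈ D.Q, a ∈ A ∨ t ^ 3 * a ∈ A := by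
    have hcard : Nat.card D.Q ≤ 2 * Nat.card A := by
      let φ : D.Q →* A :=
        MonoidHom.mk' (fun a => ⟨(a : G)⁻¹ * (x * a * x⁻¹), a, a.2, rfl⟩) fun a b => Subtype.ext (by
          show ((a : G) * b)⁻¹ * (x * ((a : G) * b) * x⁻¹) =
            (a : G)⁻¹ * (x * a * x⁻¹) * ((b : G)⁻¹ * (x * b * x⁻¹))
          rw [show ((a : G) * b)⁻¹ * (x * ((a : G) * b) * x⁻¹) =
            (b : G)⁻¹ * ((a : G)⁻¹ * (x * a * x⁻¹)) * (x * b * x⁻¹) by group,
            hab _ (inv_mem b.2) _ (mul_mem (inv_mem a.2) (D.Q_norm _ h.x_mem_cen a a.2)), mul_assoc])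
      have hk : Nat.card φ.ker ≤ 2 := by
        have hsub : φ.ker.map D.Q.subtype ≤ zpowers (t ^ 3) := by
          rintro _ ⟨a, ha, rfl⟩
          have e : (a : G)⁻¹ * (x * a * x⁻¹) = 1 := congrArg Subtype.val (MonoidHom.mem_ker.1 ha)
          exact q.mem_zz.2 (q.fixed a.2 (mul_inv_eq_iff_eq_mul.1 (inv_mul_eq_one.1 e).symm))
        rw [← card_map_of_injective D.Q.subtype_injective]
        exact (Subgroup.card_le_of_le hsub).trans (by rw [Nat.card_zpowers, h.orderOf_z])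
      have h1 := card_mul_index φ.ker
      rw [index_ker] at h1
      rw [← h1]
      exact Nat.mul_le_mul hk (Subgroup.card_le_card_group _)
    intro a ha
    let f : A ⊕ A → D.Q := Sum.elim (fun c => ⟨c, hAQ c.2⟩) (fun c => ⟨t ^ 3 * c, mul_mem D.z_mem (hAQ c.2)⟩)
    have hf : Function.Injective f := by
      rintro (c | c) (d | d) e <;> have e' := congrArg Subtype.val e <;> simp [f] at e'
      · exact congrArg Sum.inl e'
      · exact absurd (show t ^ 3 ∈ A by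
          have := mul_mem c.2 (inv_mem d.2)
          rwa [e', mul_inv_cancel_right] at this) hzA
      · exact absurd (show t ^ 3 ∈ A by
          have := mul_mem d.2 (inv_mem c.2)
          rwa [← e', mul_inv_cancel_right] at this) hzA
      · exact congrArg Sum.inr e'
    have hbij := hf.bijective_of_nat_card_le (by rw [Nat.card_sum]; omega)
    obtain ⟨c | c, hc⟩ := hbij.2 ⟨a, ha⟩ <;> have hc' := congrArg Subtype.val hc <;> simp [f] at hc'
    · exact Or.inl (hc' ▸ c.2)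
    · right
      rw [← hc', ← mul_assoc, h.z_sq, one_mul]
      exact c.2
  have hsz : F.s * t ^ 3 * F.s⁻¹ = t ^ 3 := by
    rw [mem_centralizer_singleton_iff.1 (F.s_mem_cen h), mul_inv_cancel_right]
  have hsc : ∀ a ∈ D.Q, F.s * a * F.s⁻¹ * a⁻¹ ∈ A := by
    intro a ha
    rcases hdec a ha with e | e
    · exact mul_mem (hsA a e) (inv_mem e)
    · have := mul_mem (hsA _ e) (inv_mem e)
      rwa [show F.s * (t ^ 3 * a) * F.s⁻¹ = (F.s * t ^ 3 * F.s⁻¹) * (F.s * a * F.s⁻¹) by group, hsz, mul_inv_rev,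
        show t ^ 3 * (F.s * a * F.s⁻¹) * (a⁻¹ * (t ^ 3)⁻¹) = t ^ 3 * (F.s * a * F.s⁻¹ * a⁻¹) * (t ^ 3)⁻¹ by group,
        hab _ D.z_mem _ (mul_mem (D.Q_norm _ (F.s_mem_cen h) a ha) (inv_mem ha)), mul_inv_cancel_right] at this
  -- all commutators of `S` lie in `A`
  have hQg : ∀ a ∈ D.Q, ∀ g ∈ (F.S : Subgroup G), a * g * a⁻¹ * g⁻¹ ∈ A := by
    intro a ha g hg
    rcases F.split g hg with e | e
    · rw [hab a ha g e, mul_inv_cancel_right, mul_inv_cancel]; exact one_mem _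
    · have h1 := inv_mem (hsc a ha)
      rwa [show a * g * a⁻¹ * g⁻¹ = a * F.s * ((F.s⁻¹ * g) * a⁻¹) * (F.s⁻¹ * g)⁻¹ * F.s⁻¹ by group,
        hab _ e _ (inv_mem ha),
        show a * F.s * (a⁻¹ * (F.s⁻¹ * g)) * (F.s⁻¹ * g)⁻¹ * F.s⁻¹ = (F.s * a * F.s⁻¹ * a⁻¹)⁻¹ by group]
  have hcomm : ⁅(F.S : Subgroup G), (F.S : Subgroup G)⁆ ≤ A := by
    rw [commutator_le]
    intro g hg k hk
    rw [commutatorElement_def]
    have hsk : F.s * k * F.s⁻¹ * k⁻¹ ∈ A := by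
      rcases F.split k hk with e | e
      · exact hsc k e
      · have := hsA _ (hsc _ e)
        rwa [show F.s * (F.s * (F.s⁻¹ * k) * F.s⁻¹ * (F.s⁻¹ * k)⁻¹) * F.s⁻¹ = F.s * k * F.s⁻¹ * k⁻¹ by group] at this
    rcases F.split g hg with e | e
    · exact hQg g e k hk
    · have := mul_mem (hsA _ (hQg _ e k hk)) hsk
      rwa [show F.s * (F.s⁻¹ * g * k * (F.s⁻¹ * g)⁻¹ * k⁻¹) * F.s⁻¹ * (F.s * k * F.s⁻¹ * k⁻¹) =
        g * k * g⁻¹ * k⁻¹ by group] at this
  set C' := ⁅(F.S : Subgroup G), (F.S : Subgroup G)⁆ with hC'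
  have hCne : C' ≠ ⊥ := by
    intro e
    refine F.hsQ (F.mem_Q_of_cent h hQ F.hsS fun b hb => ?_)
    have := (commutator_eq_bot_iff_le_centralizer.1 e) F.hsS
    exact (mem_centralizer_iff.1 this b (F.hQS hb)).symm
  have hinv : ∀ n : G, (∀ s ∈ (F.S : Subgroup G), n * s * n⁻¹ ∈ (F.S : Subgroup G)) → ∀ c ∈ C', n * c * n⁻¹ ∈ C' := by
    intro n hn c hc
    have hle : C'.map (MulAut.conj n).toMonoidHom ≤ C' := by
      rw [hC', map_commutator]
      have hm : (F.S : Subgroup G).map (MulAut.conj n).toMonoidHom ≤ F.S := by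
        rintro _ ⟨s, hs, rfl⟩; exact hn s hs
      exact commutator_mono hm hm
    exact hle ⟨c, hc, rfl⟩
  obtain ⟨e, heC, he2, he1, hec⟩ := LenEight.exists_fixed_involution F.S.2
    (hcomm.trans (hAQ.trans F.hQS)) hCne fun g hg => mem_norm (hinv g fun s hs => mul_mem (mul_mem hg hs) (inv_mem hg))
  obtain ⟨g, hg⟩ := isConj_iff.1 (h.one e (t ^ 3) (LenEight.orderOf_two he2 he1) h.orderOf_z)
  obtain ⟨n, hn, hn'⟩ := exists_normalizer_conj F.S hec
    (fun s hs => mem_centralizer_singleton_iff.1 (F.hS hs)) hg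
  exact hzA (hcomm (hn' ▸ hinv n hn e heC))

/-- Only `z` is a central involution of `S`. -/
theorem only_z (hQ : D.Q ≠ zpowers (t ^ 3)) :
    ∀ a ∈ (F.S : Subgroup G), a * a = 1 → (∀ b ∈ (F.S : Subgroup G), b * a = a * b) → a = 1 ∨ a = t ^ 3 := by
  classical
  haveI : Fact (Nat.Prime 2) := ⟨Nat.prime_two⟩
  intro a ha ha2 hac
  by_contra hcon
  push Not at hcon
  obtain ⟨ha1, haz⟩ := hcon
  obtain ⟨g, hg⟩ := isConj_iff.1 (h.one (t ^ 3) a h.orderOf_z (Invol.orderOf_eq_two_of ha1 ha2))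
  obtain ⟨n, hn, hn'⟩ := exists_normalizer_conj F.S (fun s hs => mem_centralizer_singleton_iff.1 (F.hS hs)) hac hg
  have hnz : n * t ^ 3 ≠ t ^ 3 * n := fun e => haz (by rw [← hn', e, mul_inv_cancel_right])
  obtain ⟨X, hSX, hxX, hXC, hcard, hcore, hself, hquot⟩ := F.exists_low h hQ
  have key : ∀ K : Subgroup G, K ≤ (F.S : Subgroup G) → K ≠ ⊥ →
      (∀ g : G, (∀ s ∈ (F.S : Subgroup G), g * s * g⁻¹ ∈ (F.S : Subgroup G)) → ∀ k ∈ K, g * k * g⁻¹ ∈ K) →
      ¬ ∀ a ∈ X, ∀ k ∈ K, a * k * a⁻¹ ∈ K := by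
    intro K hKS hK1 hKc hKX
    have hKnS : (F.S : Subgroup G) ≤ normalizer (K : Set G) := fun s hs =>
      mem_norm (hKc s fun s' hs' => mul_mem (mul_mem hs hs') (inv_mem hs))
    obtain ⟨e, heK, he2, he1, hec⟩ := LenEight.exists_fixed_involution F.S.2 hKS hK1 hKnS
    have hzK : t ^ 3 ∈ K := by
      obtain ⟨g', hg'⟩ := isConj_iff.1 (h.one e (t ^ 3) (LenEight.orderOf_two he2 he1) h.orderOf_z)
      obtain ⟨n', hn1, hn2⟩ := exists_normalizer_conj F.S hec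
        (fun s hs => mem_centralizer_singleton_iff.1 (F.hS hs)) hg'
      exact hn2 ▸ hKc n' hn1 e heK
    obtain ⟨E, hE⟩ := h.local_structure F.hS (M := normalizer (K : Set G)) hKnS (mem_norm (hKX _ hxX)) le_normalizer
      (fun m hm' k hk => (mem_normalizer_iff.1 hm' k).1 hk) (F.S.2.to_le hKS) hzK ⟨n, mem_norm (hKc n hn), hnz⟩
    rcases hE.cases with ⟨hx', -⟩ | ⟨-, ⟨h2, htop⟩ | ⟨-, -, hN⟩⟩
    · exact F.not_norm h hx'
    · have hEQ := F.eq_Q h hE (mem_norm (hKX _ hxX)) h2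
      obtain ⟨R, hRM, hR6, hRx, hRmove⟩ := h.exists_moving F.hS hKnS (mem_norm (hKX _ hxX)) hE htop
        ⟨n, mem_norm (hKc n hn), hnz⟩
      exact F.false_of_abelian h hQ (D.eight_of_fixed h F.hS hE hRM hR6 hRx hRmove D.Q_two D.Q_le D.z_mem
        (D.Q_norm _ h.x_mem_cen) (fun r hr q hq => hEQ ▸ hE.norm r (hRM hr) q (hEQ ▸ hq))).2.1
    · exact hnz (mem_centralizer_singleton_iff.1 (F.hS (hN n (mem_norm (hKc n hn)) hn)))
  exact F.false_of_abelian h hQ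
    (F.comm_of_class_two h hQ (class_two_of hSX F.hQS hcard hcore hself hquot key))

/-- Nor does `Q` have a further central involution. -/
theorem only_z_Q (hQ : D.Q ≠ zpowers (t ^ 3)) :
    ∀ a ∈ D.Q, a * a = 1 → (∀ b ∈ D.Q, b * a = a * b) → a = 1 ∨ a = t ^ 3 := by
  have q := D.qhyp h
  set x := t ^ 2 with hx
  set z := t ^ 3 with hz
  have step : ∀ a ∈ D.Q, a * a = 1 → (∀ b ∈ D.Q, b * a = a * b) →
      F.s * a * F.s⁻¹ = a ∨ F.s * a * F.s⁻¹ = z * a := by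
    intro a ha ha2 hac
    obtain ⟨a', ha'⟩ : ∃ a', a' = F.s * a * F.s⁻¹ := ⟨_, rfl⟩
    rw [← ha']
    have ha'Q : a' ∈ D.Q := ha' ▸ D.Q_norm _ (F.s_mem_cen h) a ha
    have hss : ∀ c ∈ D.Q, F.s * (F.s * c * F.s⁻¹) * F.s⁻¹ = c := by
      intro c hc
      rw [show F.s * (F.s * c * F.s⁻¹) * F.s⁻¹ = (F.s * F.s) * c * (F.s * F.s)⁻¹ by group]
      rcases F.s_sq with e | e <;> rw [e]
      · group
      · rw [q.z_comm hc, mul_inv_cancel_right]
    have hac' : ∀ b ∈ D.Q, b * a' = a' * b := by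
      intro b hb
      have e := hac _ (D.Q_norm _ (F.s_mem_cen h) b hb)
      have e2 : F.s * (F.s * b * F.s⁻¹ * a) * F.s⁻¹ = F.s * (a * (F.s * b * F.s⁻¹)) * F.s⁻¹ := by rw [e]
      calc b * a' = F.s * (F.s * b * F.s⁻¹) * F.s⁻¹ * a' := by rw [hss b hb]
        _ = F.s * (F.s * b * F.s⁻¹ * a) * F.s⁻¹ := by rw [ha']; group
        _ = F.s * (a * (F.s * b * F.s⁻¹)) * F.s⁻¹ := e2
        _ = a' * (F.s * (F.s * b * F.s⁻¹) * F.s⁻¹) := by rw [ha']; group
        _ = a' * b := by rw [hss b hb]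
    have hp2 : a' * a * (a' * a) = 1 := by
      rw [show a' * a * (a' * a) = a' * (a * a') * a by group, ← hac a' ha'Q,
        show a' * (a' * a) * a = (a' * a') * (a * a) by group, ha2, mul_one, ha',
        show F.s * a * F.s⁻¹ * (F.s * a * F.s⁻¹) = F.s * (a * a) * F.s⁻¹ by group, ha2]
      group
    have hpc : ∀ b ∈ (F.S : Subgroup G), b * (a' * a) = a' * a * b := by
      intro b hb
      have hQc : ∀ c ∈ D.Q, c * (a' * a) = a' * a * c := fun c hc => by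
        rw [← mul_assoc, hac' c hc, mul_assoc, hac c hc, mul_assoc]
      have hs : F.s * (a' * a) = a' * a * F.s := by
        refine mul_inv_eq_iff_eq_mul.1 ?_
        calc F.s * (a' * a) * F.s⁻¹ = F.s * (F.s * a * F.s⁻¹) * F.s⁻¹ * (F.s * a * F.s⁻¹) := by rw [ha']; group
          _ = a * a' := by rw [hss a ha, ha']
          _ = a' * a := hac' a ha
      rcases F.split b hb with e | e
      · exact hQc b e
      · calc b * (a' * a) = F.s * ((F.s⁻¹ * b) * (a' * a)) := by group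
          _ = F.s * (a' * a * (F.s⁻¹ * b)) := by rw [hQc _ e]
          _ = F.s * (a' * a) * (F.s⁻¹ * b) := by group
          _ = a' * a * b := by rw [hs]; group
    rcases F.only_z h hQ _ (F.hQS (mul_mem ha'Q ha)) hp2 hpc with e | e
    · left; rw [eq_inv_of_mul_eq_one_left e, inv_eq_of_mul_eq_one_right ha2]
    · right; rw [hz, ← e, mul_assoc, ha2, mul_one]
  intro a ha ha2 hac
  rcases step a ha ha2 hac with e | e
  · refine F.only_z h hQ a (F.hQS ha) ha2 fun b hb => ?_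
    rcases F.split b hb with e' | e'
    · exact hac b e'
    · calc b * a = F.s * ((F.s⁻¹ * b) * a) := by group
        _ = F.s * (a * (F.s⁻¹ * b)) := by rw [hac _ e']
        _ = (F.s * a * F.s⁻¹) * b := by group
        _ = a * b := by rw [e]
  · obtain ⟨a₁, ha₁⟩ : ∃ a₁, a₁ = x * a * x⁻¹ := ⟨_, rfl⟩
    have hxz : x * z * x⁻¹ = z := by rw [hx, hz, h.xz_comm.eq, mul_inv_cancel_right]
    have ha₁Q : a₁ ∈ D.Q := ha₁ ▸ D.Q_norm _ h.x_mem_cen a ha
    have ha₁2 : a₁ * a₁ = 1 := by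
      rw [ha₁, show x * a * x⁻¹ * (x * a * x⁻¹) = x * (a * a) * x⁻¹ by group, ha2]; group
    have ha₁c : ∀ b ∈ D.Q, b * a₁ = a₁ * b := by
      intro b hb
      have hb' : x⁻¹ * b * x ∈ D.Q := by
        have := D.Q_norm _ (inv_mem h.x_mem_cen) b hb
        rwa [inv_inv] at this
      calc b * a₁ = x * (x⁻¹ * b * x * a) * x⁻¹ := by rw [ha₁]; group
        _ = x * (a * (x⁻¹ * b * x)) * x⁻¹ := by rw [hac _ hb']
        _ = a₁ * b := by rw [ha₁]; group
    have hcalc : x * (F.s * a₁ * F.s⁻¹) * x⁻¹ = z * a := by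
      rw [show x * (F.s * a₁ * F.s⁻¹) * x⁻¹ =
        x * (F.s * x * F.s⁻¹) * (F.s * a * F.s⁻¹) * (F.s * x * F.s⁻¹)⁻¹ * x⁻¹ by rw [ha₁]; group, hx, F.sinv, e]
      group
    have hxxx := conj_three x a
    rw [h.x_cube, inv_one, mul_one, one_mul] at hxxx
    rcases step a₁ ha₁Q ha₁2 ha₁c with e' | e' <;> rw [e'] at hcalc
    · rw [← ha₁, hcalc, show x * (z * a) * x⁻¹ = (x * z * x⁻¹) * (x * a * x⁻¹) by group, hxz] at hxxx
      -- `x` sends `a` to `z a`
      have h1 : x * a * x⁻¹ = z * a := by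
        calc x * a * x⁻¹ = z * (z * (x * a * x⁻¹)) := by rw [← mul_assoc, hz, h.z_sq, one_mul]
          _ = z * a := by rw [hxxx]
      rw [ha₁, h1, show x * (z * a) * x⁻¹ = (x * z * x⁻¹) * (x * a * x⁻¹) by group, hxz, h1] at hcalc
      rw [← mul_assoc, hz, h.z_sq, one_mul] at hcalc
      exact absurd (mul_eq_right.1 hcalc.symm) h.z_ne
    · rw [show x * (z * a₁) * x⁻¹ = (x * z * x⁻¹) * (x * a₁ * x⁻¹) by group, hxz] at hcalc
      have h1 := mul_left_cancel hcalc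
      rw [← ha₁, h1] at hxxx
      exact q.fixed ha (mul_inv_eq_iff_eq_mul.1 hxxx)

end Frame

end Cfsg.Lib.OrderSixCHZ
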