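import Cfsg.Agent.Lib.OrderSixCHZ.SixParab
import Cfsg.Agent.Lib.JankoFourLocal.Group

/-!
# The shape `(Q × W) · S₃`: `Q` is extraspecial of order 32
-/

set_option autoImplicit false
set_option linter.style.haveILetI false
set_option linter.unusedSectionVars false

namespace Cfsg.Lib.OrderSixCHZ

open Subgroup

universe u

variable {G : Type u} [Group G] [Finite G] {t : G}

/-- An element of order three fixing exactly two elements of a subgroup: its order is `2` modulo `3`. -/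
theorem card_mod_three_of_two_fixed {P : Subgroup G} {x z : G} (hx3 : x ^ 3 = 1)
    (hP : ∀ p ∈ P, x * p * x⁻¹ ∈ P) (hzP : z ∈ P) (hz1 : z ≠ 1) (hxz : x * z = z * x)
    (hfix : ∀ p ∈ P, x * p = p * x → p = 1 ∨ p = z) : Nat.card P % 3 = 2 := by
  haveI : Fact (Nat.Prime 3) := ⟨Nat.prime_three⟩
  let φ : P → P := fun p => ⟨x * p * x⁻¹, hP p p.2⟩
  have h3 : ∀ p, φ (φ (φ p)) = p := fun p => Subtype.ext (by
    show x * (x * (x * (p : G) * x⁻¹) * x⁻¹) * x⁻¹ = p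
    rw [conj_three, hx3, inv_one, mul_one, one_mul])
  let σ : Equiv.Perm P := ⟨φ, fun p => φ (φ p), fun p => h3 p, fun p => h3 p⟩
  have hσ : σ ^ 3 = 1 := Equiv.ext fun p => h3 p
  have hp3 : IsPGroup 3 (zpowers σ) := fun g => ⟨1, by
    obtain ⟨g, k, rfl⟩ := g
    apply Subtype.ext
    show (σ ^ k) ^ (3 ^ 1) = 1
    rw [pow_one, ← zpow_natCast, ← zpow_mul, mul_comm, zpow_mul, zpow_natCast, hσ, one_zpow]⟩
  have h := hp3.card_modEq_card_fixedPoints P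
  have hmem : ∀ p : P, p ∈ MulAction.fixedPoints (zpowers σ) P ↔ (p : G) = 1 ∨ (p : G) = z := by
    intro p
    constructor
    · intro hp
      have h'' := congrArg Subtype.val (hp ⟨σ, mem_zpowers σ⟩ : φ p = p)
      exact hfix p p.2 (mul_inv_eq_iff_eq_mul.1 h'')
    · rintro he ⟨g, k, rfl⟩
      show (σ ^ k) p = p
      refine Equiv.Perm.zpow_apply_eq_self_of_apply_eq_self (Subtype.ext ?_) k
      show x * (p : G) * x⁻¹ = p
      rcases he with e | e <;> rw [e]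
      · group
      · rw [hxz, mul_inv_cancel_right]
  have h2 : Nat.card (MulAction.fixedPoints (zpowers σ) P) = 2 := by
    rw [Nat.card_eq_two_iff]
    refine ⟨⟨1, (hmem 1).2 (Or.inl rfl)⟩, ⟨⟨z, hzP⟩, (hmem _).2 (Or.inr rfl)⟩,
      fun e => hz1 (congrArg (fun p : MulAction.fixedPoints (zpowers σ) P => ((p : P) : G)) e).symm, ?_⟩
    ext ⟨p, hp⟩
    simp only [Set.mem_insert_iff, Set.mem_singleton_iff, Set.mem_univ, iff_true]
    rcases (hmem p).1 hp with e | e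
    · exact Or.inl (Subtype.ext (Subtype.ext e))
    · exact Or.inr (Subtype.ext (Subtype.ext e))
  rw [h2] at h
  exact h

namespace QHyp

variable {Q : Subgroup G} (q : QHyp t Q)
include q

/-- Fixed modulo `⟨z⟩` means in `⟨z⟩`. -/
theorem mem_zz_of_fixed_mod {c : G} (hc : c ∈ Q)
    (hfix : t ^ 2 * c * (t ^ 2)⁻¹ * c⁻¹ ∈ zpowers (t ^ 3)) : c ∈ zpowers (t ^ 3) := by
  set x := t ^ 2 with hx
  rcases q.mem_zz.1 hfix with e | e
  · exact q.mem_zz.2 (q.fixed hc (mul_inv_eq_iff_eq_mul.1 (mul_inv_eq_one.1 e)))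
  · exfalso
    have e' := mul_inv_eq_iff_eq_mul.1 e
    have h3 := conj_three x c
    rw [q.hyp.x_cube, inv_one, mul_one, one_mul, e',
      show x * (t ^ 3 * c) * x⁻¹ = (x * t ^ 3 * x⁻¹) * (x * c * x⁻¹) by group,
      show x * t ^ 3 * x⁻¹ = t ^ 3 by rw [hx, q.hyp.xz_comm.eq, mul_inv_cancel_right], e',
      ← mul_assoc (t ^ 3) (t ^ 3) c, q.hyp.z_sq, one_mul, e'] at h3
    exact q.hyp.z_ne (mul_eq_right.1 h3)

theorem card_mod_three {P : Subgroup G} (hPQ : P ≤ Q) (hPx : ∀ a ∈ P, t ^ 2 * a * (t ^ 2)⁻¹ ∈ P)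
    (hzP : t ^ 3 ∈ P) : Nat.card P % 3 = 2 :=
  card_mod_three_of_two_fixed q.hyp.x_cube hPx hzP q.hyp.z_ne q.hyp.xz_comm.eq fun _ hp hc => q.fixed (hPQ hp) hc

variable (hV : ∀ a ∈ Q, a * a = 1 → (∀ b ∈ Q, b * a = a * b) → a = 1 ∨ a = t ^ 3)
include hV

/-- Of order at most 64, the group is extraspecial of order 32. -/
theorem extra_of_le (hle : Nat.card Q ≤ 64) {u : G} (hu : u ∈ Q) (hu2 : u * u = 1) (hu1 : u ≠ 1)
    (huz : u ≠ t ^ 3) :
    Nat.card Q = 32 ∧ Cfsg.IsExtraspecial 2 Q ∧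
      ∀ a ∈ Q, ∀ b ∈ Q, a * b * a⁻¹ * b⁻¹ = 1 ∨ a * b * a⁻¹ * b⁻¹ = t ^ 3 := by
  classical
  haveI : Fact (Nat.Prime 2) := ⟨Nat.prime_two⟩
  set Z := zpowers (t ^ 3) with hZ
  set x := t ^ 2 with hx
  obtain ⟨n, hn⟩ := IsPGroup.iff_card.1 q.two
  have hn3 : n = 1 ∨ n = 3 ∨ n = 5 := by
    have h1 := q.card_mod_three le_rfl q.xnorm q.z_mem
    rw [hn] at h1 hle
    have h2 : n < 7 := by
      by_contra hlt
      push Not at hlt
      have := Nat.pow_le_pow_right (show 1 ≤ 2 by norm_num) hlt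
      omega
    interval_cases n <;> simp at h1 ⊢
  have hZc : ∀ g ∈ Q, ∀ c ∈ Z, g * c * g⁻¹ = c := fun g hg c hc => by
    rw [← q.zz_comm hc hg, mul_inv_cancel_right]
  let Y : Subgroup G :=
    { carrier := {a | a ∈ Q ∧ ∀ b ∈ Q, a * b * a⁻¹ * b⁻¹ ∈ Z}
      one_mem' := ⟨one_mem _, fun b _ => by simp⟩
      mul_mem' := by
        rintro a b ⟨ha, hac⟩ ⟨hb, hbc⟩
        refine ⟨mul_mem ha hb, fun c hc => ?_⟩
        rw [show a * b * c * (a * b)⁻¹ * c⁻¹ = (a * (b * c * b⁻¹ * c⁻¹) * a⁻¹) * (a * c * a⁻¹ * c⁻¹) by group,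
          hZc a ha _ (hbc c hc)]
        exact mul_mem (hbc c hc) (hac c hc)
      inv_mem' := by
        rintro a ⟨ha, hac⟩
        refine ⟨inv_mem ha, fun c hc => ?_⟩
        have h1 := inv_mem (hac c hc)
        rw [← hZc a⁻¹ (inv_mem ha) _ h1] at h1
        rwa [show a⁻¹ * (a * c * a⁻¹ * c⁻¹)⁻¹ * a⁻¹⁻¹ = a⁻¹ * c * a⁻¹⁻¹ * c⁻¹ by group] at h1 }
  have hYQ : Y ≤ Q := fun a ha => ha.1
  have hxZ : ∀ c ∈ Z, x * c * x⁻¹ = c := fun c hc => by
    rcases q.mem_zz.1 hc with e | e <;> rw [e]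
    · group
    · rw [hx, q.hyp.xz_comm.eq, mul_inv_cancel_right]
  have hx3 : ∀ c : G, x * (x * (x * c * x⁻¹) * x⁻¹) * x⁻¹ = c := fun c => by
    rw [conj_three, q.hyp.x_cube, inv_one, mul_one, one_mul]
  have hYx : ∀ a ∈ Y, x * a * x⁻¹ ∈ Y := by
    intro a ha
    refine ⟨q.xnorm a ha.1, fun b hb => ?_⟩
    have hb2 : x * (x * b * x⁻¹) * x⁻¹ ∈ Q := q.xnorm _ (q.xnorm b hb)
    have h1 := ha.2 _ hb2
    rw [← hxZ _ h1] at h1
    rwa [show x * (a * (x * (x * b * x⁻¹) * x⁻¹) * a⁻¹ * (x * (x * b * x⁻¹) * x⁻¹)⁻¹) * x⁻¹ =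
      (x * a * x⁻¹) * (x * (x * (x * b * x⁻¹) * x⁻¹) * x⁻¹) * (x * a * x⁻¹)⁻¹ *
        (x * (x * (x * b * x⁻¹) * x⁻¹) * x⁻¹)⁻¹ by group, hx3 b] at h1
  have hzY : t ^ 3 ∈ Y := ⟨q.z_mem, fun b hb => by rw [q.z_comm hb, mul_inv_cancel_right, mul_inv_cancel]; exact one_mem _⟩
  obtain ⟨a₀, ha₀, ha₀Z, -, ha₀c⟩ := q.exists_center_step le_rfl q.z_mem
    (fun a ha b hb => mul_mem (mul_mem ha hb) (inv_mem ha)) ⟨u, hu, fun hm => (q.mem_zz.1 hm).elim hu1 huz⟩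
  have ha₀Y : a₀ ∈ Y := ⟨ha₀, fun b hb => by
    have := inv_mem (ha₀c b hb)
    rwa [show (b * a₀ * b⁻¹ * a₀⁻¹)⁻¹ = a₀ * b * a₀⁻¹ * b⁻¹ by group] at this⟩
  obtain ⟨k, hk⟩ := IsPGroup.iff_card.1 (q.two.to_le hYQ)
  have hYcard : 8 ≤ Nat.card Y := by
    have h1 := q.card_mod_three hYQ hYx hzY
    have h3 : 3 ≤ Nat.card Y := by
      let f : Fin 3 → Y := ![1, ⟨_, hzY⟩, ⟨_, ha₀Y⟩]
      have hf : Function.Injective f := by
        have h0 : a₀ ≠ 1 := fun e => ha₀Z (e ▸ one_mem _)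
        have h0' : a₀ ≠ t ^ 3 := fun e => ha₀Z (e ▸ mem_zpowers _)
        intro i j e
        fin_cases i <;> fin_cases j <;>
          simp [f, Subtype.ext_iff, q.hyp.z_ne, q.hyp.z_ne.symm, h0, h0.symm, h0', h0'.symm] at e ⊢
      simpa using Nat.card_le_card_of_injective f hf
    rw [hk] at h1 h3 ⊢
    by_contra hlt
    push Not at hlt
    have hk3 : k < 3 := (Nat.pow_lt_pow_iff_right (a := 2) (by norm_num)).1 hlt
    interval_cases k <;> omega
  have hYtop : ∀ a ∈ Q, a ∈ Y := by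
    by_contra hcon
    push Not at hcon
    obtain ⟨a, ha, haY⟩ := hcon
    have h4 : (Y.subgroupOf Q).index = 4 := by
      have h1 := q.card_mod_three hYQ hYx hzY
      have h2 := card_mul_index (Y.subgroupOf Q)
      rw [Nat.card_congr (subgroupOfEquivOfLe hYQ).toEquiv] at h2
      have hlt : Nat.card Y < Nat.card Q := by
        by_contra hge
        exact haY ((eq_of_le_of_card_ge hYQ (not_lt.1 hge)).ge ha)
      rw [hk] at h1 h2 hlt hYcard
      rw [hn] at h2 hlt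
      have hkn : k < n := (Nat.pow_lt_pow_iff_right (a := 2) (by norm_num)).1 hlt
      have h3k : 3 ≤ k := (Nat.pow_le_pow_iff_right (a := 2) (by norm_num)).1 hYcard
      rcases hn3 with e | e | e <;> subst e
      · omega
      · omega
      · interval_cases k <;> omega
    haveI hN : (Y.subgroupOf Q).Normal := ⟨fun c hc g => by
      have hc' : (c : G) ∈ Y := hc
      show (g : G) * c * (g : G)⁻¹ ∈ Y
      have h1 := inv_mem (hc'.2 g g.2)
      have h2 : ((c : G) * g * (c : G)⁻¹ * (g : G)⁻¹)⁻¹ ∈ Y := by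
        rcases q.mem_zz.1 h1 with e | e <;> rw [e]
        · exact one_mem _
        · exact hzY
      have h3 := Y.mul_mem h2 hc'
      rwa [show ((c : G) * g * (c : G)⁻¹ * (g : G)⁻¹)⁻¹ * c = (g : G) * c * (g : G)⁻¹ by group] at h3⟩
    set π := QuotientGroup.mk' (Y.subgroupOf Q) with hπ
    have hπ1 : ∀ c : Q, π c = 1 ↔ (c : G) ∈ Y := fun c => (QuotientGroup.eq_one_iff c).trans mem_subgroupOf
    set b : Q := ⟨x * a * x⁻¹, q.xnorm a ha⟩ with hb
    set aq : Q := ⟨a, ha⟩ with haq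
    set c : Q := ⟨x * (x * a * x⁻¹) * x⁻¹, q.xnorm _ (q.xnorm a ha)⟩ with hc
    have hshift : ∀ d : Q, π d = 1 → π ⟨x * (d : G) * x⁻¹, q.xnorm _ d.2⟩ = 1 :=
      fun d hd => (hπ1 _).2 (hYx _ ((hπ1 d).1 hd))
    have hA1 : π aq ≠ 1 := fun e => haY ((hπ1 _).1 e)
    have hB1 : π b ≠ 1 := fun e => haY (by
      have h1 := hYx _ (hYx _ ((hπ1 _).1 e))
      rwa [hx3] at h1)
    have hC1 : π c ≠ 1 := fun e => haY (by
      have h1 := hYx _ ((hπ1 _).1 e)
      rwa [hx3] at h1)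
    have hAB : π aq ≠ π b := fun e => haY (by
      have hm : a⁻¹ * (x * a * x⁻¹) ∈ Y := (hπ1 (aq⁻¹ * b)).1 (by rw [map_mul, map_inv, e, inv_mul_cancel])
      obtain ⟨d, hd1, hd2⟩ := exists_fixed_coset (q.two.to_le hYQ) q.hyp.x_cube hYx hm
      have hdQ : d ∈ Q := by simpa using mul_mem ha (hYQ hd1)
      have hdY : d ∈ Y := by
        rcases q.fixed hdQ hd2 with e | e <;> rw [e]
        · exact one_mem _
        · exact hzY
      have := Y.mul_mem hdY (Y.inv_mem hd1)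
      rwa [show d * (a⁻¹ * d)⁻¹ = a by group] at this)
    have hBC : π b ≠ π c := fun e => hAB (by
      have h1 : π (b⁻¹ * c) = 1 := by rw [map_mul, map_inv, e, inv_mul_cancel]
      have h2 := hshift _ (hshift (b⁻¹ * c) h1)
      have h3 : π (aq⁻¹ * b) = 1 := by
        refine Eq.trans (congrArg π (Subtype.ext ?_)) h2
        show a⁻¹ * (x * a * x⁻¹) =
          x * (x * ((x * a * x⁻¹)⁻¹ * (x * (x * a * x⁻¹) * x⁻¹)) * x⁻¹) * x⁻¹
        rw [show x * (x * ((x * a * x⁻¹)⁻¹ * (x * (x * a * x⁻¹) * x⁻¹)) * x⁻¹) * x⁻¹ =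
          x * (x * (x * (a⁻¹ * (x * a * x⁻¹)) * x⁻¹) * x⁻¹) * x⁻¹ by group, hx3]
      rwa [map_mul, map_inv, inv_mul_eq_one] at h3)
    have hAC : π aq ≠ π c := fun e => hBC (by
      have h1 : π (aq⁻¹ * c) = 1 := by rw [map_mul, map_inv, e, inv_mul_cancel]
      have h2 := hshift _ h1
      have h3 : π (b⁻¹ * aq) = 1 := by
        refine Eq.trans (congrArg π (Subtype.ext ?_)) h2
        show (x * a * x⁻¹)⁻¹ * a = x * (a⁻¹ * (x * (x * a * x⁻¹) * x⁻¹)) * x⁻¹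
        rw [show x * (a⁻¹ * (x * (x * a * x⁻¹) * x⁻¹)) * x⁻¹ =
          (x * a * x⁻¹)⁻¹ * (x * (x * (x * a * x⁻¹) * x⁻¹) * x⁻¹) by group, hx3]
      rw [map_mul, map_inv, inv_mul_eq_one] at h3
      rw [h3, e])
    have hq4 : Nat.card (Q ⧸ Y.subgroupOf Q) = 4 := by rw [← index_eq_card, h4]
    haveI : Fintype (Q ⧸ Y.subgroupOf Q) := Fintype.ofFinite _
    have huniv : ∀ d : Q ⧸ Y.subgroupOf Q, d = 1 ∨ d = π aq ∨ d = π b ∨ d = π c := by
      intro d
      by_contra hd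
      push Not at hd
      let f : Fin 5 → Q ⧸ Y.subgroupOf Q := ![1, π aq, π b, π c, d]
      have hf : Function.Injective f := by
        obtain ⟨d1, d2, d3, d4⟩ := hd
        intro i j e
        fin_cases i <;> fin_cases j <;>
          simp [f, hA1, hA1.symm, hB1, hB1.symm, hC1, hC1.symm, hAB, hAB.symm, hBC, hBC.symm, hAC, hAC.symm,
            d1, d1.symm, d2, d2.symm, d3, d3.symm, d4, d4.symm] at e ⊢
      have := Nat.card_le_card_of_injective f hf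
      rw [hq4, Nat.card_fin] at this
      omega
    -- the product of the first two is the third
    have habc : π aq * π b = π c := by
      rcases huniv (π aq * π b) with e | e | e | e
      · exfalso
        have h1 : π (aq * b) = 1 := by rw [map_mul, e]
        have h2 := hshift _ h1
        have h3 : π (b * c) = 1 := by
          refine Eq.trans (congrArg π (Subtype.ext ?_)) h2
          show x * a * x⁻¹ * (x * (x * a * x⁻¹) * x⁻¹) = x * (a * (x * a * x⁻¹)) * x⁻¹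
          group
        rw [map_mul] at h3
        refine hAC ?_
        rw [eq_inv_of_mul_eq_one_left e, ← eq_inv_of_mul_eq_one_right h3]
      · exact absurd (mul_eq_left.1 e) hB1
      · exact absurd (mul_eq_right.1 e) hA1
      · exact e
    obtain ⟨y, hy, hcy⟩ : ∃ y ∈ Y, x * (x * a * x⁻¹) * x⁻¹ = a * (x * a * x⁻¹) * y := by
      refine ⟨(a * (x * a * x⁻¹))⁻¹ * (x * (x * a * x⁻¹) * x⁻¹), (hπ1 ((aq * b)⁻¹ * c)).1 ?_,
        (mul_inv_cancel_left _ _).symm⟩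
      rw [map_mul, map_inv, map_mul, habc, inv_mul_cancel]
    set w := a * (x * a * x⁻¹) * a⁻¹ * (x * a * x⁻¹)⁻¹ with hw
    have hwQ : w ∈ Q := mul_mem (mul_mem (mul_mem ha (q.xnorm a ha)) (inv_mem ha)) (inv_mem (q.xnorm a ha))
    -- `x` inverts `w` modulo `Z`
    have h1 : x * w * x⁻¹ * w ∈ Z := by
      obtain ⟨b', hb'⟩ : ∃ b', b' = x * a * x⁻¹ := ⟨_, rfl⟩
      have hb'Q : b' ∈ Q := hb' ▸ q.xnorm a ha
      have e : x * w * x⁻¹ = b' * (x * b' * x⁻¹) * b'⁻¹ * (x * b' * x⁻¹)⁻¹ := by rw [hw, hb']; group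
      rw [hb', hcy, ← hb'] at e
      rw [e, hw, ← hb']
      have h2 : b' * y * b'⁻¹ * y⁻¹ ∈ Z := by
        have := inv_mem (hy.2 b' hb'Q)
        rwa [show (y * b' * y⁻¹ * b'⁻¹)⁻¹ = b' * y * b'⁻¹ * y⁻¹ by group] at this
      rw [show b' * (a * b' * y) * b'⁻¹ * (a * b' * y)⁻¹ * (a * b' * a⁻¹ * b'⁻¹) =
        (b' * a) * (b' * y * b'⁻¹ * y⁻¹) * (b' * a)⁻¹ by group,
        hZc _ (mul_mem hb'Q ha) _ h2]
      exact h2
    have h2 : x * (x * w * x⁻¹) * x⁻¹ * w⁻¹ ∈ Z := by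
      have e1 : x * (x * w * x⁻¹ * w) * x⁻¹ ∈ Z := by rwa [hxZ _ h1]
      have := mul_mem e1 (inv_mem h1)
      rw [show x * (x * w * x⁻¹ * w) * x⁻¹ * (x * w * x⁻¹ * w)⁻¹ =
        x * (x * w * x⁻¹) * x⁻¹ * ((x * w * x⁻¹) * w⁻¹ * (x * w * x⁻¹)⁻¹) by group] at this
      have hc2 := hZc _ (inv_mem (mul_mem (q.xnorm w hwQ) (q.xnorm w hwQ))) _ h1
      have e3 : (x * w * x⁻¹) * w⁻¹ * (x * w * x⁻¹)⁻¹ = w⁻¹ := by
        obtain ⟨v, hv⟩ : ∃ v, v = x * w * x⁻¹ := ⟨_, rfl⟩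
        rw [← hv] at h1 ⊢
        have hvQ : v ∈ Q := hv ▸ q.xnorm w hwQ
        have h5 := q.zz_comm h1 hvQ
        calc v * w⁻¹ * v⁻¹ = v * (v * w)⁻¹ * v⁻¹ * v := by group
          _ = (v * w)⁻¹ * v := by rw [hZc v hvQ _ (inv_mem h1)]
          _ = w⁻¹ := by group
      rwa [e3] at this
    have h3 : w ∈ Z := by
      refine q.mem_zz_of_fixed_mod hwQ ?_
      have e1 : x * (x * (x * w * x⁻¹) * x⁻¹ * w⁻¹) * x⁻¹ ∈ Z := by rwa [hxZ _ h2]
      rw [show x * (x * (x * w * x⁻¹) * x⁻¹ * w⁻¹) * x⁻¹ =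
        (x * (x * (x * w * x⁻¹) * x⁻¹) * x⁻¹) * (x * w * x⁻¹)⁻¹ by group, hx3 w] at e1
      have := inv_mem e1
      rwa [mul_inv_rev, inv_inv] at this
    -- so `a` lies in `Y`
    refine haY ⟨ha, fun d hd => ?_⟩
    have hbase : ∀ y' ∈ Y, a * y' * a⁻¹ * y'⁻¹ ∈ Z := fun y' hy' => by
      have := inv_mem (hy'.2 a ha)
      rwa [show (y' * a * y'⁻¹ * a⁻¹)⁻¹ = a * y' * a⁻¹ * y'⁻¹ by group] at this
    have hmul : ∀ r r', r ∈ Q → a * r * a⁻¹ * r⁻¹ ∈ Z → a * r' * a⁻¹ * r'⁻¹ ∈ Z →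
        a * (r * r') * a⁻¹ * (r * r')⁻¹ ∈ Z := by
      intro r r' hr h1 h2
      rw [show a * (r * r') * a⁻¹ * (r * r')⁻¹ = (a * r * a⁻¹ * r⁻¹) * (r * (a * r' * a⁻¹ * r'⁻¹) * r⁻¹) by group,
        hZc r hr _ h2]
      exact mul_mem h1 h2
    have hcoset : ∀ r : Q, a * (r : G) * a⁻¹ * (r : G)⁻¹ ∈ Z → π ⟨d, hd⟩ = π r → a * d * a⁻¹ * d⁻¹ ∈ Z := by
      intro r hr e
      have hm : (r : G)⁻¹ * d ∈ Y := (hπ1 (r⁻¹ * ⟨d, hd⟩)).1 (by rw [map_mul, map_inv, e, inv_mul_cancel])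
      have := hmul r _ r.2 hr (hbase _ hm)
      rwa [mul_inv_cancel_left] at this
    rcases huniv (π ⟨d, hd⟩) with e | e | e | e
    · exact hbase d ((hπ1 _).1 e)
    · exact hcoset aq (by show a * a * a⁻¹ * a⁻¹ ∈ Z; rw [mul_inv_cancel_right, mul_inv_cancel]; exact one_mem _) e
    · exact hcoset b h3 e
    · exact hcoset (aq * b) (hmul a _ ha (by rw [mul_inv_cancel_right, mul_inv_cancel]; exact one_mem _) h3)
        (by rw [e, map_mul, habc])
  have hclass2 : ∀ a ∈ Q, ∀ b ∈ Q, ∀ c ∈ Q, c * (a * b * a⁻¹ * b⁻¹) = a * b * a⁻¹ * b⁻¹ * c :=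
    fun a ha b hb c hc => (q.zz_comm ((hYtop a ha).2 b hb) hc).symm
  obtain ⟨hsq, hcom⟩ := q.of_class_two hV hclass2
  have h32 : n = 5 := by
    rcases hn3 with e | e | e
    · have hle2 : Nat.card Y ≤ 2 := by
        have := Subgroup.card_le_of_le hYQ
        rwa [hn, e] at this
      omega
    · exfalso
      refine q.noncentral_false hV hcom hu hu2 hu1 huz ?_
      set A : Subgroup G := Q ⊓ centralizer ({u} : Set G) with hA
      have hA4 : Nat.card A ∣ 4 := by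
        obtain ⟨j, hj⟩ := IsPGroup.iff_card.1 (q.two.to_le (inf_le_left : A ≤ Q))
        have hd := card_dvd_of_le (inf_le_left : A ≤ Q)
        have hne : Nat.card A ≠ Nat.card Q := fun e' => (hV u hu hu2 fun b hb =>
          mem_centralizer_singleton_iff.1 ((eq_of_le_of_card_ge (inf_le_left : A ≤ Q) e'.ge).ge hb).2).elim hu1 huz
        rw [hn, e, hj] at hd hne
        rw [hj]
        have hj3 := (Nat.pow_dvd_pow_iff_le_right (by norm_num : 1 < 2)).1 hd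
        exact Nat.pow_dvd_pow 2 (show j ≤ 2 by by_contra hj2; exact hne (by rw [show j = 3 by omega]))
      have hAc : ∀ a b : A, a * b = b * a := by
        obtain ⟨i, hi, hi'⟩ := (Nat.dvd_prime_pow Nat.prime_two (m := 2)).1 hA4
        interval_cases i
        · haveI : Subsingleton A := (Nat.card_eq_one_iff_unique.1 hi').1
          exact fun a b => Subsingleton.elim _ _
        · haveI := isCyclic_of_prime_card (p := 2) hi'
          exact fun a b => (IsCyclic.commGroup (α := A)).mul_comm a b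
        · exact (IsPGroup.isMulCommutative_of_card_eq_prime_sq (p := 2) hi').is_comm.comm
      intro a ha hau b hb hbu
      exact congrArg Subtype.val (hAc ⟨a, ha, mem_centralizer_singleton_iff.2 hau⟩
        ⟨b, hb, mem_centralizer_singleton_iff.2 hbu⟩)
    · exact e
  subst h32
  refine ⟨by rw [hn]; norm_num, ?_, hcom⟩
  refine JankoFour.isExtraspecial_two hn (z := (⟨t ^ 3, q.z_mem⟩ : Q))
    (by rw [Subgroup.orderOf_mk, q.hyp.orderOf_z])
    (fun a b => (hcom a a.2 b b.2).imp (fun e => Subtype.ext e) (fun e => Subtype.ext e))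
    (fun a => (hsq a a.2).imp (fun e => Subtype.ext e) (fun e => Subtype.ext e))
    (fun a ha => (q.center_eq hV a.2 fun b hb => congrArg Subtype.val (ha ⟨b, hb⟩).eq.symm).imp
      (fun e => Subtype.ext e) (fun e => Subtype.ext e))
    (fun b => Subtype.ext (q.z_comm b.2)) ?_
  by_contra hnc
  push Not at hnc
  refine (hV u hu hu2 fun b hb => ?_).elim hu1 huz
  rcases hcom b hb u hu with e | e
  · exact mul_inv_eq_iff_eq_mul.1 (mul_inv_eq_one.1 e)
  · exact absurd (Subtype.ext e) (hnc ⟨b, hb⟩ ⟨u, hu⟩)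

end QHyp

end Cfsg.Lib.OrderSixCHZ
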