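import Cfsg.Agent.Lib.OrderSixCHZ.SixW
import Cfsg.Agent.Lib.CoThreeM12.MData
import Cfsg.Agent.Lib.MTwelveRecog.Central
import Cfsg.Agent.S3344

/-!
# The shape `(Q × W) · S₃`: a noncentral involution in `Q` is impossible
-/

set_option autoImplicit false
set_option linter.style.haveILetI false
set_option linter.unusedSectionVars false

namespace Cfsg.Lib.OrderSixCHZ

open Subgroup

universe u

theorem two_classes_eight : ∃ σ τ : Equiv.Perm (Fin 8), Equiv.Perm.sign σ = 1 ∧ Equiv.Perm.sign τ = 1 ∧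
    σ * σ = 1 ∧ σ ≠ 1 ∧ τ * τ = 1 ∧ τ ≠ 1 ∧ σ.support.card ≠ τ.support.card :=
  ⟨Equiv.swap 0 1 * Equiv.swap 2 3, Equiv.swap 0 1 * Equiv.swap 2 3 * Equiv.swap 4 5 * Equiv.swap 6 7,
    by decide +kernel⟩

theorem two_classes_nine : ∃ σ τ : Equiv.Perm (Fin 9), Equiv.Perm.sign σ = 1 ∧ Equiv.Perm.sign τ = 1 ∧
    σ * σ = 1 ∧ σ ≠ 1 ∧ τ * τ = 1 ∧ τ ≠ 1 ∧ σ.support.card ≠ τ.support.card :=
  ⟨Equiv.swap 0 1 * Equiv.swap 2 3, Equiv.swap 0 1 * Equiv.swap 2 3 * Equiv.swap 4 5 * Equiv.swap 6 7,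
    by decide +kernel⟩

theorem m_twelve_invols : MTwelveRecog.cMul 55 55 = 0 ∧
    MTwelveRecog.cMul MTwelveRecog.cT MTwelveRecog.cT = 0 ∧ (55 : Fin 192) ≠ 0 ∧ MTwelveRecog.cT ≠ 0 := by
  decide +kernel

variable {G : Type u} [Group G] [Finite G] {t : G}

namespace Hyp

variable (h : Hyp t)
include h

theorem one_of_equiv {A : Type*} [Group A] (e : G ≃* A) {a b : A} (ha : orderOf a = 2) (hb : orderOf b = 2) :
    IsConj a b := by
  have h1 := h.one (e.symm a) (e.symm b) (by rw [MulEquiv.orderOf_eq, ha]) (by rw [MulEquiv.orderOf_eq, hb])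
  simpa using e.toMonoidHom.map_isConj h1

theorem not_alternating {n : ℕ} {σ τ : Equiv.Perm (Fin n)} (e : G ≃* alternatingGroup (Fin n))
    (hσ : Equiv.Perm.sign σ = 1) (hτ : Equiv.Perm.sign τ = 1) (hσ2 : σ * σ = 1) (hσ1 : σ ≠ 1)
    (hτ2 : τ * τ = 1) (hτ1 : τ ≠ 1) (hne : σ.support.card ≠ τ.support.card) : False := by
  have h1 := h.one_of_equiv e (a := (⟨σ, hσ⟩ : alternatingGroup (Fin n))) (b := ⟨τ, hτ⟩)
    (by rw [← Subgroup.orderOf_coe]; exact LenEight.orderOf_two hσ2 hσ1)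
    (by rw [← Subgroup.orderOf_coe]; exact LenEight.orderOf_two hτ2 hτ1)
  obtain ⟨c, hc⟩ := isConj_iff.1 h1
  refine hne ?_
  have hc' : (c : Equiv.Perm (Fin n)) * σ * (c : Equiv.Perm (Fin n))⁻¹ = τ := congrArg Subtype.val hc
  rw [← hc', Equiv.Perm.card_support_conj]

theorem not_m_twelve (hM : Cfsg.Spor.IsoM12 G) : False := by
  obtain ⟨e⟩ := hM
  obtain ⟨ι⟩ := MTwelveRecog.nonempty_sporM12_std
  obtain ⟨m1, m2, n1, n2⟩ := m_twelve_invols
  have hord : ∀ i : Fin 192, MTwelveRecog.cMul i i = 0 → i ≠ 0 → orderOf (CoThreeM12.elM i) = 2 := fun i hi hne =>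
    LenEight.orderOf_two (by rw [← CoThreeM12.elM_mul, hi, CoThreeM12.elM_zero])
      (fun e' => hne (CoThreeM12.elM_injective (e'.trans CoThreeM12.elM_zero.symm)))
  exact CoThreeM12.not_isConj_four_center (h.one_of_equiv (e.trans ι) (hord _ m1 n1) (hord _ m2 n2))

end Hyp

namespace Frame

variable {D : Sol t} (F : Frame t D) (h : Hyp t)
include F h

/-- A noncentral involution of `Q`, central modulo `z`, is impossible. -/
theorem false_of_u [IsSimpleGroup G] (hna : ¬ IsMulCommutative G) (hQ : D.Q ≠ zpowers (t ^ 3)) {u : G}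
    (hu : u ∈ D.Q) (hu2 : u * u = 1) (hu1 : u ≠ 1) (huz : u ≠ t ^ 3)
    (huc : ∀ b ∈ D.Q, b * u * b⁻¹ = u ∨ b * u * b⁻¹ = u * t ^ 3) : False := by
  classical
  haveI : Fact (Nat.Prime 2) := ⟨Nat.prime_two⟩
  haveI : Fact (Nat.Prime 3) := ⟨Nat.prime_three⟩
  have q := D.qhyp h
  have hV := F.only_z_Q h hQ
  obtain ⟨v, hv, hv2, hv1, hvz, hvc⟩ := F.exists_u_fixed h hV hu hu2 hu1 huz huc
  have hS128 := F.card_le h hQ hV hv hv2 hv1 hvz hvc
  obtain ⟨h32, hex, hcom⟩ := q.extra_of_le hV (by have := F.card; omega) hv hv2 hv1 hvz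
  have hsq : ∀ a ∈ D.Q, a * a = 1 ∨ a * a = t ^ 3 := (q.of_class_two hV fun a ha b hb c hc => by
    rcases hcom a ha b hb with e | e <;> rw [e]
    · rw [mul_one, one_mul]
    · exact (q.z_comm hc).symm).1
  obtain ⟨y, hy, hyQ, hy2⟩ := F.exists_invol_outside h hna hsq
  have hW := F.W_eq_bot h hv hv2 hv1 hvz hy hyQ hy2 (F.comm_u h hcom hv hv2 hvc hy hyQ hy2)
  set L := centralizer ({t ^ 3} : Set G) with hL
  have hm : D.m = 6 := by
    refine D.m_cases.resolve_left fun e => ?_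
    have := F.card
    have h2 := card_dvd_of_le F.hS
    rw [D.card_eq, hW, card_bot, e, this, h32] at h2
    norm_num at h2
  have hLcard : Nat.card L = 192 := by rw [hL, D.card_eq, hW, card_bot, hm, h32]
  let SL : Sylow 2 L := F.S.subtype F.hS
  have hidx : (SL : Subgroup L).index = 3 := by
    have h1 := card_mul_index (SL : Subgroup L)
    rw [show Nat.card (SL : Subgroup L) = Nat.card (F.S : Subgroup G) from
      Nat.card_congr (subgroupOfEquivOfLe F.hS).toEquiv, F.card, h32, hLcard] at h1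
    omega
  have hnn : ¬ (SL : Subgroup L).Normal := fun hN =>
    F.not_norm h fun a ha => hN.conj_mem ⟨a, F.hS ha⟩ ha ⟨t ^ 2, h.x_mem_cen⟩
  obtain ⟨-, hc6, ⟨eL⟩⟩ := quot_of_index_three SL hidx hnn
  have hcore : Cfsg.pCore 2 L = D.Q.subgroupOf L := by
    refine (eq_of_le_of_card_ge (Fusion.le_pCore (N := D.Q.subgroupOf L) ⟨fun a ha g => D.Q_norm g g.2 a ha⟩
      (D.Q_two.of_equiv (subgroupOfEquivOfLe D.Q_le).symm)) (le_of_eq ?_)).symm
    have h1 := card_mul_index (Cfsg.pCore 2 L)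
    rw [hc6, hLcard] at h1
    rw [Nat.card_congr (subgroupOfEquivOfLe D.Q_le).toEquiv, h32]
    omega
  have hQeq : D.Q = (Cfsg.pCore 2 L).map L.subtype := by
    rw [hcore, subgroupOf, map_comap_eq, range_subtype, inf_eq_right.2 D.Q_le]
  let X : Sylow 3 L := Sylow.ofCard (zpowers ⟨t ^ 2, h.x_mem_cen⟩) (by
    rw [Nat.card_zpowers, Subgroup.orderOf_mk, h.orderOf_x, hLcard, show (192 : ℕ) = 3 ^ 1 * 2 ^ 6 from rfl,
      Nat.factorization_mul (by norm_num) (by norm_num), Finsupp.add_apply,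
      Nat.Prime.factorization_pow Nat.prime_three, Finsupp.single_eq_same,
      Nat.factorization_eq_zero_of_not_dvd (by norm_num : ¬ 3 ∣ 2 ^ 6)]
    rfl)
  have hXmap : (X : Subgroup L).map L.subtype = zpowers (t ^ 2) := by
    rw [Sylow.coe_ofCard, MonoidHom.map_zpowers]; rfl
  have hCQX : D.Q ⊓ centralizer (((X : Subgroup L).map L.subtype : Subgroup G) : Set G) = zpowers (t ^ 3) := by
    rw [hXmap]
    refine le_antisymm (fun a ha => q.mem_zz.2 (q.fixed ha.1 (mem_centralizer_iff.1 ha.2 _ (mem_zpowers _))))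
      (zpowers_le.2 ⟨D.z_mem, mem_centralizer_iff.2 fun b hb => ?_⟩)
    obtain ⟨i, rfl⟩ := mem_zpowers_iff.1 hb
    exact (h.xz_comm.zpow_left i).eq
  have hnwc : ∃ g : G, g * t ^ 3 * g⁻¹ ∈ D.Q ∧ g * t ^ 3 * g⁻¹ ≠ t ^ 3 := by
    obtain ⟨g, hg⟩ := isConj_iff.1 (h.one (t ^ 3) v h.orderOf_z (LenEight.orderOf_two hv2 hv1))
    exact ⟨g, hg ▸ hv, hg ▸ hvz⟩
  rcases Cfsg.Agent.S3344.result (t ^ 3) h.orderOf_z L rfl D.Q hQeq hex h32 eL X hCQX hnwc with
    ⟨N, hN, -, -, hN8, -⟩ | ⟨⟨e⟩⟩ | ⟨⟨e⟩⟩ | hM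
  · rcases hN.eq_bot_or_eq_top with r | r <;> subst r
    · rw [card_bot] at hN8; omega
    · rw [card_top] at hN8
      have := h.orderOf_x ▸ _root_.orderOf_dvd_natCard (t ^ 2)
      omega
  · obtain ⟨σ, τ, a1, a2, a3, a4, a5, a6, a7⟩ := two_classes_eight
    exact h.not_alternating e a1 a2 a3 a4 a5 a6 a7
  · obtain ⟨σ, τ, a1, a2, a3, a4, a5, a6, a7⟩ := two_classes_nine
    exact h.not_alternating e a1 a2 a3 a4 a5 a6 a7
  · exact h.not_m_twelve hM

end Frame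

end Cfsg.Lib.OrderSixCHZ
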