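import Cfsg.Agent.Lib.OrderSixCHZ.SixCentral
import Cfsg.Agent.S2751

/-!
# The shape `(Q × W) · S₃`: `Q` has order 32
-/

set_option autoImplicit false
set_option linter.style.haveILetI false
set_option linter.unusedSectionVars false

namespace Cfsg.Lib.OrderSixCHZ

open Subgroup

universe u

variable {G : Type u} [Group G] [Finite G] {t : G}

namespace Frame

variable {D : Sol t} (F : Frame t D) (h : Hyp t)
include F h

/-- A noncentral involution, central modulo `z`, which `s` fixes modulo `z`. -/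
theorem exists_u_fixed (hV : ∀ a ∈ D.Q, a * a = 1 → (∀ b ∈ D.Q, b * a = a * b) → a = 1 ∨ a = t ^ 3)
    {u : G} (hu : u ∈ D.Q) (hu2 : u * u = 1) (hu1 : u ≠ 1) (huz : u ≠ t ^ 3)
    (huc : ∀ b ∈ D.Q, b * u * b⁻¹ = u ∨ b * u * b⁻¹ = u * t ^ 3) :
    ∃ y ∈ D.Q, y * y = 1 ∧ y ≠ 1 ∧ y ≠ t ^ 3 ∧
      ∀ b ∈ (F.S : Subgroup G), b * y * b⁻¹ = y ∨ b * y * b⁻¹ = y * t ^ 3 := by
  classical
  have q := D.qhyp h
  set x := t ^ 2 with hx
  set Z := zpowers (t ^ 3) with hZ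
  set s := F.s with hs
  have hsC := F.s_mem_cen h
  have hsQ : ∀ a ∈ D.Q, s * a * s⁻¹ ∈ D.Q := D.Q_norm _ hsC
  -- commutators with `Y`
  let Yc : G → Prop := fun a => a ∈ D.Q ∧ ∀ b ∈ D.Q, a * b * a⁻¹ * b⁻¹ ∈ Z
  have hZc : ∀ g ∈ centralizer ({t ^ 3} : Set G), ∀ c ∈ Z, g * c * g⁻¹ = c := by
    intro g hg c hc
    rcases q.mem_zz.1 hc with e | e <;> rw [e]
    · group
    · rw [mem_centralizer_singleton_iff.1 hg, mul_inv_cancel_right]
  have hYconj : ∀ g ∈ centralizer ({t ^ 3} : Set G), ∀ a, Yc a → Yc (g * a * g⁻¹) := by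
    rintro g hg a ⟨ha, hac⟩
    refine ⟨D.Q_norm g hg a ha, fun b hb => ?_⟩
    have hb' := D.Q_norm _ (inv_mem hg) b hb
    rw [inv_inv] at hb'
    have := hac _ hb'
    rw [← hZc g hg _ this] at this
    rwa [show g * (a * (g⁻¹ * b * g) * a⁻¹ * (g⁻¹ * b * g)⁻¹) * g⁻¹ =
      g * a * g⁻¹ * b * (g * a * g⁻¹)⁻¹ * b⁻¹ by group] at this
  have hYmul : ∀ a b, Yc a → Yc b → Yc (a * b) := by
    rintro a b ⟨ha, hac⟩ ⟨hb, hbc⟩
    refine ⟨mul_mem ha hb, fun c hc => ?_⟩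
    rw [show a * b * c * (a * b)⁻¹ * c⁻¹ = (a * (b * c * b⁻¹ * c⁻¹) * a⁻¹) * (a * c * a⁻¹ * c⁻¹) by group,
      hZc a (D.Q_le ha) _ (hbc c hc)]
    exact mul_mem (hbc c hc) (hac c hc)
  -- the commutator is bilinear
  have bil : ∀ a b c, Yc a → Yc b → c ∈ D.Q →
      a * b * c * (a * b)⁻¹ * c⁻¹ = (b * c * b⁻¹ * c⁻¹) * (a * c * a⁻¹ * c⁻¹) := by
    rintro a b c ⟨ha, -⟩ ⟨-, hbc⟩ hc
    rw [show a * b * c * (a * b)⁻¹ * c⁻¹ = (a * (b * c * b⁻¹ * c⁻¹) * a⁻¹) * (a * c * a⁻¹ * c⁻¹) by group,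
      hZc a (D.Q_le ha) _ (hbc c hc)]
  have bil2 : ∀ a b c, Yc a → b ∈ D.Q → c ∈ D.Q →
      a * (b * c) * a⁻¹ * (b * c)⁻¹ = (a * b * a⁻¹ * b⁻¹) * (a * c * a⁻¹ * c⁻¹) := by
    rintro a b c ⟨-, hac⟩ hb hc
    rw [show a * (b * c) * a⁻¹ * (b * c)⁻¹ = (a * b * a⁻¹ * b⁻¹) * (b * (a * c * a⁻¹ * c⁻¹) * b⁻¹) by group,
      hZc b (D.Q_le hb) _ (hac c hc)]
  have hYu : Yc u := by
    refine ⟨hu, fun b hb => ?_⟩
    have ui : u⁻¹ = u := inv_eq_of_mul_eq_one_right hu2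
    rw [ui, show u * b * u * b⁻¹ = u * (b * u * b⁻¹) by group]
    rcases huc b hb with e | e <;> rw [e]
    · rw [hu2]; exact one_mem _
    · rw [← mul_assoc, hu2, one_mul]; exact mem_zpowers _
  -- it suffices to find a good element
  suffices hgood : ∃ y, Yc y ∧ y * y = 1 ∧ y ∉ Z ∧ s * y * s⁻¹ * y⁻¹ ∈ Z by
    obtain ⟨y, ⟨hyQ, hyc⟩, hy2, hyZ, hys⟩ := hgood
    have yi : y⁻¹ = y := inv_eq_of_mul_eq_one_right hy2
    refine ⟨y, hyQ, hy2, fun e => hyZ (e ▸ one_mem _), fun e => hyZ (e ▸ mem_zpowers _), fun b hb => ?_⟩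
    have key : b * y * b⁻¹ * y⁻¹ ∈ Z := by
      have hQb : ∀ c ∈ D.Q, c * y * c⁻¹ * y⁻¹ ∈ Z := fun c hc => by
        have := inv_mem (hyc c hc)
        rwa [show (y * c * y⁻¹ * c⁻¹)⁻¹ = c * y * c⁻¹ * y⁻¹ by group] at this
      rcases F.split b hb with e | e
      · exact hQb b e
      · have h1 := hQb _ e
        rw [← hs, ← hZc s hsC _ h1] at h1
        have h2 := mul_mem h1 hys
        rwa [show s * (s⁻¹ * b * y * (s⁻¹ * b)⁻¹ * y⁻¹) * s⁻¹ * (s * y * s⁻¹ * y⁻¹) = b * y * b⁻¹ * y⁻¹ by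
          group] at h2
    rcases q.mem_zz.1 key with e | e
    · exact Or.inl (mul_inv_eq_one.1 e)
    · exact Or.inr (by rw [mul_inv_eq_iff_eq_mul.1 e, q.z_comm hyQ])
  by_contra hno
  push Not at hno
  have hss : ∀ c ∈ D.Q, s * (s * c * s⁻¹) * s⁻¹ = c := by
    intro c hc
    rw [show s * (s * c * s⁻¹) * s⁻¹ = (s * s) * c * (s * s)⁻¹ by group]
    rcases F.s_sq with e | e <;> rw [hs, e]
    · group
    · rw [q.z_comm hc, mul_inv_cancel_right]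
  -- the product of an orbit element with its image
  have hy : ∀ e, Yc e → e * e = 1 → e ∉ Z →
      Yc (e * (s * e * s⁻¹)) ∧ e * (s * e * s⁻¹) ∉ Z ∧ e * (s * e * s⁻¹) * (e * (s * e * s⁻¹)) = t ^ 3 ∧
        s * (e * (s * e * s⁻¹)) * s⁻¹ * (e * (s * e * s⁻¹))⁻¹ ∈ Z := by
    intro e he he2 heZ
    have ei : e⁻¹ = e := inv_eq_of_mul_eq_one_right he2
    obtain ⟨e', he'⟩ : ∃ e', e' = s * e * s⁻¹ := ⟨_, rfl⟩
    rw [← he']
    have he'Y : Yc e' := he' ▸ hYconj s hsC e he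
    have he'2 : e' * e' = 1 := by
      rw [he', show s * e * s⁻¹ * (s * e * s⁻¹) = s * (e * e) * s⁻¹ by group, he2]; group
    have e'i : e'⁻¹ = e' := inv_eq_of_mul_eq_one_right he'2
    have hY := hYmul e e' he he'Y
    have hfix : s * (e * e') * s⁻¹ * (e * e')⁻¹ ∈ Z := by
      have h0 : s * (e * e') * s⁻¹ = e' * e := by
        rw [show s * (e * e') * s⁻¹ = (s * e * s⁻¹) * (s * e' * s⁻¹) by group, ← he', he', hss e he.1]
      rw [h0, mul_inv_rev, ei, e'i]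
      have h1 := he'Y.2 e he.1
      rw [e'i, ei] at h1
      rwa [show e' * e * (e' * e) = e' * e * e' * e by group]
    have hnZ : e * e' ∉ Z := by
      intro hm
      refine hno e he he2 heZ ?_
      rw [← he', ei]
      have := inv_mem hm
      rwa [mul_inv_rev, ei, e'i] at this
    refine ⟨hY, hnZ, ?_, hfix⟩
    have h1 : e * e' * (e * e') ∈ Z := by
      have := he.2 e' he'Y.1
      rw [ei, e'i] at this
      rwa [show e * e' * (e * e') = e * e' * e * e' by group]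
    exact (q.mem_zz.1 h1).resolve_left fun h0 => hno _ hY h0 hnZ hfix
  obtain ⟨v, hv⟩ : ∃ v, v = x * u * x⁻¹ := ⟨_, rfl⟩
  obtain ⟨w, hw⟩ : ∃ w, w = x * v * x⁻¹ := ⟨_, rfl⟩
  have hxC := h.x_mem_cen
  have hYv : Yc v := hv ▸ hYconj x hxC u hYu
  have hYw : Yc w := hw ▸ hYconj x hxC v hYv
  have hxZ : ∀ c ∈ Z, x * c * x⁻¹ = c := hZc x hxC
  have hxnZ : ∀ c, c ∉ Z → x * c * x⁻¹ ∉ Z := fun c hc hm => hc (by
    have h1 := hxZ _ hm
    have : x * c * x⁻¹ = c := mul_left_cancel (mul_right_cancel h1)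
    rwa [this] at hm)
  have huZ : u ∉ Z := fun hm => (q.mem_zz.1 hm).elim hu1 huz
  have hv2 : v * v = 1 := by rw [hv, show x * u * x⁻¹ * (x * u * x⁻¹) = x * (u * u) * x⁻¹ by group, hu2]; group
  have hw2 : w * w = 1 := by rw [hw, show x * v * x⁻¹ * (x * v * x⁻¹) = x * (v * v) * x⁻¹ by group, hv2]; group
  have hvZ : v ∉ Z := hv ▸ hxnZ u huZ
  have hwZ : w ∉ Z := hw ▸ hxnZ v hvZ
  have hxw : x * w * x⁻¹ = u := by
    rw [hw, hv, conj_three, h.x_cube, inv_one, mul_one, one_mul]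
  -- `u v w` lies in `Z`
  have hp : u * v * w ∈ Z := by
    obtain ⟨p, hp⟩ : ∃ p, p = u * v * w := ⟨_, rfl⟩
    have hpQ : p ∈ D.Q := hp ▸ mul_mem (mul_mem hu hYv.1) hYw.1
    have hxp : x * p * x⁻¹ = v * w * u := by
      rw [hp, show x * (u * v * w) * x⁻¹ = (x * u * x⁻¹) * (x * v * x⁻¹) * (x * w * x⁻¹) by group, hxw, ← hv, ← hw]
    have hcase : x * p * x⁻¹ = p ∨ x * p * x⁻¹ = t ^ 3 * p := by
      rcases q.mem_zz.1 ((hYmul v w hYv hYw).2 u hu) with e | e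
      · left; rw [hxp, mul_inv_eq_iff_eq_mul.1 (mul_inv_eq_one.1 e), hp]; group
      · right
        rw [hxp, mul_inv_eq_iff_eq_mul.1 (mul_inv_eq_iff_eq_mul.1 e), hp]
        group
    rw [← hp]
    refine q.mem_zz.2 (q.fixed hpQ (mul_inv_eq_iff_eq_mul.1 (hcase.resolve_right fun e => ?_)))
    have h3 := conj_three x p
    rw [h.x_cube, inv_one, mul_one, one_mul, e,
      show x * (t ^ 3 * p) * x⁻¹ = (x * t ^ 3 * x⁻¹) * (x * p * x⁻¹) by group, hxZ _ (mem_zpowers _), e,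
      ← mul_assoc (t ^ 3) (t ^ 3) p, h.z_sq, one_mul, e] at h3
    exact h.z_ne (mul_eq_right.1 h3)
  -- the images
  obtain ⟨u', hu'⟩ : ∃ u', u' = s * u * s⁻¹ := ⟨_, rfl⟩
  obtain ⟨v', hv'⟩ : ∃ v', v' = s * v * s⁻¹ := ⟨_, rfl⟩
  obtain ⟨w', hw'⟩ : ∃ w', w' = s * w * s⁻¹ := ⟨_, rfl⟩
  have hYu' : Yc u' := hu' ▸ hYconj s hsC u hYu
  have hYv' : Yc v' := hv' ▸ hYconj s hsC v hYv
  have hYw' : Yc w' := hw' ▸ hYconj s hsC w hYw
  obtain ⟨hA, hAZ, hA2, hAs⟩ := hy u hYu hu2 huZ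
  obtain ⟨hB, hBZ, hB2, hBs⟩ := hy v hYv hv2 hvZ
  obtain ⟨hC, hCZ, hC2, hCs⟩ := hy w hYw hw2 hwZ
  rw [← hu'] at hA hAZ hA2 hAs
  rw [← hv'] at hB hBZ hB2 hBs
  rw [← hw'] at hC hCZ hC2 hCs
  -- two of these products commute, hence agree modulo `Z`
  have same : ∀ e e' f f', Yc e → Yc e' → Yc f → Yc f' → e' = s * e * s⁻¹ → f' = s * f * s⁻¹ →
      e * e' * (e * e') = t ^ 3 → f * f' * (f * f') = t ^ 3 → s * (e * e') * s⁻¹ * (e * e')⁻¹ ∈ Z →
      s * (f * f') * s⁻¹ * (f * f')⁻¹ ∈ Z → e * e' * (f * f') ∈ Z := by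
    intro e e' f f' he he' hf hf' ee ff hsq hsqf hfe hff
    have hE := hYmul e e' he he'
    have hF := hYmul f f' hf hf'
    have c1 : e' * f' * e'⁻¹ * f'⁻¹ = e * f * e⁻¹ * f⁻¹ := by
      conv_rhs => rw [← hZc s hsC _ (he.2 f hf.1)]
      rw [ee, ff]; group
    have c2 : e' * f * e'⁻¹ * f⁻¹ = e * f' * e⁻¹ * f'⁻¹ := by
      conv_rhs => rw [← hZc s hsC _ (he.2 f' hf'.1)]
      have : s * f' * s⁻¹ = f := by rw [ff, hss f hf.1]
      rw [show s * (e * f' * e⁻¹ * f'⁻¹) * s⁻¹ =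
        (s * e * s⁻¹) * (s * f' * s⁻¹) * (s * e * s⁻¹)⁻¹ * (s * f' * s⁻¹)⁻¹ by group, this, ← ee]
    have hone : ∀ c ∈ Z, c * c = 1 := fun c hc => by
      rcases q.mem_zz.1 hc with r | r <;> rw [r]
      · exact one_mul 1
      · exact h.z_sq
    have hcomm : e * e' * (f * f') = f * f' * (e * e') := by
      refine mul_inv_eq_iff_eq_mul.1 (mul_inv_eq_one.1 ?_)
      have g1 := bil e e' (f * f') he he' (mul_mem hf.1 hf'.1)
      rw [bil2 e f f' he hf.1 hf'.1, bil2 e' f f' he' hf.1 hf'.1, c1, c2] at g1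
      have k1 := he.2 f hf.1
      have k2 := he.2 f' hf'.1
      rw [g1]
      generalize e * f * e⁻¹ * f⁻¹ = a at k1
      generalize e * f' * e⁻¹ * f'⁻¹ = b at k2
      have hab : a * b = b * a := by
        rcases q.mem_zz.1 k1 with r | r <;> rcases q.mem_zz.1 k2 with r' | r' <;> rw [r, r'] <;> simp
      calc b * a * (a * b) = b * (a * a) * b := by group
        _ = 1 := by rw [hone a k1, mul_one, hone b k2]
    by_contra hnZ
    refine hno _ (hYmul _ _ hE hF) ?_ hnZ ?_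
    · calc e * e' * (f * f') * (e * e' * (f * f')) = e * e' * ((f * f') * (e * e')) * (f * f') := by group
        _ = e * e' * (e * e') * (f * f' * (f * f')) := by rw [← hcomm]; group
        _ = 1 := by rw [hsq, hsqf, h.z_sq]
    · have hgen : ∀ a b, a ∈ D.Q → s * a * s⁻¹ * a⁻¹ ∈ Z → s * b * s⁻¹ * b⁻¹ ∈ Z →
          s * (a * b) * s⁻¹ * (a * b)⁻¹ ∈ Z := by
        intro a b ha h1 h2
        rw [show s * (a * b) * s⁻¹ * (a * b)⁻¹ = s * a * s⁻¹ * (s * b * s⁻¹ * b⁻¹) * a⁻¹ by group,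
          show s * a * s⁻¹ * (s * b * s⁻¹ * b⁻¹) * a⁻¹ =
            (s * a * s⁻¹ * a⁻¹) * (a * (s * b * s⁻¹ * b⁻¹) * a⁻¹) by group, hZc a (D.Q_le ha) _ h2]
        exact mul_mem h1 h2
      exact hgen _ _ hE.1 hfe hff
  have hAB := same u u' v v' hYu hYu' hYv hYv' hu' hv' hA2 hB2 hAs hBs
  have hAC := same u u' w w' hYu hYu' hYw hYw' hu' hw' hA2 hC2 hAs hCs
  -- the product of the three is congruent to `u v w u' v' w'`
  have hp' : u' * v' * w' ∈ Z := by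
    have := hZc s hsC _ hp
    rw [← this] at hp
    rwa [hu', hv', hw', show s * u * s⁻¹ * (s * v * s⁻¹) * (s * w * s⁻¹) = s * (u * v * w) * s⁻¹ by group]
  obtain ⟨ζ1, hζ1, e1⟩ : ∃ c ∈ Z, u' * v = c * (v * u') :=
    ⟨_, hYu'.2 v hYv.1, by group⟩
  obtain ⟨ζ2, hζ2, e2⟩ : ∃ c ∈ Z, u' * v' * w = c * (w * (u' * v')) :=
    ⟨_, (hYmul u' v' hYu' hYv').2 w hYw.1, by group⟩
  have hzz : ∀ c ∈ Z, ∀ a ∈ D.Q, a * c = c * a := fun c hc a ha => (q.zz_comm hc ha).symm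
  have h3 : u * u' * (v * v') * (w * w') ∈ Z := by
    have e : u * u' * (v * v') * (w * w') = ζ1 * ζ2 * (u * v * w * (u' * v' * w')) := by
      calc u * u' * (v * v') * (w * w') = u * (u' * v) * (v' * w) * w' := by group
        _ = u * (ζ1 * (v * u')) * (v' * w) * w' := by rw [e1]
        _ = (u * ζ1) * v * (u' * v' * w) * w' := by group
        _ = (ζ1 * u) * v * (ζ2 * (w * (u' * v'))) * w' := by rw [hzz ζ1 hζ1 u hu, e2]
        _ = ζ1 * ((u * v) * ζ2) * (w * (u' * v' * w')) := by group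
        _ = _ := by rw [hzz ζ2 hζ2 _ (mul_mem hu hYv.1)]; group
    rw [e]
    exact mul_mem (mul_mem hζ1 hζ2) (mul_mem hp hp')
  refine hAZ ?_
  -- `A B C ∈ Z`, `A B ∈ Z` give `C ∈ Z`, so `A ∈ Z`
  have hCm : w * w' ∈ Z := by
    have := mul_mem (inv_mem hAB) h3
    rwa [← mul_assoc, inv_mul_cancel, one_mul] at this
  have := mul_mem hAC (inv_mem hCm)
  rwa [mul_inv_cancel_right] at this

/-- The Sylow subgroup has order at most `2⁷`, by Goldschmidt's bound. -/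
theorem card_le (hQ : D.Q ≠ zpowers (t ^ 3))
    (hVQ : ∀ a ∈ D.Q, a * a = 1 → (∀ b ∈ D.Q, b * a = a * b) → a = 1 ∨ a = t ^ 3)
    {u : G} (hu : u ∈ D.Q) (hu2 : u * u = 1) (hu1 : u ≠ 1) (huz : u ≠ t ^ 3)
    (huc : ∀ b ∈ (F.S : Subgroup G), b * u * b⁻¹ = u ∨ b * u * b⁻¹ = u * t ^ 3) :
    Nat.card (F.S : Subgroup G) ≤ 2 ^ 7 := by
  classical
  haveI : Fact (Nat.Prime 2) := ⟨Nat.prime_two⟩
  haveI : Fact (Nat.Prime 3) := ⟨Nat.prime_three⟩
  haveI : Fact (Nat.Prime 7) := ⟨by norm_num⟩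
  obtain ⟨P⟩ := h.exists_parab F.S F.hS (F.only_z h hQ) (D.not_nine h) (F.hQS hu) hu2 hu1 huz huc
  obtain ⟨X, hSX, hxX, hXC, hcard, hcore, -, hquot⟩ := F.exists_low h hQ
  obtain ⟨y, hyX, hy⟩ := P.move
  have hinf : X ⊓ P.X = (F.S : Subgroup G) := by
    refine (eq_of_le_of_card_ge (le_inf hSX P.sylow_le) ?_).symm
    by_contra hlt
    push Not at hlt
    obtain ⟨j, hj⟩ := card_dvd_of_le (le_inf hSX P.sylow_le)
    have hd : Nat.card ↥(X ⊓ P.X) ∣ 3 * Nat.card (F.S : Subgroup G) := hcard ▸ card_dvd_of_le inf_le_left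
    rw [hj, mul_comm 3] at hd
    have hj3 : j ∣ 3 := Nat.dvd_of_mul_dvd_mul_left Nat.card_pos hd
    rcases (Nat.dvd_prime Nat.prime_three).1 hj3 with e | e <;> rw [e] at hj
    · omega
    · have h1 : X ⊓ P.X = P.X := eq_of_le_of_card_ge inf_le_right (by rw [hj, P.card_eq, mul_comm])
      exact hy (mem_centralizer_singleton_iff.1 (hXC (h1.ge hyX).1))
  have hsyl : ∀ {Y : Subgroup G} (hSY : (F.S : Subgroup G) ≤ Y), X ⊓ P.X = (F.S : Subgroup G) →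
      ∃ P0 : Sylow 2 Y, (P0 : Subgroup Y) = (X ⊓ P.X).subgroupOf Y := fun hSY e =>
    ⟨F.S.subtype hSY, by rw [e]; rfl⟩
  by_contra hbig
  have hres := Cfsg.Agent.S2751.result X P.X (hsyl hSX hinf) (hsyl P.sylow_le hinf) hquot P.quot ?_
  · rw [hinf] at hres; exact hbig hres
  intro N hN hN1 hN2
  by_contra hNb
  rw [hinf] at hN
  have hn1 : ∀ a ∈ X, ∀ k ∈ N, a * k * a⁻¹ ∈ N := fun a ha k hk => hN1.conj_mem ⟨k, hSX (hN hk)⟩ hk ⟨a, ha⟩
  have hn2 : ∀ a ∈ P.X, ∀ k ∈ N, a * k * a⁻¹ ∈ N := fun a ha k hk =>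
    hN2.conj_mem ⟨k, P.sylow_le (hN hk)⟩ hk ⟨a, ha⟩
  obtain ⟨e, heN, he2, he1, hec⟩ := LenEight.exists_fixed_involution F.S.2 hN hNb
    (fun g hg => mem_norm (hn1 g (hSX hg)))
  have hzN : t ^ 3 ∈ N := ((F.only_z h hQ e (hN heN) he2 hec).resolve_left he1) ▸ heN
  set M := normalizer (N : Set G) with hM
  have hSM : (F.S : Subgroup G) ≤ M := fun g hg => mem_norm (hn1 g (hSX hg))
  have hxM : t ^ 2 ∈ M := mem_norm (hn1 _ hxX)
  have hyM : y ∈ M := mem_norm (hn2 y hyX)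
  obtain ⟨E, hE⟩ := h.local_structure F.hS hSM hxM le_normalizer
    (fun m hm' k hk => (mem_normalizer_iff.1 hm' k).1 hk) (F.S.2.to_le hN) hzN ⟨y, hyM, hy⟩
  rcases hE.cases with ⟨hx', -⟩ | ⟨-, ⟨h2, -⟩ | ⟨h8, hMcard, -⟩⟩
  · exact F.not_norm h hx'
  · have hEQ := F.eq_Q h hE hxM h2
    have hm := hEQ ▸ hE.norm y hyM (t ^ 3) hE.z_mem
    have hc : ∀ b ∈ D.Q, b * (y * t ^ 3 * y⁻¹) = y * t ^ 3 * y⁻¹ * b := by
      intro b hb
      have hb' : y⁻¹ * b * y ∈ D.Q := by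
        have := hE.norm _ (inv_mem hyM) b (hEQ.symm ▸ hb)
        rw [inv_inv] at this
        exact hEQ ▸ this
      calc b * (y * t ^ 3 * y⁻¹) = y * ((y⁻¹ * b * y) * t ^ 3) * y⁻¹ := by group
        _ = y * (t ^ 3 * (y⁻¹ * b * y)) * y⁻¹ := by rw [(D.qhyp h).z_comm hb']
        _ = _ := by group
    have hsq : y * t ^ 3 * y⁻¹ * (y * t ^ 3 * y⁻¹) = 1 := by
      rw [show y * t ^ 3 * y⁻¹ * (y * t ^ 3 * y⁻¹) = y * (t ^ 3 * t ^ 3) * y⁻¹ by group, h.z_sq]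
      group
    rcases hVQ _ hm hsq hc with r | r
    · exact h.z_ne (conj_eq_one_iff.1 r)
    · exact hy (mul_inv_eq_iff_eq_mul.1 r)
  · -- an element of order seven normalised by `x`
    obtain ⟨a, ha⟩ := IsPGroup.iff_card.1 (F.S.2.to_le hE.le_sylow)
    have hM' : Nat.card M = 2 ^ (a + 3) * 21 := by rw [hMcard, ha, pow_add]; ring
    have hcount : ¬ 3 ∣ Nat.card (Sylow 7 M) := by
      intro h3
      obtain ⟨R₀⟩ := (inferInstance : Nonempty (Sylow 7 M))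
      have hd : Nat.card (Sylow 7 M) ∣ Nat.card M := by
        rw [R₀.card_eq_index_normalizer]; exact ⟨_, (index_mul_card _).symm⟩
      have hmod := card_sylow_modEq_one 7 M
      obtain ⟨j, hj⟩ := h3
      rw [hM', hj, show 2 ^ (a + 3) * 21 = 3 * (2 ^ (a + 3) * 7) by ring] at hd
      have hd' := Nat.dvd_of_mul_dvd_mul_left (by norm_num) hd
      have hj7 : Nat.Coprime j 7 := by
        refine ((Nat.Prime.coprime_iff_not_dvd (by norm_num : Nat.Prime 7)).2 fun h7 => ?_).symm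
        obtain ⟨i, rfl⟩ := h7
        unfold Nat.ModEq at hmod
        rw [hj] at hmod
        omega
      obtain ⟨i, -, hi⟩ := (Nat.dvd_prime_pow Nat.prime_two).1 (hj7.dvd_of_dvd_mul_right hd')
      unfold Nat.ModEq at hmod
      rw [hj, hi] at hmod
      have hper : ∀ i : ℕ, 2 ^ i % 7 = 1 ∨ 2 ^ i % 7 = 2 ∨ 2 ^ i % 7 = 4 := by
        intro i
        induction i with
        | zero => left; rfl
        | succ i ih => rw [pow_succ]; omega
      rcases hper i with r | r | r <;> omega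
    obtain ⟨R₀, hR₀⟩ := exists_invariant_sylow_of_count h.x_cube (P := M) (le_normalizer hxM) hcount
    set R : Subgroup G := (R₀ : Subgroup M).map M.subtype with hR
    have hRcard : Nat.card R = 7 := by
      rw [hR, card_map_of_injective M.subtype_injective, R₀.card_eq_multiplicity, hM',
        Nat.factorization_mul (by positivity) (by norm_num), Finsupp.add_apply, Nat.factorization_pow,
        Finsupp.smul_apply, Nat.factorization_eq_zero_of_not_dvd (show ¬ 7 ∣ 2 by norm_num),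
        show (21 : ℕ) = 7 ^ 1 * 3 from rfl, Nat.factorization_mul (by norm_num) (by norm_num), Finsupp.add_apply,
        Nat.Prime.factorization_pow (by norm_num : Nat.Prime 7), Finsupp.single_eq_same,
        Nat.factorization_eq_zero_of_not_dvd (show ¬ 7 ∣ 3 by norm_num)]
      norm_num
    have hRM : R ≤ M := map_subtype_le _
    have hRx : ∀ r ∈ R, t ^ 2 * r * (t ^ 2)⁻¹ ∈ R := by
      rintro _ ⟨r, hr, rfl⟩
      obtain ⟨r', hr', e'⟩ := hR₀ r hr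
      exact ⟨r', hr', e'⟩
    have hR6 : (Nat.card R).Coprime 6 := by rw [hRcard]; norm_num
    have hRmove : ∃ r ∈ R, r * t ^ 3 ≠ t ^ 3 * r := by
      by_contra hcon
      push Not at hcon
      set B : Subgroup G := M ⊓ centralizer ({t ^ 3} : Set G)
      have h2d : 2 ^ (a + 3) ∣ Nat.card B := by
        have := card_dvd_of_le (le_inf hSM F.hS : (F.S : Subgroup G) ≤ B)
        rw [h8, ha] at this
        rwa [pow_add, mul_comm, show (2 : ℕ) ^ 3 = 8 from rfl]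
      have h7d : 7 ∣ Nat.card B := hRcard ▸ card_dvd_of_le
        (le_inf hRM fun r hr => mem_centralizer_singleton_iff.2 (hcon r hr) : R ≤ B)
      have h3d : 3 ∣ Nat.card B := h.orderOf_x ▸ Subgroup.orderOf_dvd_natCard B ⟨hxM, h.x_mem_cen⟩
      have h21 : 2 ^ (a + 3) * 21 ∣ Nat.card B :=
        Nat.Coprime.mul_dvd_of_dvd_of_dvd ((show Nat.Coprime 2 21 by norm_num).pow_left _) h2d
          (Nat.Coprime.mul_dvd_of_dvd_of_dvd (show Nat.Coprime 3 7 by norm_num) h3d h7d)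
      have hBM : B = M := eq_of_le_of_card_ge inf_le_left (hM' ▸ Nat.le_of_dvd Nat.card_pos h21)
      exact hy (mem_centralizer_singleton_iff.1 (hBM.ge hyM).2)
    have h8E := (D.eight_of_fixed h F.hS hE hRM hR6 hRx hRmove (F.S.2.to_le hE.le_sylow)
      (hE.le_sylow.trans F.hS) hE.z_mem (fun b hb => hE.norm _ hxM b hb) (fun r hr b hb => hE.norm r (hRM hr) b hb)).1
    rw [h8E] at h8
    rw [h8] at hbig
    norm_num at hbig

end Frame

end Cfsg.Lib.OrderSixCHZ
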