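import Cfsg.Agent.Lib.OrderSixCHZ.SixExtra
import Cfsg.Agent.Lib.Walter3.Field.FourGroup
import Cfsg.Agent.S3225

/-!
# The shape `(Q × W) · S₃`: with `Q` extraspecial the odd part is trivial
-/

set_option autoImplicit false
set_option linter.style.haveILetI false
set_option linter.unusedSectionVars false

namespace Cfsg.Lib.OrderSixCHZ

open Subgroup

universe u

variable {G : Type u} [Group G] [Finite G] {t : G}

namespace Sol

variable (h : Hyp t) (D : Sol t)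
include h D

/-- The odd part is the same at every involution of `Q`. -/
theorem W_conj_eq {a g : G} (haQ : a ∈ D.Q) (hg : g * t ^ 3 * g⁻¹ = a) :
    D.W.map (MulAut.conj g).toMonoidHom = D.W := by
  have hle : D.W ≤ D.W.map (MulAut.conj g).toMonoidHom := by
    intro w hw
    have hc := D.comm a haQ w hw
    refine ⟨g⁻¹ * w * g, D.W_char _ (mem_centralizer_singleton_iff.2 ?_) ?_, by
      show g * (g⁻¹ * w * g) * g⁻¹ = w; group⟩
    · calc g⁻¹ * w * g * t ^ 3 = g⁻¹ * (w * (g * t ^ 3 * g⁻¹)) * g := by group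
        _ = g⁻¹ * (g * t ^ 3 * g⁻¹ * w) * g := by rw [hg, hc]
        _ = _ := by group
    · rw [show g⁻¹ * w * g = g⁻¹ * w * g⁻¹⁻¹ by rw [inv_inv], Invol.orderOf_conj_eq]
      exact D.W_cop.coprime_dvd_left (Subgroup.orderOf_dvd_natCard D.W hw)
  exact (eq_of_le_of_card_ge hle (card_map_of_injective (MulEquiv.injective _)).le).symm

end Sol

namespace Frame

variable {D : Sol t} (F : Frame t D) (h : Hyp t)
include F h

/-- There is an involution outside `Q`. -/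
theorem exists_invol_outside [IsSimpleGroup G] (hna : ¬ IsMulCommutative G)
    (hsq : ∀ a ∈ D.Q, a * a = 1 ∨ a * a = t ^ 3) :
    ∃ y ∈ (F.S : Subgroup G), y ∉ D.Q ∧ y * y = 1 := by
  by_contra hcon
  push Not at hcon
  have hss : F.s * F.s = t ^ 3 := F.s_sq.resolve_left (hcon F.s F.hsS F.hsQ)
  have h4 : orderOf F.s = 2 ^ 2 := by
    haveI : Fact (Nat.Prime 2) := ⟨Nat.prime_two⟩
    refine orderOf_eq_prime_pow (p := 2) (n := 1) ?_ ?_
    · rw [pow_one, pow_two, hss]; exact h.z_ne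
    · rw [show (2 : ℕ) ^ (1 + 1) = 2 * 2 from rfl, pow_mul, pow_two F.s, hss, pow_two, h.z_sq]
  have hrel : D.Q.relIndex (F.S : Subgroup G) = 2 := by
    have h1 := card_mul_index (D.Q.subgroupOf (F.S : Subgroup G))
    rw [Nat.card_congr (subgroupOfEquivOfLe F.hQS).toEquiv, F.card, mul_comm 2] at h1
    exact Nat.eq_of_mul_eq_mul_left Nat.card_pos h1
  have hev : Even (Nat.card G) := even_iff_two_dvd.2 (h.orderOf_z ▸ _root_.orderOf_dvd_natCard _)
  have hord : ∀ y ∈ (F.S : Subgroup G), y ∉ D.Q → 2 ^ (2 - 1) < orderOf y := by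
    intro y hy hyQ
    have hpos := orderOf_pos y
    have h1 : orderOf y ≠ 1 := fun e => hyQ (orderOf_eq_one_iff.1 e ▸ one_mem _)
    have h2 : orderOf y ≠ 2 := fun e => hcon y hy hyQ (LenEight.sq_of_orderOf e).1
    show 2 < orderOf y
    omega
  obtain ⟨g, hg⟩ := Cfsg.Agent.S3225.result hev (index_ne_two hna) F.S D.Q F.hQS hrel 2 (by norm_num) hord
    F.s F.hsS h4
  have e2 : g * F.s * g⁻¹ * (g * F.s * g⁻¹) = g * t ^ 3 * g⁻¹ := by
    rw [show g * F.s * g⁻¹ * (g * F.s * g⁻¹) = g * (F.s * F.s) * g⁻¹ by group, hss]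
  rcases hsq _ hg with e | e <;> rw [e2] at e
  · exact h.z_ne (conj_eq_one_iff.1 e)
  · have hgC : g ∈ centralizer ({t ^ 3} : Set G) :=
      mem_centralizer_singleton_iff.2 (mul_inv_eq_iff_eq_mul.1 e)
    have := D.Q_norm _ (inv_mem hgC) _ hg
    rw [show g⁻¹ * (g * F.s * g⁻¹) * g⁻¹⁻¹ = F.s by group] at this
    exact F.hsQ this

/-- An involution outside `Q` centralises an involution that `s` fixes modulo `z`. -/
theorem comm_u (hcom : ∀ a ∈ D.Q, ∀ b ∈ D.Q, a * b * a⁻¹ * b⁻¹ = 1 ∨ a * b * a⁻¹ * b⁻¹ = t ^ 3)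
    {u : G} (hu : u ∈ D.Q) (hu2 : u * u = 1)
    (huc : ∀ b ∈ (F.S : Subgroup G), b * u * b⁻¹ = u ∨ b * u * b⁻¹ = u * t ^ 3)
    {y : G} (hy : y ∈ (F.S : Subgroup G)) (hyQ : y ∉ D.Q) (hy2 : y * y = 1) : y * u = u * y := by
  have q := D.qhyp h
  set x := t ^ 2 with hx
  set Z := zpowers (t ^ 3) with hZ
  have hxC := h.x_mem_cen
  have hyC := F.hS hy
  have hZc : ∀ g ∈ centralizer ({t ^ 3} : Set G), ∀ c ∈ Z, g * c * g⁻¹ = c := fun g hg c hc => by
    rcases q.mem_zz.1 hc with e | e <;> rw [e]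
    · group
    · rw [mem_centralizer_singleton_iff.1 hg, mul_inv_cancel_right]
  have hc' : ∀ a ∈ D.Q, ∀ b ∈ D.Q, a * b * a⁻¹ * b⁻¹ ∈ Z := fun a ha b hb => q.mem_zz.2 (hcom a ha b hb)
  obtain ⟨v, hv⟩ : ∃ v, v = x * u * x⁻¹ := ⟨_, rfl⟩
  obtain ⟨w, hw⟩ : ∃ w, w = x * v * x⁻¹ := ⟨_, rfl⟩
  have hvQ : v ∈ D.Q := hv ▸ D.Q_norm _ hxC u hu
  have hwQ : w ∈ D.Q := hw ▸ D.Q_norm _ hxC v hvQ
  have hv2 : v * v = 1 := by rw [hv, show x * u * x⁻¹ * (x * u * x⁻¹) = x * (u * u) * x⁻¹ by group, hu2]; group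
  -- `u v w` lies in `Z`
  have hxw : x * w * x⁻¹ = u := by rw [hw, hv, conj_three, h.x_cube, inv_one, mul_one, one_mul]
  have hp : u * v * w ∈ Z := by
    refine q.mem_zz_of_fixed_mod (mul_mem (mul_mem hu hvQ) hwQ) ?_
    rw [← hx, show x * (u * v * w) * x⁻¹ = (x * u * x⁻¹) * (x * v * x⁻¹) * (x * w * x⁻¹) by group, hxw, ← hv, ← hw,
      show v * w * u * (u * v * w)⁻¹ = (v * w) * u * (v * w)⁻¹ * u⁻¹ by group]
    exact hc' _ (mul_mem hvQ hwQ) u hu
  -- `y` sends `v` to `w` modulo `Z`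
  obtain ⟨q0, hq0, hyeq⟩ : ∃ q0 ∈ D.Q, y = F.s * q0 :=
    ⟨F.s⁻¹ * y, (F.split y hy).resolve_left hyQ, by group⟩
  obtain ⟨ζ, hζ, hyv⟩ : ∃ ζ ∈ Z, y * v * y⁻¹ = ζ * w := by
    obtain ⟨ζ1, hζ1, e1⟩ : ∃ c ∈ Z, q0 * v * q0⁻¹ = c * v := ⟨_, hc' q0 hq0 v hvQ, by group⟩
    obtain ⟨ζ2, hζ2, e2⟩ : ∃ c ∈ Z, F.s * u * F.s⁻¹ = c * u := by
      rcases huc F.s F.hsS with e | e
      · exact ⟨1, one_mem _, by rw [e, one_mul]⟩
      · exact ⟨t ^ 3, mem_zpowers _, by rw [e, q.z_comm hu]⟩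
    have e3 : F.s * v * F.s⁻¹ = ζ2 * w := by
      have e4 : x⁻¹ * u * x = w := by rw [← hxw]; group
      rw [hv, show F.s * (x * u * x⁻¹) * F.s⁻¹ = (F.s * x * F.s⁻¹) * (F.s * u * F.s⁻¹) * (F.s * x * F.s⁻¹)⁻¹ by group,
        hx, F.sinv, ← hx, e2, inv_inv, show x⁻¹ * (ζ2 * u) * x = (x⁻¹ * ζ2 * x⁻¹⁻¹) * (x⁻¹ * u * x) by group,
        hZc _ (inv_mem hxC) _ hζ2, e4]
    refine ⟨ζ1 * ζ2, mul_mem hζ1 hζ2, ?_⟩
    rw [hyeq, show F.s * q0 * v * (F.s * q0)⁻¹ = F.s * (q0 * v * q0⁻¹) * F.s⁻¹ by group, e1,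
      show F.s * (ζ1 * v) * F.s⁻¹ = (F.s * ζ1 * F.s⁻¹) * (F.s * v * F.s⁻¹) by group,
      hZc _ (F.s_mem_cen h) _ hζ1, e3, mul_assoc]
  -- so `u` is congruent to the commutator `v (y v y⁻¹)`
  obtain ⟨a, ha⟩ : ∃ a, a = v * (y * v * y⁻¹) := ⟨_, rfl⟩
  obtain ⟨η, hη, hau⟩ : ∃ η ∈ Z, a = η * u := by
    have hζv : v * ζ = ζ * v := (q.zz_comm hζ hvQ).symm
    refine ⟨ζ * (u * v * w), mul_mem hζ hp, ?_⟩
    have h5 : u * (u * v * w) = u * v * w * u := (q.zz_comm hp hu).symm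
    rw [ha, hyv, ← mul_assoc, hζv, mul_assoc, mul_assoc ζ, ← h5, ← mul_assoc u (u * v) w, ← mul_assoc u u v, hu2,
      one_mul]
  have hya : y * a * y⁻¹ = a⁻¹ := by
    have vi : v⁻¹ = v := inv_eq_of_mul_eq_one_right hv2
    rw [ha, show y * (v * (y * v * y⁻¹)) * y⁻¹ = (y * v * y⁻¹) * ((y * y) * v * (y * y)⁻¹) by group, hy2,
      inv_one, mul_one, one_mul, mul_inv_rev, show (y * v * y⁻¹)⁻¹ = y * v⁻¹ * y⁻¹ by group, vi]
  have hainv : a⁻¹ = a := by
    refine inv_eq_of_mul_eq_one_right ?_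
    rw [hau, show η * u * (η * u) = η * (u * η) * u by group, ← q.zz_comm hη hu,
      show η * (η * u) * u = η * η * (u * u) by group, hu2, mul_one]
    rcases q.mem_zz.1 hη with e | e <;> rw [e]
    · exact one_mul 1
    · exact h.z_sq
  rw [hainv, hau, show y * (η * u) * y⁻¹ = (y * η * y⁻¹) * (y * u * y⁻¹) by group, hZc y hyC _ hη] at hya
  exact mul_inv_eq_iff_eq_mul.1 (mul_left_cancel hya)

/-- With an involution outside `Q` centralising an involution `u`, the odd part is trivial. -/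
theorem W_eq_bot {u : G} (hu : u ∈ D.Q) (hu2 : u * u = 1) (hu1 : u ≠ 1) (huz : u ≠ t ^ 3)
    {y : G} (hy : y ∈ (F.S : Subgroup G)) (hyQ : y ∉ D.Q) (hy2 : y * y = 1) (hyu : y * u = u * y) :
    D.W = ⊥ := by
  classical
  haveI : Fact (Nat.Prime 2) := ⟨Nat.prime_two⟩
  have q := D.qhyp h
  have hy1 : y ≠ 1 := fun e => hyQ (e ▸ one_mem _)
  obtain ⟨g, hg⟩ := isConj_iff.1 (h.one (t ^ 3) y h.orderOf_z (LenEight.orderOf_two hy2 hy1))
  set Wy : Subgroup G := D.W.map (MulAut.conj g).toMonoidHom with hWy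
  have hzu : t ^ 3 * u = u * t ^ 3 := q.z_comm hu
  -- the four group normalises the conjugate
  have hnorm : ∀ a : G, a * y = y * a → a ∈ normalizer (Wy : Set G) := by
    intro a ha
    refine mem_norm ?_
    rintro _ ⟨w, hw, rfl⟩
    refine ⟨(g⁻¹ * a * g) * w * (g⁻¹ * a * g)⁻¹, D.W_norm _ (mem_centralizer_singleton_iff.2 ?_) w hw, ?_⟩
    · calc g⁻¹ * a * g * t ^ 3 = g⁻¹ * (a * (g * t ^ 3 * g⁻¹)) * g := by group
        _ = g⁻¹ * (g * t ^ 3 * g⁻¹ * a) * g := by rw [hg, ha]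
        _ = _ := by group
    · show g * (g⁻¹ * a * g * w * (g⁻¹ * a * g)⁻¹) * g⁻¹ = a * (g * w * g⁻¹) * a⁻¹
      group
  have hWodd : Odd (Nat.card Wy) := by
    rw [hWy, card_map_of_injective (MulEquiv.injective _)]
    exact Nat.coprime_two_right.1 (D.W_cop.coprime_dvd_right (show 2 ∣ 6 by norm_num))
  have hA := Walter3.Field.four_comm (t := t ^ 3) (v := u) hzu
  haveI := hA
  have hle : Wy ≤ D.W := by
    have hnc : ¬ IsCyclic (Walter3.Field.four (t ^ 3) u) := by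
      intro hcy
      obtain ⟨g0, hg0⟩ := IsCyclic.exists_generator (α := Walter3.Field.four (t ^ 3) u)
      have hg2 : g0 ^ 2 = 1 := by
        refine Subtype.ext ?_
        rw [SubmonoidClass.coe_pow, pow_two, OneMemClass.coe_one]
        rcases Walter3.Field.mem_four h.z_sq hu2 hzu g0.2 with e | e | e | e <;> rw [e]
        · exact one_mul 1
        · exact h.z_sq
        · exact hu2
        · calc t ^ 3 * u * (t ^ 3 * u) = t ^ 3 * (u * t ^ 3) * u := by group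
            _ = t ^ 3 * t ^ 3 * (u * u) := by rw [← hzu]; group
            _ = 1 := by rw [h.z_sq, hu2, one_mul]
      have key : ∀ a : Walter3.Field.four (t ^ 3) u, a = 1 ∨ a = g0 := by
        intro a
        obtain ⟨i, rfl⟩ := mem_zpowers_iff.1 (hg0 a)
        rcases Int.even_or_odd i with ⟨k, rfl⟩ | ⟨k, rfl⟩
        · left; rw [← two_mul, zpow_mul, zpow_two, ← pow_two, hg2, one_zpow]
        · right; rw [zpow_add, zpow_mul, zpow_two, ← pow_two, hg2, one_zpow, one_mul, zpow_one]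
      rcases key ⟨t ^ 3, mem_sup_left (mem_zpowers _)⟩ with e | e
      · exact h.z_ne (congrArg Subtype.val e)
      · rcases key ⟨u, mem_sup_right (mem_zpowers _)⟩ with e' | e'
        · exact hu1 (congrArg Subtype.val e')
        · exact huz (congrArg Subtype.val (e'.trans e.symm))
    refine (Coprime.le_iSup_centralizer_of_not_isCyclic hnc
      (Walter3.Field.four_le (hnorm _ (mem_centralizer_singleton_iff.1 (F.hS hy)).symm) (hnorm _ hyu.symm))
      (Walter3.Field.odd_coprime_four h.z_sq hu2 hzu hWodd)).trans (iSup_le fun a => ?_)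
    rintro k ⟨hk, hka⟩
    obtain ⟨a, haF, ha1⟩ := a
    have haQ : a ∈ D.Q := Walter3.Field.four_le D.z_mem hu haF
    have ha2 : a * a = 1 := by
      rcases Walter3.Field.mem_four h.z_sq hu2 hzu haF with e | e | e | e <;> rw [e]
      · exact one_mul 1
      · exact h.z_sq
      · exact hu2
      · calc t ^ 3 * u * (t ^ 3 * u) = t ^ 3 * (u * t ^ 3) * u := by group
          _ = t ^ 3 * t ^ 3 * (u * u) := by rw [← hzu]; group
          _ = 1 := by rw [h.z_sq, hu2, one_mul]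
    obtain ⟨b, hb⟩ := isConj_iff.1 (h.one (t ^ 3) a h.orderOf_z (LenEight.orderOf_two ha2 ha1))
    rw [← D.W_conj_eq h haQ hb]
    have hka' : k * a = a * k := mem_centralizer_singleton_iff.1 hka
    refine ⟨b⁻¹ * k * b, D.W_char _ (mem_centralizer_singleton_iff.2 ?_) ?_, by
      show b * (b⁻¹ * k * b) * b⁻¹ = k; group⟩
    · calc b⁻¹ * k * b * t ^ 3 = b⁻¹ * (k * (b * t ^ 3 * b⁻¹)) * b := by group
        _ = b⁻¹ * (b * t ^ 3 * b⁻¹ * k) * b := by rw [hb, hka']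
        _ = _ := by group
    · rw [show b⁻¹ * k * b = b⁻¹ * k * b⁻¹⁻¹ by rw [inv_inv], Invol.orderOf_conj_eq]
      have := Subgroup.orderOf_dvd_natCard Wy hk
      rw [hWy, card_map_of_injective (MulEquiv.injective _)] at this
      exact D.W_cop.coprime_dvd_left this
  have hWeq : Wy = D.W := eq_of_le_of_card_ge hle (card_map_of_injective (MulEquiv.injective _)).ge
  -- `y`, hence `s`, centralises the odd part
  have hyW : ∀ w ∈ D.W, y * w = w * y := by
    intro w hw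
    obtain ⟨w0, hw0, hw0'⟩ := hWeq.ge hw
    change g * w0 * g⁻¹ = w at hw0'
    have e : t ^ 3 * w0 = w0 * t ^ 3 := (mem_centralizer_singleton_iff.1 (D.W_le hw0)).symm
    calc y * w = g * (t ^ 3 * w0) * g⁻¹ := by rw [← hg, ← hw0']; group
      _ = g * (w0 * t ^ 3) * g⁻¹ := by rw [e]
      _ = w * y := by rw [← hg, ← hw0']; group
  have hsW : ∀ w ∈ D.W, F.s * w * F.s⁻¹ = w := by
    intro w hw
    obtain ⟨q0, hq0, hyeq⟩ : ∃ q0 ∈ D.Q, y = F.s * q0 :=
      ⟨F.s⁻¹ * y, (F.split y hy).resolve_left hyQ, by group⟩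
    have e := hyW w hw
    rw [hyeq] at e
    refine mul_inv_eq_iff_eq_mul.2 (mul_right_cancel (b := q0) ?_)
    calc F.s * w * q0 = F.s * (w * q0) := mul_assoc _ _ _
      _ = F.s * q0 * w := by rw [← D.comm q0 hq0 w hw, mul_assoc]
      _ = w * (F.s * q0) := e
      _ = w * F.s * q0 := (mul_assoc _ _ _).symm
  refine eq_bot_iff.2 fun w hw => ?_
  set x := t ^ 2 with hx
  have hxw : x * w * x⁻¹ ∈ D.W := D.W_norm _ h.x_mem_cen w hw
  have e := hsW _ hxw
  rw [show F.s * (x * w * x⁻¹) * F.s⁻¹ = (F.s * x * F.s⁻¹) * (F.s * w * F.s⁻¹) * (F.s * x * F.s⁻¹)⁻¹ by group,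
    hx, F.sinv, hsW w hw, inv_inv, ← hx] at e
  have hcx : x * w = w * x := by
    have h4 : x * x * x * x = x := by
      have := h.x_cube
      rw [← hx, pow_succ, pow_two] at this
      rw [this, one_mul]
    have h2 : x * x * w = w * (x * x) := by
      calc x * x * w = x * (x * w * x⁻¹) * x := by group
        _ = x * (x⁻¹ * w * x) * x := by rw [← e]
        _ = w * (x * x) := by group
    calc x * w = x * x * x * x * w := by rw [h4]
      _ = x * x * (x * x * w) := by group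
      _ = x * x * (w * (x * x)) := by rw [h2]
      _ = x * x * w * (x * x) := by group
      _ = w * (x * x) * (x * x) := by rw [h2]
      _ = w * (x * x * x * x) := by group
      _ = w * x := by rw [h4]
  have hwt := h.mem_zpowers_of_comm hcx (mem_centralizer_singleton_iff.1 (D.W_le hw)).symm
  rw [mem_bot, ← orderOf_eq_one_iff]
  exact Nat.eq_one_of_dvd_coprimes D.W_cop (Subgroup.orderOf_dvd_natCard D.W hw)
    (h.ord ▸ orderOf_dvd_of_mem_zpowers hwt)

end Frame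

end Cfsg.Lib.OrderSixCHZ
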