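import Cfsg.Agent.Lib.OrderSixCHZ.Basic
import Cfsg.Agent.Lib.PGroup.Basic

/-!
# A 2-group in the centraliser of `z` on which `x` fixes only `z`
-/

set_option autoImplicit false
set_option linter.style.haveILetI false
set_option linter.unusedSectionVars false

namespace Cfsg.Lib.OrderSixCHZ

open Subgroup

universe u

variable {G : Type u} [Group G] [Finite G] {t : G}

/-- A 2-subgroup of the centraliser of `z`, normalised by `x`, containing `z`. -/
structure QHyp (t : G) (Q : Subgroup G) : Prop where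
  hyp : Hyp t
  two : IsPGroup 2 Q
  le : Q ≤ centralizer ({t ^ 3} : Set G)
  z_mem : t ^ 3 ∈ Q
  xnorm : ∀ a ∈ Q, t ^ 2 * a * (t ^ 2)⁻¹ ∈ Q

namespace QHyp

variable {Q : Subgroup G} (q : QHyp t Q)
include q

theorem z_comm {a : G} (ha : a ∈ Q) : t ^ 3 * a = a * t ^ 3 :=
  (mem_centralizer_singleton_iff.1 (q.le ha)).symm

theorem pow_eq_one {a : G} (ha : a ∈ Q) : ∃ k : ℕ, a ^ 2 ^ k = 1 := by
  obtain ⟨k, hk⟩ := q.two ⟨a, ha⟩
  exact ⟨k, congrArg Subtype.val hk⟩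

theorem fixed {a : G} (ha : a ∈ Q) (hx : t ^ 2 * a = a * t ^ 2) : a = 1 ∨ a = t ^ 3 := by
  obtain ⟨k, hk⟩ := q.pow_eq_one ha
  exact q.hyp.eq_one_or_z hk hx (q.z_comm ha)

/-- Elements of `{1, z}`. -/
theorem mem_zz {a : G} : a ∈ zpowers (t ^ 3) ↔ a = 1 ∨ a = t ^ 3 := by
  constructor
  · rintro ⟨i, rfl⟩
    rcases Int.even_or_odd i with ⟨j, rfl⟩ | ⟨j, rfl⟩
    · left
      show (t ^ 3) ^ (j + j) = 1
      rw [← two_mul, zpow_mul, zpow_two, q.hyp.z_sq, one_zpow]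
    · right
      show (t ^ 3) ^ (2 * j + 1) = t ^ 3
      rw [zpow_add, zpow_mul, zpow_two, q.hyp.z_sq, one_zpow, one_mul, zpow_one]
  · rintro (rfl | rfl)
    · exact one_mem _
    · exact mem_zpowers _

theorem zz_comm {c : G} (hc : c ∈ zpowers (t ^ 3)) {a : G} (ha : a ∈ Q) : c * a = a * c := by
  rcases q.mem_zz.1 hc with rfl | rfl
  · rw [one_mul, mul_one]
  · exact q.z_comm ha

/-- In a subgroup strictly above `⟨z⟩` and normalised by `Q`, an element central in `Q` modulo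
`⟨z⟩` with square in `⟨z⟩`. -/
theorem exists_center_step {N : Subgroup G} (hNQ : N ≤ Q) (hzN : t ^ 3 ∈ N)
    (hn : ∀ a ∈ Q, ∀ b ∈ N, a * b * a⁻¹ ∈ N) (hne : ∃ a ∈ N, a ∉ zpowers (t ^ 3)) :
    ∃ a ∈ N, a ∉ zpowers (t ^ 3) ∧ a * a ∈ zpowers (t ^ 3) ∧
      ∀ b ∈ Q, b * a * b⁻¹ * a⁻¹ ∈ zpowers (t ^ 3) := by
  haveI : Fact (Nat.Prime 2) := ⟨Nat.prime_two⟩
  set zQ : Q := ⟨t ^ 3, q.z_mem⟩ with hzQ
  haveI : (zpowers zQ).Normal := ⟨fun a ha g => by
    obtain ⟨i, rfl⟩ := mem_zpowers_iff.1 ha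
    have : Commute g zQ := (Subtype.ext (q.z_comm g.2).symm : g * zQ = zQ * g)
    rw [(this.zpow_right i).eq, mul_inv_cancel_right]
    exact zpow_mem (mem_zpowers _) i⟩
  set π := QuotientGroup.mk' (zpowers zQ) with hπ
  have hmem : ∀ a : Q, a ∈ zpowers zQ ↔ (a : G) ∈ zpowers (t ^ 3) := by
    intro a
    rw [mem_zpowers_iff, mem_zpowers_iff]
    exact exists_congr fun i => ⟨fun e => by rw [← e]; rfl, fun e => Subtype.ext (by rw [← e]; rfl)⟩
  have hP : IsPGroup 2 (Q ⧸ zpowers zQ) := q.two.to_quotient _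
  haveI : ((N.subgroupOf Q).map π).Normal := by
    haveI : (N.subgroupOf Q).Normal := ⟨fun a ha g => hn g g.2 a ha⟩
    exact Normal.map inferInstance π (QuotientGroup.mk'_surjective _)
  obtain ⟨a, haN, ha⟩ := hne
  have hne' : (N.subgroupOf Q).map π ≠ ⊥ := fun e => ha ((hmem ⟨a, hNQ haN⟩).1
    ((QuotientGroup.eq_one_iff _).1 (mem_bot.1 (e ▸ ⟨⟨a, hNQ haN⟩, haN, rfl⟩))))
  have hI := PGroup.inf_center_ne_bot hP hne'
  set I := (N.subgroupOf Q).map π ⊓ center (Q ⧸ zpowers zQ) with hIdef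
  obtain ⟨k, hk⟩ := IsPGroup.iff_card.1 (hP.to_subgroup I)
  have hdvd : 2 ∣ Nat.card I := by
    rw [hk]
    refine dvd_pow_self 2 fun h => hI ?_
    rw [h, pow_zero] at hk
    exact card_eq_one.1 hk
  obtain ⟨e, he⟩ := exists_prime_orderOf_dvd_card' 2 hdvd
  obtain ⟨⟨b, hb, hbe⟩, hcen⟩ := e.2
  have he2 : orderOf (e : Q ⧸ zpowers zQ) = 2 := by rw [orderOf_coe, he]
  refine ⟨b, hb, fun hz => ?_, ?_, fun c hc => ?_⟩
  · rw [← hbe, show π b = 1 from (QuotientGroup.eq_one_iff b).2 ((hmem b).2 hz), orderOf_one] at he2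
    norm_num at he2
  · refine (hmem (b * b)).1 ((QuotientGroup.eq_one_iff _).1 ?_)
    show π (b * b) = 1
    rw [map_mul, hbe, ← pow_two, ← he2, pow_orderOf_eq_one]
  · refine (hmem (⟨c, hc⟩ * b * ⟨c, hc⟩⁻¹ * b⁻¹)).1 ((QuotientGroup.eq_one_iff _).1 ?_)
    show π (⟨c, hc⟩ * b * ⟨c, hc⟩⁻¹ * b⁻¹) = 1
    rw [map_mul, map_mul, map_mul, hbe, mem_center_iff.1 hcen, map_inv, map_inv, hbe,
      mul_inv_cancel_right, mul_inv_cancel]

/-- The only central involution is `z`. -/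
def OnlyZ : Prop := ∀ a ∈ Q, a * a = 1 → (∀ b ∈ Q, b * a = a * b) → a = 1 ∨ a = t ^ 3

variable (hV : ∀ a ∈ Q, a * a = 1 → (∀ b ∈ Q, b * a = a * b) → a = 1 ∨ a = t ^ 3)
include hV

theorem center_eq {a : G} (ha : a ∈ Q) (hc : ∀ b ∈ Q, b * a = a * b) : a = 1 ∨ a = t ^ 3 := by
  obtain ⟨k, hk⟩ := q.pow_eq_one ha
  induction k generalizing a with
  | zero => left; simpa using hk
  | succ k ih =>
    have hsq : a * a = 1 ∨ a * a = t ^ 3 := ih (mul_mem ha ha)
      (fun b hb => by rw [← mul_assoc, hc b hb, mul_assoc, hc b hb, mul_assoc])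
      (by rw [← pow_two, ← pow_mul, ← pow_succ']; exact hk)
    rcases hsq with e | e
    · exact hV a ha e hc
    exfalso
    set x := t ^ 2 with hx
    set a' := x * a * x⁻¹ with ha'
    have ha'Q : a' ∈ Q := q.xnorm a ha
    have ha'sq : a' * a' = t ^ 3 := by
      rw [ha', show x * a * x⁻¹ * (x * a * x⁻¹) = x * (a * a) * x⁻¹ by group, e, q.hyp.xz_comm.eq,
        mul_inv_cancel_right]
    have hc' : ∀ b ∈ Q, b * a' = a' * b := by
      intro b hb
      have hb' : x⁻¹ * b * x ∈ Q := by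
        have h2 := q.xnorm _ (q.xnorm b hb)
        rw [← hx] at h2
        have hx3 : x⁻¹ = x * x := inv_eq_of_mul_eq_one_right (by
          rw [← mul_assoc, ← pow_two, ← pow_succ]; exact q.hyp.x_cube)
        rw [show x⁻¹ * b * x = (x * x) * b * (x * x)⁻¹ by rw [← hx3, inv_inv]]
        rwa [show x * x * b * (x * x)⁻¹ = x * (x * b * x⁻¹) * x⁻¹ by group]
      have := hc _ hb'
      calc b * a' = x * (x⁻¹ * b * x * a) * x⁻¹ := by rw [ha']; group
        _ = x * (a * (x⁻¹ * b * x)) * x⁻¹ := by rw [this]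
        _ = a' * b := by rw [ha']; group
    have hd : a' * a⁻¹ = 1 ∨ a' * a⁻¹ = t ^ 3 := by
      refine hV _ (mul_mem ha'Q (inv_mem ha)) ?_ fun b hb => ?_
      · have hai : a⁻¹ * a' = a' * a⁻¹ := ((show Commute a' a from hc a' ha'Q |>.trans rfl).symm.inv_left).eq
        calc a' * a⁻¹ * (a' * a⁻¹) = a' * (a⁻¹ * a') * a⁻¹ := by group
          _ = a' * a' * (a * a)⁻¹ := by rw [hai]; group
          _ = 1 := by rw [ha'sq, e, mul_inv_cancel]
      · exact ((show Commute b a' from hc' b hb).mul_right (show Commute b a from hc b hb).inv_right).eq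
    rcases hd with e' | e'
    · rcases q.fixed ha (mul_inv_eq_iff_eq_mul.1 (mul_inv_eq_one.1 e')) with rfl | rfl
      · rw [one_mul] at e; exact q.hyp.z_ne e.symm
      · rw [q.hyp.z_sq] at e; exact q.hyp.z_ne e.symm
    · -- `x` would send `a` to `z a`, thrice to `z a`
      have h1 : x * a * x⁻¹ = t ^ 3 * a := mul_inv_eq_iff_eq_mul.1 e'
      have hz : x * t ^ 3 * x⁻¹ = t ^ 3 := by rw [q.hyp.xz_comm.eq, mul_inv_cancel_right]
      have h3 := conj_three x a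
      rw [q.hyp.x_cube, inv_one, mul_one, one_mul, h1] at h3
      rw [show x * (t ^ 3 * a) * x⁻¹ = (x * t ^ 3 * x⁻¹) * (x * a * x⁻¹) by group, hz, h1,
        ← mul_assoc (t ^ 3) (t ^ 3) a, q.hyp.z_sq, one_mul, h1] at h3
      exact q.hyp.z_ne (mul_eq_right.1 h3)

/-- A group of class at most two of this kind is extraspecial. -/
theorem of_class_two (h2 : ∀ a ∈ Q, ∀ b ∈ Q, ∀ c ∈ Q,
      c * (a * b * a⁻¹ * b⁻¹) = a * b * a⁻¹ * b⁻¹ * c) :
    (∀ a ∈ Q, a * a = 1 ∨ a * a = t ^ 3) ∧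
      ∀ a ∈ Q, ∀ b ∈ Q, a * b * a⁻¹ * b⁻¹ = 1 ∨ a * b * a⁻¹ * b⁻¹ = t ^ 3 := by
  have hcom : ∀ a ∈ Q, ∀ b ∈ Q, a * b * a⁻¹ * b⁻¹ = 1 ∨ a * b * a⁻¹ * b⁻¹ = t ^ 3 := fun a ha b hb =>
    q.center_eq hV (mul_mem (mul_mem (mul_mem ha hb) (inv_mem ha)) (inv_mem hb)) fun c hc => h2 a ha b hb c hc
  refine ⟨fun a ha => q.center_eq hV (mul_mem ha ha) fun b hb => ?_, hcom⟩
  obtain ⟨c, hc, hcc⟩ : ∃ c : G, c * c = 1 ∧ (a * b = c * (b * a) ∧ c * a = a * c) := by
    refine ⟨a * b * a⁻¹ * b⁻¹, ?_, by group, h2 a ha b hb a ha |>.symm⟩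
    rcases hcom a ha b hb with e | e <;> rw [e]
    · rw [one_mul]
    · exact q.hyp.z_sq
  obtain ⟨hab, hca⟩ := hcc
  calc b * (a * a) = c * c * (b * a) * a := by rw [hc]; group
    _ = c * (a * b) * a := by rw [hab]; group
    _ = a * c * b * a := by rw [← mul_assoc c a b, hca]
    _ = a * (c * (b * a)) := by group
    _ = a * a * b := by rw [← hab]; group

/-- Either a noncentral involution central modulo `z`, or at most the quaternion group. -/
theorem exists_u :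
    (∃ u ∈ Q, u * u = 1 ∧ u ≠ 1 ∧ u ≠ t ^ 3 ∧
      ∀ b ∈ Q, b * u * b⁻¹ = u ∨ b * u * b⁻¹ = u * t ^ 3) ∨
    Q = zpowers (t ^ 3) ∨
    (Nat.card Q = 8 ∧ ∀ a ∈ Q, a * a = 1 → a = 1 ∨ a = t ^ 3) := by
  classical
  haveI : Fact (Nat.Prime 2) := ⟨Nat.prime_two⟩
  set Z := zpowers (t ^ 3) with hZ
  have hZQ : Z ≤ Q := zpowers_le.2 q.z_mem
  by_contra hcon
  push Not at hcon
  obtain ⟨hnou, hQZ, hnot8⟩ := hcon
  have hne : ∃ a ∈ Q, a ∉ Z := by
    by_contra hh
    push Not at hh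
    exact hQZ (le_antisymm hh hZQ)
  obtain ⟨a, ha, haZ, hsq, hcen⟩ := q.exists_center_step le_rfl q.z_mem
    (fun a ha b hb => mul_mem (mul_mem ha hb) (inv_mem ha)) hne
  -- a noncentral element with these properties has order four
  have key : ∀ y ∈ Q, y ∉ Z → (∀ b ∈ Q, b * y * b⁻¹ * y⁻¹ ∈ Z) → y * y ≠ 1 := by
    intro y hy hyZ hyc hy1
    obtain ⟨b, hb, hb'⟩ := hnou y hy hy1 (fun e => hyZ (e ▸ one_mem _)) (fun e => hyZ (e ▸ mem_zpowers _))
    rcases q.mem_zz.1 (hyc b hb) with e | e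
    · exact hb'.1 (mul_inv_eq_one.1 e)
    · exact hb'.2 (by rw [mul_inv_eq_iff_eq_mul.1 e, q.z_comm hy])
  have ha2 : a * a = t ^ 3 := (q.mem_zz.1 hsq).resolve_left (key a ha haZ hcen)
  set x := t ^ 2 with hxdef
  set b := x * a * x⁻¹ with hbdef
  have hbQ : b ∈ Q := q.xnorm a ha
  have hzx : x * t ^ 3 * x⁻¹ = t ^ 3 := by rw [q.hyp.xz_comm.eq, mul_inv_cancel_right]
  have hb2 : b * b = t ^ 3 := by
    rw [hbdef, show x * a * x⁻¹ * (x * a * x⁻¹) = x * (a * a) * x⁻¹ by group, ha2, hzx]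
  have hx3 : x⁻¹ = x * x := inv_eq_of_mul_eq_one_right (by
    rw [← mul_assoc, ← pow_two, ← pow_succ]; exact q.hyp.x_cube)
  have hxinv : ∀ c ∈ Q, x⁻¹ * c * x ∈ Q := fun c hc => by
    rw [show x⁻¹ * c * x = (x * x) * c * (x * x)⁻¹ by rw [← hx3, inv_inv],
      show x * x * c * (x * x)⁻¹ = x * (x * c * x⁻¹) * x⁻¹ by group]
    exact q.xnorm _ (q.xnorm c hc)
  have hconjZ : ∀ c ∈ Z, x * c * x⁻¹ = c := by
    intro c hc
    rcases q.mem_zz.1 hc with rfl | rfl
    · group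
    · exact hzx
  have hbcen : ∀ c ∈ Q, c * b * c⁻¹ * b⁻¹ ∈ Z := by
    intro c hc
    have h0 := hcen _ (hxinv c hc)
    rw [← hconjZ _ h0] at h0
    rwa [hbdef, show c * (x * a * x⁻¹) * c⁻¹ * (x * a * x⁻¹)⁻¹ =
      x * (x⁻¹ * c * x * a * (x⁻¹ * c * x)⁻¹ * a⁻¹) * x⁻¹ by group]
  have hbaZ : b * a⁻¹ ∉ Z := by
    intro hm
    rcases q.mem_zz.1 hm with e | e
    · rcases q.fixed ha (mul_inv_eq_iff_eq_mul.1 (mul_inv_eq_one.1 e)) with r | r
      · exact haZ (r ▸ one_mem _)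
      · exact haZ (r ▸ mem_zpowers _)
    · have h1 : x * a * x⁻¹ = t ^ 3 * a := mul_inv_eq_iff_eq_mul.1 e
      have h3 := conj_three x a
      rw [q.hyp.x_cube, inv_one, mul_one, one_mul, h1,
        show x * (t ^ 3 * a) * x⁻¹ = (x * t ^ 3 * x⁻¹) * (x * a * x⁻¹) by group, hzx, h1,
        ← mul_assoc (t ^ 3) (t ^ 3) a, q.hyp.z_sq, one_mul, h1] at h3
      exact q.hyp.z_ne (mul_eq_right.1 h3)
  -- `a` and `b` do not commute
  have hab : a * b = t ^ 3 * (b * a) := by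
    rcases q.mem_zz.1 (hbcen a ha) with e | e
    · exfalso
      have hc : a * b = b * a := mul_inv_eq_iff_eq_mul.1 (mul_inv_eq_one.1 e)
      refine key (b * a⁻¹) (mul_mem hbQ (inv_mem ha)) hbaZ (fun c hc' => ?_) ?_
      · have h1 := hbcen c hc'
        have h2 := hcen c hc'
        rw [show c * (b * a⁻¹) * c⁻¹ * (b * a⁻¹)⁻¹ =
          (c * b * c⁻¹ * b⁻¹) * ((b * a⁻¹) * (c * a * c⁻¹ * a⁻¹)⁻¹ * (b * a⁻¹)⁻¹) by group]
        refine mul_mem h1 ?_
        rw [← q.zz_comm (inv_mem h2) (mul_mem hbQ (inv_mem ha)), mul_inv_cancel_right]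
        exact inv_mem h2
      · have hci : Commute a⁻¹ b := (show Commute a b from hc).inv_left
        calc b * a⁻¹ * (b * a⁻¹) = b * (a⁻¹ * b) * a⁻¹ := by group
          _ = b * b * (a * a)⁻¹ := by rw [hci.eq]; group
          _ = 1 := by rw [hb2, ha2, mul_inv_cancel]
    · rw [← e]; group
  -- the centraliser of `a` and `b` is `Z`
  set C0 : Subgroup G := Q ⊓ centralizer ({a, b} : Set G) with hC0
  have hC0Z : C0 = Z := by
    refine le_antisymm ?_ (le_inf hZQ fun c hc => mem_centralizer_iff.2 ?_)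
    · by_contra hle
      obtain ⟨c, hc, hcZ⟩ := SetLike.not_le_iff_exists.1 hle
      have hc' : ∀ {c : G}, c ∈ C0 → c ∈ Q ∧ c * a = a * c ∧ c * b = b * c := fun hc =>
        ⟨hc.1, (mem_centralizer_iff.1 hc.2 a (by simp)).symm, (mem_centralizer_iff.1 hc.2 b (by simp)).symm⟩
      obtain ⟨d, hd, hdZ, hdsq, hdcen⟩ := q.exists_center_step (N := C0) inf_le_left
        ⟨q.z_mem, mem_centralizer_iff.2 (by
          intro y hy
          rcases hy with e | e <;> rw [e]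
          · exact (q.z_comm ha).symm
          · exact (q.z_comm hbQ).symm)⟩
        (fun g hg n hn => by
          obtain ⟨hnQ, hna, hnb⟩ := hc' hn
          refine ⟨mul_mem (mul_mem hg hnQ) (Q.inv_mem hg), mem_centralizer_iff.2 ?_⟩
          have hmove : ∀ y ∈ Q, n * y = y * n → (∀ c ∈ Q, c * y * c⁻¹ * y⁻¹ ∈ Z) →
              y * (g * n * g⁻¹) = g * n * g⁻¹ * y := by
            intro y hy hny hyc
            obtain ⟨e, he, hg'⟩ : ∃ e ∈ Z, g⁻¹ * y * g = e * y :=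
              ⟨g⁻¹ * y * g⁻¹⁻¹ * y⁻¹, hyc _ (Q.inv_mem hg), by group⟩
            calc y * (g * n * g⁻¹) = g * ((g⁻¹ * y * g) * n) * g⁻¹ := by group
              _ = g * (n * (g⁻¹ * y * g)) * g⁻¹ := by
                rw [hg', mul_assoc e y n, ← hny, ← mul_assoc e, ← mul_assoc n, q.zz_comm he hnQ]
              _ = _ := by group
          intro y hy
          rcases hy with e | e <;> rw [e]
          · exact hmove a ha hna hcen
          · exact hmove b hbQ hnb hbcen) ⟨c, hc, hcZ⟩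
      obtain ⟨hdQ, hda, hdb⟩ := hc' hd
      have hd2 : d * d = t ^ 3 := (q.mem_zz.1 hdsq).resolve_left (key d hdQ hdZ hdcen)
      have hdaZ : d * a⁻¹ ∉ Z := fun hm => by
        have h1 := q.zz_comm hm hbQ
        have hcb : d * a⁻¹ * b = b * (d * a⁻¹) := h1
        have : a⁻¹ * b = b * a⁻¹ := by
          refine mul_left_cancel (a := d) ?_
          rw [← mul_assoc, hcb, ← mul_assoc, ← hdb, mul_assoc]
        have hcab : a * b = b * a := ((show Commute a⁻¹ b from this).inv_left).eq |> (by simpa using ·)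
        rw [hcab] at hab
        exact q.hyp.z_ne (mul_eq_right.1 hab.symm)
      refine key (d * a⁻¹) (mul_mem hdQ (inv_mem ha)) hdaZ (fun e he => ?_) ?_
      · have h3 := inv_mem (hcen e he)
        rw [show e * (d * a⁻¹) * e⁻¹ * (d * a⁻¹)⁻¹ =
          (e * d * e⁻¹ * d⁻¹) * ((d * a⁻¹) * (e * a * e⁻¹ * a⁻¹)⁻¹ * (d * a⁻¹)⁻¹) by group]
        refine mul_mem (hdcen e he) ?_
        rw [← q.zz_comm h3 (mul_mem hdQ (inv_mem ha)), mul_inv_cancel_right]
        exact h3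
      · have hci : Commute a⁻¹ d := ((show Commute d a from hda).symm).inv_left
        calc d * a⁻¹ * (d * a⁻¹) = d * (a⁻¹ * d) * a⁻¹ := by group
          _ = d * d * (a * a)⁻¹ := by rw [hci.eq]; group
          _ = 1 := by rw [hd2, ha2, mul_inv_cancel]
    · intro y hy
      rcases hy with e | e <;> rw [e]
      · exact (q.zz_comm hc ha).symm
      · exact (q.zz_comm hc hbQ).symm
  -- so every element is `z^i` times one of `1`, `a`, `b`, `a b`
  let reps : Bool × Bool → G := fun p => (if p.1 then a else 1) * (if p.2 then b else 1)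
  have hcover : ∀ c ∈ Q, ∃ p, c * reps p ∈ Z := by
    intro c hc
    have e1 : c * a * c⁻¹ = a ∨ c * a * c⁻¹ = t ^ 3 * a :=
      (q.mem_zz.1 (hcen c hc)).imp mul_inv_eq_one.1 mul_inv_eq_iff_eq_mul.1
    have e2 : c * b * c⁻¹ = b ∨ c * b * c⁻¹ = t ^ 3 * b :=
      (q.mem_zz.1 (hbcen c hc)).imp mul_inv_eq_one.1 mul_inv_eq_iff_eq_mul.1
    have hba : b * a = t ^ 3 * (a * b) := by rw [hab, ← mul_assoc, q.hyp.z_sq, one_mul]
    have aba : a * b * a⁻¹ = t ^ 3 * b := by rw [hab, ← mul_assoc, mul_inv_cancel_right]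
    have bab : b * a * b⁻¹ = t ^ 3 * a := by rw [hba, ← mul_assoc, mul_inv_cancel_right]
    have zz : ∀ y : G, t ^ 3 * (t ^ 3 * y) = y := fun y => by rw [← mul_assoc, q.hyp.z_sq, one_mul]
    have hci : ∀ g y : G, g ∈ Q → g * (t ^ 3 * y) * g⁻¹ = t ^ 3 * (g * y * g⁻¹) := fun g y hg => by
      rw [← mul_assoc g, ← q.z_comm hg]; group
    have hin : ∀ p, c * reps p ∈ Q ∧ (c * reps p) * a = a * (c * reps p) ∧ (c * reps p) * b = b * (c * reps p) →
        c * reps p ∈ Z := fun p hp => hC0Z ▸ ⟨hp.1, mem_centralizer_iff.2 (by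
          intro y hy
          rcases hy with e | e <;> rw [e]
          · exact hp.2.1.symm
          · exact hp.2.2.symm)⟩
    rcases e1 with e1 | e1 <;> rcases e2 with e2 | e2
    · refine ⟨(false, false), hin _ ?_⟩
      simp only [reps, Bool.false_eq_true, if_false, mul_one]
      exact ⟨hc, mul_inv_eq_iff_eq_mul.1 e1, mul_inv_eq_iff_eq_mul.1 e2⟩
    · refine ⟨(true, false), hin _ ?_⟩
      simp only [reps, Bool.false_eq_true, if_false, if_true, mul_one]
      refine ⟨mul_mem hc ha, ?_, mul_inv_eq_iff_eq_mul.1 ?_⟩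
      · rw [← mul_assoc a, ← mul_inv_eq_iff_eq_mul.1 e1]
      · rw [show c * a * b * (c * a)⁻¹ = c * (a * b * a⁻¹) * c⁻¹ by group, aba, hci _ _ hc, e2, zz]
    · refine ⟨(false, true), hin _ ?_⟩
      simp only [reps, Bool.false_eq_true, if_false, if_true, one_mul]
      refine ⟨mul_mem hc hbQ, mul_inv_eq_iff_eq_mul.1 ?_, ?_⟩
      · rw [show c * b * a * (c * b)⁻¹ = c * (b * a * b⁻¹) * c⁻¹ by group, bab, hci _ _ hc, e1, zz]
      · rw [← mul_assoc b, ← mul_inv_eq_iff_eq_mul.1 e2]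
    · refine ⟨(true, true), hin _ ?_⟩
      simp only [reps, if_true]
      refine ⟨mul_mem hc (mul_mem ha hbQ), mul_inv_eq_iff_eq_mul.1 ?_, mul_inv_eq_iff_eq_mul.1 ?_⟩
      · rw [show c * (a * b) * a * (c * (a * b))⁻¹ = c * (a * (b * a * b⁻¹) * a⁻¹) * c⁻¹ by group, bab,
          hci _ _ ha, mul_inv_cancel_right, hci _ _ hc, e1, zz]
      · rw [show c * (a * b) * b * (c * (a * b))⁻¹ = c * (a * b * a⁻¹) * c⁻¹ by group, aba,
          hci _ _ hc, e2, zz]
  have hrepsQ : ∀ p, reps p ∈ Q := by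
    rintro ⟨_ | _, _ | _⟩ <;> simp only [reps, Bool.false_eq_true, if_false, if_true, mul_one, one_mul]
    exacts [one_mem _, hbQ, ha, mul_mem ha hbQ]
  let F : Z × (Bool × Bool) → Q := fun p => ⟨p.1 * (reps p.2)⁻¹, mul_mem (hZQ p.1.2) (inv_mem (hrepsQ p.2))⟩
  have hFs : Function.Surjective F := by
    intro c
    obtain ⟨p, hp⟩ := hcover c c.2
    exact ⟨(⟨(c : G) * reps p, hp⟩, p), Subtype.ext (mul_inv_cancel_right _ _)⟩
  have hle : Nat.card Q ≤ 8 := by
    refine (Nat.card_le_card_of_surjective F hFs).trans (le_of_eq ?_)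
    rw [Nat.card_prod, hZ, Nat.card_zpowers, q.hyp.orderOf_z, Nat.card_prod, Nat.card_eq_fintype_card,
      Fintype.card_bool]
  have hbZ : b ∉ Z := fun hm => haZ (by
    have h2 := hconjZ b hm
    have : b = a := by
      rw [hbdef] at h2
      have h3 : x * (x * a * x⁻¹) * x⁻¹ = x * a * x⁻¹ := h2
      exact mul_left_cancel (mul_right_cancel h3)
    exact this ▸ hm)
  have h5 : 5 ≤ Nat.card Q := by
    let f : Fin 5 → Q := ![1, ⟨_, q.z_mem⟩, ⟨a, ha⟩, ⟨_, mul_mem q.z_mem ha⟩, ⟨b, hbQ⟩]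
    have hf : Function.Injective f := by
      have hz1 := q.hyp.z_ne
      have ha1 : a ≠ 1 := fun e => haZ (e ▸ one_mem _)
      have haz : a ≠ t ^ 3 := fun e => haZ (e ▸ mem_zpowers _)
      have hb1 : b ≠ 1 := fun e => hbZ (e ▸ one_mem _)
      have hbz : b ≠ t ^ 3 := fun e => hbZ (e ▸ mem_zpowers _)
      have hba : b ≠ a := fun e => hbaZ (by rw [e, mul_inv_cancel]; exact one_mem _)
      have hbaz : b ≠ t ^ 3 * a := fun e => hbaZ (by rw [e, mul_inv_cancel_right]; exact mem_zpowers _)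
      have hza1 : t ^ 3 * a ≠ 1 := fun e => haz (by
        rw [← mul_left_cancel (e.trans q.hyp.z_sq.symm)])
      have hzaz : t ^ 3 * a ≠ t ^ 3 := fun e => ha1 (mul_eq_left.1 e)
      have hzaa : t ^ 3 * a ≠ a := fun e => hz1 (mul_eq_right.1 e)
      intro i j e
      fin_cases i <;> fin_cases j <;>
        simp [f, Subtype.ext_iff, hz1, hz1.symm, ha1, ha1.symm, haz, haz.symm, hb1, hb1.symm, hbz, hbz.symm,
          hba, hba.symm, hbaz, hbaz.symm, hza1, hza1.symm, hzaz, hzaz.symm, hzaa, hzaa.symm] at e ⊢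
    simpa using Nat.card_le_card_of_injective f hf
  have h8 : Nat.card Q = 8 := by
    obtain ⟨k, hk⟩ := IsPGroup.iff_card.1 q.two
    rw [hk] at hle h5 ⊢
    have h2 : k < 4 := (Nat.pow_lt_pow_iff_right (a := 2) (by norm_num)).1 (by omega)
    interval_cases k <;> omega
  obtain ⟨d, hd, hd1, hd2, hd3⟩ := hnot8 h8
  obtain ⟨p, hp⟩ := hcover d hd
  have hdd : reps p * reps p = 1 := by
    have hc := q.zz_comm hp (inv_mem (hrepsQ p))
    have hsq : (d * reps p) * (d * reps p) = 1 := by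
      rcases q.mem_zz.1 hp with e | e <;> rw [e]
      · rw [one_mul]
      · exact q.hyp.z_sq
    have e1 : d = (d * reps p) * (reps p)⁻¹ := by rw [mul_inv_cancel_right]
    rw [e1] at hd1
    generalize d * reps p = e at hc hd1 hsq
    have : ((reps p)⁻¹) * ((reps p)⁻¹) = 1 := by
      calc (reps p)⁻¹ * (reps p)⁻¹ = (e * e) * (reps p)⁻¹ * (reps p)⁻¹ := by rw [hsq, one_mul]
        _ = e * (e * (reps p)⁻¹) * (reps p)⁻¹ := by group
        _ = e * ((reps p)⁻¹ * e) * (reps p)⁻¹ := by rw [hc]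
        _ = e * (reps p)⁻¹ * (e * (reps p)⁻¹) := by group
        _ = 1 := hd1
    rwa [← mul_inv_rev, inv_eq_one] at this
  rcases p with ⟨_ | _, _ | _⟩ <;> simp only [reps, Bool.false_eq_true, if_false, if_true, mul_one, one_mul] at hdd hp
  · rcases q.mem_zz.1 hp with e | e
    · exact hd2 e
    · exact hd3 e
  · exact q.hyp.z_ne (hb2.symm.trans hdd)
  · exact q.hyp.z_ne (ha2.symm.trans hdd)
  · refine q.hyp.z_ne (Eq.trans ?_ hdd)
    have hba : b * a = t ^ 3 * (a * b) := by rw [hab, ← mul_assoc, q.hyp.z_sq, one_mul]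
    calc t ^ 3 = t ^ 3 * (a * a) * (b * b) := by rw [ha2, hb2, q.hyp.z_sq, one_mul]
      _ = t ^ 3 * a * (a * b) * b := by group
      _ = a * t ^ 3 * (a * b) * b := by rw [q.z_comm ha]
      _ = a * (b * a) * b := by rw [hba]; group
      _ = _ := by group

/-- In a class-two situation the centraliser of a noncentral involution is not abelian of index two. -/
theorem noncentral_false (hclass : ∀ a ∈ Q, ∀ b ∈ Q, a * b * a⁻¹ * b⁻¹ = 1 ∨ a * b * a⁻¹ * b⁻¹ = t ^ 3)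
    {u : G} (hu : u ∈ Q) (hu2 : u * u = 1) (hu1 : u ≠ 1) (huz : u ≠ t ^ 3)
    (hab : ∀ a ∈ Q, a * u = u * a → ∀ b ∈ Q, b * u = u * b → a * b = b * a) : False := by
  classical
  set x := t ^ 2 with hx
  have hzx : x * t ^ 3 * x⁻¹ = t ^ 3 := by rw [q.hyp.xz_comm.eq, mul_inv_cancel_right]
  have hxx : ∀ c : G, x * (x * (x * c * x⁻¹) * x⁻¹) * x⁻¹ = c := fun c => by
    rw [conj_three, q.hyp.x_cube, one_mul, inv_one, mul_one]
  obtain ⟨v, hv⟩ : ∃ v, v = x * u * x⁻¹ := ⟨_, rfl⟩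
  obtain ⟨w, hw⟩ : ∃ w, w = x * v * x⁻¹ := ⟨_, rfl⟩
  have hvQ : v ∈ Q := hv ▸ q.xnorm u hu
  have hwQ : w ∈ Q := hw ▸ q.xnorm v hvQ
  have hxw : x * w * x⁻¹ = u := by rw [hw, hv]; exact hxx u
  have hv2 : v * v = 1 := by
    rw [hv, show x * u * x⁻¹ * (x * u * x⁻¹) = x * (u * u) * x⁻¹ by group, hu2]; group
  have hw2 : w * w = 1 := by
    rw [hw, show x * v * x⁻¹ * (x * v * x⁻¹) = x * (v * v) * x⁻¹ by group, hv2]; group
  -- `p = u v w` is fixed modulo `z`
  obtain ⟨p, hp⟩ : ∃ p, p = u * v * w := ⟨_, rfl⟩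
  have hpQ : p ∈ Q := hp ▸ mul_mem (mul_mem hu hvQ) hwQ
  have hxp : x * p * x⁻¹ = v * w * u := by
    rw [hp, show x * (u * v * w) * x⁻¹ = (x * u * x⁻¹) * (x * v * x⁻¹) * (x * w * x⁻¹) by group, hxw,
      ← hv, ← hw]
  have hpz : x * p * x⁻¹ = p ∨ x * p * x⁻¹ = t ^ 3 * p := by
    rcases hclass (v * w) (mul_mem hvQ hwQ) u hu with e | e
    · left; rw [hxp, mul_inv_eq_iff_eq_mul.1 (mul_inv_eq_one.1 e), hp, mul_assoc]
    · right
      have e' : v * w * u = t ^ 3 * u * (v * w) := by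
        rw [← e]; group
      rw [hxp, e', hp, mul_assoc, mul_assoc]
  have hpfix : x * p * x⁻¹ = p := by
    refine hpz.resolve_right fun e => q.hyp.z_ne ?_
    have h3 := hxx p
    rw [e, show x * (t ^ 3 * p) * x⁻¹ = (x * t ^ 3 * x⁻¹) * (x * p * x⁻¹) by group, hzx, e,
      ← mul_assoc (t ^ 3) (t ^ 3) p, q.hyp.z_sq, one_mul, e] at h3
    exact mul_eq_right.1 h3
  have hp1 := q.fixed hpQ (mul_inv_eq_iff_eq_mul.1 hpfix)
  rcases hclass u hu v hvQ with huv | huv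
  · -- then the centraliser of `u` is `x`-invariant of index two
    have hc : u * v = v * u := mul_inv_eq_iff_eq_mul.1 (mul_inv_eq_one.1 huv)
    have hwu : w * u = u * w := by
      have e : x * (x * (u * v) * x⁻¹) * x⁻¹ = x * (x * (v * u) * x⁻¹) * x⁻¹ := by rw [hc]
      rw [show x * (u * v) * x⁻¹ = v * w by rw [hw, hv]; group,
        show x * (v * u) * x⁻¹ = w * v by rw [hw, hv]; group,
        show x * (v * w) * x⁻¹ = (x * v * x⁻¹) * (x * w * x⁻¹) by group,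
        show x * (w * v) * x⁻¹ = (x * w * x⁻¹) * (x * v * x⁻¹) by group, hxw, ← hw] at e
      exact e
    have hinv : ∀ a ∈ Q, a * u = u * a → x * a * x⁻¹ * u = u * (x * a * x⁻¹) := by
      intro a ha hau
      have e := hab a ha hau w hwQ hwu
      have e' : x * (a * w) * x⁻¹ = x * (w * a) * x⁻¹ := by rw [e]
      rw [show x * (a * w) * x⁻¹ = (x * a * x⁻¹) * (x * w * x⁻¹) by group,
        show x * (w * a) * x⁻¹ = (x * w * x⁻¹) * (x * a * x⁻¹) by group, hxw] at e'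
      exact e'
    -- an element outside
    obtain ⟨b, hb, hbu⟩ : ∃ b ∈ Q, b * u ≠ u * b := by
      by_contra hh
      push Not at hh
      rcases hV u hu hu2 hh with e | e
      · exact hu1 e
      · exact huz e
    have hbu' : b * u = t ^ 3 * (u * b) := by
      rcases hclass b hb u hu with e | e
      · exact absurd (mul_inv_eq_iff_eq_mul.1 (mul_inv_eq_one.1 e)) hbu
      · rw [← e]; group
    have hA2 : IsPGroup 2 ↥(Q ⊓ centralizer ({u} : Set G)) := q.two.to_le inf_le_left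
    have hm : b⁻¹ * (x * b * x⁻¹) ∈ Q ⊓ centralizer ({u} : Set G) := by
      refine ⟨Q.mul_mem (Q.inv_mem hb) (q.xnorm b hb), mem_centralizer_singleton_iff.2 ?_⟩
      have hbu'' : x * b * x⁻¹ * u = t ^ 3 * (u * (x * b * x⁻¹)) := by
        rcases hclass (x * b * x⁻¹) (q.xnorm b hb) u hu with e | e
        · exfalso
          refine hbu ?_
          have e1 := hinv _ (q.xnorm b hb) (mul_inv_eq_iff_eq_mul.1 (mul_inv_eq_one.1 e))
          have e2 := hinv _ (q.xnorm _ (q.xnorm b hb)) e1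
          rwa [hxx b] at e2
        · rw [← e]; group
      have hub : u * b = t ^ 3 * (b * u) := by rw [hbu', ← mul_assoc, q.hyp.z_sq, one_mul]
      have hb2 : b⁻¹ * u = t ^ 3 * (u * b⁻¹) := by
        calc b⁻¹ * u = b⁻¹ * (u * b) * b⁻¹ := by group
          _ = (b⁻¹ * t ^ 3) * (b * u) * b⁻¹ := by rw [hub]; group
          _ = (t ^ 3 * b⁻¹) * (b * u) * b⁻¹ := by rw [q.z_comm (inv_mem hb)]
          _ = _ := by group
      calc b⁻¹ * (x * b * x⁻¹) * u = b⁻¹ * (t ^ 3 * (u * (x * b * x⁻¹))) := by rw [mul_assoc, hbu'']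
        _ = (b⁻¹ * t ^ 3) * u * (x * b * x⁻¹) := by group
        _ = (t ^ 3 * b⁻¹) * u * (x * b * x⁻¹) := by rw [q.z_comm (inv_mem hb)]
        _ = t ^ 3 * (b⁻¹ * u) * (x * b * x⁻¹) := by group
        _ = (t ^ 3 * t ^ 3) * (u * b⁻¹) * (x * b * x⁻¹) := by rw [hb2, mul_assoc (t ^ 3) (t ^ 3)]
        _ = u * (b⁻¹ * (x * b * x⁻¹)) := by rw [q.hyp.z_sq, one_mul, mul_assoc]
    obtain ⟨c, hc1, hc2⟩ := exists_fixed_coset hA2 q.hyp.x_cube
      (fun e he => ⟨q.xnorm e he.1, mem_centralizer_singleton_iff.2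
        (hinv e he.1 (mem_centralizer_singleton_iff.1 he.2))⟩) hm
    have hcQ : c ∈ Q := by simpa using mul_mem hb hc1.1
    refine hbu ?_
    have hcu : c * u = u * c := by
      rcases q.fixed hcQ hc2 with e | e <;> rw [e]
      · rw [one_mul, mul_one]
      · exact q.z_comm hu
    calc b * u = c * ((b⁻¹ * c)⁻¹ * u) := by group
      _ = c * (u * (b⁻¹ * c)⁻¹) := by
        rw [mem_centralizer_singleton_iff.1 ((Q ⊓ centralizer ({u} : Set G)).inv_mem hc1).2]
      _ = (c * u) * (b⁻¹ * c)⁻¹ := by group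
      _ = u * b := by rw [hcu]; group
  · -- otherwise `u v` would have order four and be congruent to `w`
    have e' : u * v = t ^ 3 * (v * u) := by rw [← huv]; group
    have huvv : u * v * (u * v) = t ^ 3 := by
      calc u * v * (u * v) = u * v * (t ^ 3 * (v * u)) := by rw [← e']
        _ = t ^ 3 * (u * v * (v * u)) := by rw [← mul_assoc, ← q.z_comm (mul_mem hu hvQ), mul_assoc]
        _ = t ^ 3 := by rw [show u * v * (v * u) = u * (v * v) * u by group, hv2, mul_one, hu2, mul_one]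
    have winv : w⁻¹ = w := inv_eq_of_mul_eq_one_right hw2
    have huvw : u * v = p * w := by rw [hp, mul_assoc, hw2, mul_one]
    rw [huvw] at huvv
    rcases hp1 with e | e
    · rw [e, one_mul, hw2] at huvv
      exact q.hyp.z_ne huvv.symm
    · refine q.hyp.z_ne ?_
      calc t ^ 3 = t ^ 3 * w * (t ^ 3 * w) := by rw [e] at huvv; exact huvv.symm
        _ = t ^ 3 * (w * t ^ 3) * w := by group
        _ = t ^ 3 * (t ^ 3 * w) * w := by rw [q.z_comm hwQ]
        _ = (t ^ 3 * t ^ 3) * (w * w) := by group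
        _ = 1 := by rw [q.hyp.z_sq, hw2, one_mul]

end QHyp

end Cfsg.Lib.OrderSixCHZ
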