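import Cfsg.Agent.Lib.OrderSixCHZ.Amalgam
import Cfsg.Agent.Lib.OrderSixCHZ.TwoGroup
import Cfsg.Agent.S2765

/-!
# The solvable shape: basic facts
-/

set_option autoImplicit false
set_option linter.style.haveILetI false
set_option linter.unusedSectionVars false

namespace Cfsg.Lib.OrderSixCHZ

open Subgroup

universe u

variable {G : Type u} [Group G] [Finite G] {t : G}

namespace Sol

variable (h : Hyp t) (D : Sol t)
include h D

theorem qhyp : QHyp t D.Q :=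
  ⟨h, D.Q_two, D.Q_le, D.z_mem, fun a ha => D.Q_norm _ h.x_mem_cen a ha⟩

theorem not_nine : ¬ 9 ∣ Nat.card ↥(centralizer ({t ^ 3} : Set G)) := by
  haveI : Fact (Nat.Prime 2) := ⟨Nat.prime_two⟩
  obtain ⟨k, hk⟩ := IsPGroup.iff_card.1 D.Q_two
  have hW : Nat.Coprime 9 (Nat.card D.W) :=
    ((D.W_cop.coprime_dvd_right (show 3 ∣ 6 by norm_num)).symm.pow_left 2)
  intro h9
  rw [D.card_eq, hk] at h9
  have h1 : 9 ∣ D.m := by
    refine Nat.Coprime.dvd_of_dvd_mul_left ?_ h9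
    exact Nat.Coprime.mul_right ((show Nat.Coprime 9 2 by norm_num).pow_right k) hW
  rcases D.m_cases with e | e <;> rw [e] at h1 <;> norm_num at h1

/-- An element of order prime to six centralising a conjugate of `z` centralises the conjugate of `Q`. -/
theorem comm_conj {g w : G} (hw : w * (g * t ^ 3 * g⁻¹) = g * t ^ 3 * g⁻¹ * w)
    (hcop : (orderOf w).Coprime 6) {q : G} (hq : q ∈ D.Q) : w * (g * q * g⁻¹) = g * q * g⁻¹ * w := by
  have hmem : g⁻¹ * w * g ∈ D.W := D.W_char _ (mem_centralizer_singleton_iff.2 (by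
      calc g⁻¹ * w * g * t ^ 3 = g⁻¹ * (w * (g * t ^ 3 * g⁻¹)) * g := by group
        _ = g⁻¹ * (g * t ^ 3 * g⁻¹ * w) * g := by rw [hw]
        _ = _ := by group))
    (by rwa [show g⁻¹ * w * g = g⁻¹ * w * g⁻¹⁻¹ by rw [inv_inv], Invol.orderOf_conj_eq])
  have hc := D.comm q hq _ hmem
  calc w * (g * q * g⁻¹) = g * ((g⁻¹ * w * g) * q) * g⁻¹ := by group
    _ = g * (q * (g⁻¹ * w * g)) * g⁻¹ := by rw [hc]
    _ = _ := by group

/-- The Sylow subgroups of the centraliser, in the case of index three. -/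
theorem sylow_eq (hm : D.m = 3) (S : Sylow 2 G) (hS : (S : Subgroup G) ≤ centralizer ({t ^ 3} : Set G)) :
    (S : Subgroup G) = D.Q := by
  haveI : Fact (Nat.Prime 2) := ⟨Nat.prime_two⟩
  have hn : (S : Subgroup G) ≤ normalizer (D.Q : Set G) := fun s hs => mem_norm (D.Q_norm s (hS hs))
  have hle : D.Q ≤ (S : Subgroup G) := by
    have := S.3 (IsPGroup.to_sup_of_normal_right' S.2 D.Q_two hn) le_sup_left
    exact this ▸ le_sup_right
  refine (eq_of_le_of_card_ge hle ?_).symm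
  obtain ⟨k, hk⟩ := IsPGroup.iff_card.1 S.2
  have hd : Nat.card (S : Subgroup G) ∣ Nat.card D.Q * (Nat.card D.W * 3) := by
    rw [← mul_assoc, ← hm, ← D.card_eq]; exact card_dvd_of_le hS
  rw [hk] at hd ⊢
  refine Nat.le_of_dvd Nat.card_pos (Nat.Coprime.dvd_of_dvd_mul_right ?_ hd)
  exact (Nat.Coprime.mul_right (D.W_cop.coprime_dvd_right (show 2 ∣ 6 by norm_num)).symm
    (by norm_num)).pow_left k

/-- In the case of index three every 2-element of the centraliser lies in `Q`. -/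
theorem two_mem (hm : D.m = 3) {a : G} (ha : a ∈ centralizer ({t ^ 3} : Set G)) {k : ℕ} (hk : a ^ 2 ^ k = 1) :
    a ∈ D.Q := by
  haveI : Fact (Nat.Prime 2) := ⟨Nat.prime_two⟩
  obtain ⟨S, hS⟩ := h.exists_sylow
  obtain ⟨j, -, hj⟩ := (Nat.dvd_prime_pow Nat.prime_two).1 (orderOf_dvd_of_pow_eq_one hk)
  have hp : IsPGroup 2 (zpowers a) := IsPGroup.of_card (n := j) (by rw [Nat.card_zpowers, hj])
  obtain ⟨c, hcC, R, hR, hKR, hLR⟩ := Invol.exists_common_pGroup (centralizer ({t ^ 3} : Set G))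
    (K := D.Q) (L := zpowers a) D.Q_le (zpowers_le.2 ha) D.Q_two hp
  have hRC : D.Q ⊔ zpowers (c * a * c⁻¹) ≤ centralizer ({t ^ 3} : Set G) ⊓ R :=
    sup_le (le_inf D.Q_le hKR) (zpowers_le.2 ⟨mul_mem (mul_mem hcC ha) (Subgroup.inv_mem _ hcC), hLR a (mem_zpowers a)⟩)
  have hp2 : IsPGroup 2 ↥(D.Q ⊔ zpowers (c * a * c⁻¹)) := hR.to_le (hRC.trans inf_le_right)
  obtain ⟨k2, hk2⟩ := IsPGroup.iff_card.1 hp2
  have hd : Nat.card ↥(D.Q ⊔ zpowers (c * a * c⁻¹)) ∣ Nat.card D.Q * (Nat.card D.W * 3) := by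
    rw [← mul_assoc, ← hm, ← D.card_eq]; exact card_dvd_of_le (hRC.trans inf_le_left)
  rw [hk2] at hd
  have hd2 := Nat.Coprime.dvd_of_dvd_mul_right ((Nat.Coprime.mul_right
    (D.W_cop.coprime_dvd_right (show 2 ∣ 6 by norm_num)).symm (by norm_num : Nat.Coprime 2 3)).pow_left k2) hd
  rw [← hk2] at hd2
  have := eq_of_le_of_card_ge (le_sup_left : D.Q ≤ D.Q ⊔ zpowers (c * a * c⁻¹)) (Nat.le_of_dvd Nat.card_pos hd2)
  have hm' : c * a * c⁻¹ ∈ D.Q := this.ge (mem_sup_right (mem_zpowers _))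
  have h2 := D.Q_norm c⁻¹ (inv_mem hcC) _ hm'
  rwa [show c⁻¹ * (c * a * c⁻¹) * c⁻¹⁻¹ = a by group] at h2

end Sol

/-- A 2-subgroup of index three in a finite group with `X/D ≅ S₃` is a maximal subgroup, uniquely so. -/
theorem exists_unique_maximal {X : Type u} [Group X] [Finite X] {T : Subgroup X} (hT : T.index = 3) :
    ∃! M : Subgroup X, IsCoatom M ∧ T ≤ M := by
  have hco : IsCoatom T := by
    refine ⟨fun e => by rw [e, index_top] at hT; omega, fun M hM => ?_⟩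
    have h1 := relIndex_mul_index hM.le
    rw [hT] at h1
    have hd : M.index ∣ 3 := ⟨T.relIndex M, by rw [mul_comm, h1]⟩
    rcases (Nat.dvd_prime Nat.prime_three).1 hd with e | e
    · exact index_eq_one.1 e
    · rw [e] at h1
      have : T.relIndex M = 1 := by omega
      exact absurd (relIndex_eq_one.1 this) hM.not_ge
  refine ⟨T, ⟨hco, le_rfl⟩, fun M ⟨hM, hTM⟩ => ?_⟩
  rcases hTM.eq_or_lt with e | e
  · exact e.symm
  · exact absurd (hco.2 M e) hM.1

/-- Pushing up: if no characteristic subgroup of the Sylow subgroup is normal in a rank one overgroup,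
the Sylow subgroup has class two. -/
theorem class_two_of {S : Sylow 2 G} {X D0 : Subgroup G} (hSX : (S : Subgroup G) ≤ X) (hD0 : D0 ≤ (S : Subgroup G))
    (hcard : Nat.card X = 3 * Nat.card (S : Subgroup G)) (hcore : Cfsg.pCore 2 X = D0.subgroupOf X)
    (hself : ∀ a ∈ X, (∀ d ∈ D0, a * d = d * a) → a ∈ D0)
    (hquot : Nonempty (X ⧸ Cfsg.pCore 2 X ≃* Equiv.Perm (Fin 3)))
    (hchar : ∀ K : Subgroup G, K ≤ (S : Subgroup G) → K ≠ ⊥ →
      (∀ g : G, (∀ s ∈ (S : Subgroup G), g * s * g⁻¹ ∈ (S : Subgroup G)) → ∀ k ∈ K, g * k * g⁻¹ ∈ K) →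
      ¬ ∀ a ∈ X, ∀ k ∈ K, a * k * a⁻¹ ∈ K) :
    ∀ a ∈ (S : Subgroup G), ∀ b ∈ (S : Subgroup G), ∀ c ∈ (S : Subgroup G),
      c * (a * b * a⁻¹ * b⁻¹) = a * b * a⁻¹ * b⁻¹ * c := by
  haveI : Fact (Nat.Prime 2) := ⟨Nat.prime_two⟩
  obtain ⟨eq⟩ := hquot
  obtain ⟨ep⟩ := psl_two_two_equiv
  let SX : Sylow 2 X := S.subtype hSX
  have hidx : (SX : Subgroup X).index = 3 := by
    have h1 := card_mul_index (SX : Subgroup X)
    rw [show Nat.card (SX : Subgroup X) = Nat.card (S : Subgroup G) from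
      Nat.card_congr (subgroupOfEquivOfLe hSX).toEquiv, hcard, mul_comm 3] at h1
    exact Nat.eq_of_mul_eq_mul_left Nat.card_pos h1
  have hE1 : centralizer ((Cfsg.pCore 2 X : Subgroup X) : Set X) ≤ Cfsg.pCore 2 X := by
    intro a ha
    rw [hcore, mem_subgroupOf]
    refine hself a a.2 fun d hd => ?_
    have hdX : d ∈ X := hSX (hD0 hd)
    have := mem_centralizer_iff.1 ha ⟨d, hdX⟩ (by rw [hcore]; exact hd)
    exact (congrArg Subtype.val this).symm
  haveI : (Cfsg.pCore 2 X).Normal := Cfsg.pCore_normal 2 _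
  have hd : ∀ T : Subgroup ↥(SX : Subgroup X), T ≠ ⊥ → T.Characteristic →
      ¬ (T.map (SX : Subgroup X).subtype).Normal := by
    intro T hT hTc hTn
    haveI := hTc
    set K : Subgroup G := (T.map (SX : Subgroup X).subtype).map X.subtype with hK
    refine hchar K ?_ ?_ (fun g hg k hk => ?_) fun a ha k hk => ?_
    · rintro _ ⟨_, ⟨s, -, rfl⟩, rfl⟩; exact s.2
    · rw [hK, Ne, map_eq_bot_iff_of_injective _ X.subtype_injective,
        map_eq_bot_iff_of_injective _ (Subgroup.subtype_injective _)]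
      exact hT
    · obtain ⟨_, ⟨s, hs, rfl⟩, rfl⟩ := hk
      -- conjugation by `g` is an automorphism of the Sylow subgroup
      let e1 : (SX : Subgroup X) ≃* (S : Subgroup G) := subgroupOfEquivOfLe hSX
      have hgN : g ∈ normalizer ((S : Subgroup G) : Set G) := mem_norm hg
      let φ : MulAut ↥(SX : Subgroup X) :=
        (e1.trans ((S : Subgroup G).normalizerMonoidHom ⟨g, hgN⟩)).trans e1.symm
      have := (characteristic_iff_map_eq.1 hTc φ)
      have hm : φ s ∈ T := by rw [← this]; exact ⟨s, hs, rfl⟩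
      exact ⟨_, ⟨φ s, hm, rfl⟩, rfl⟩
    · obtain ⟨p, hp, rfl⟩ := hk
      exact ⟨⟨a, ha⟩ * p * ⟨a, ha⟩⁻¹, hTn.conj_mem p hp _, rfl⟩
  have hres := Cfsg.Agent.S2765.result SX hE1 (exists_unique_maximal hidx) (Cfsg.pCore 2 X) (ZMod 2) 1 le_rfl
    (by rw [ZMod.card, pow_one]) ⟨eq.trans ep.symm⟩ hd
  rcases hres with ⟨h2, -⟩ | ⟨h3, -⟩
  swap
  · exact absurd h3 (by norm_num)
  intro a ha b hb c hc
  have hmem : ∀ {s : G} (hs : s ∈ (S : Subgroup G)), (⟨s, hSX hs⟩ : X) ∈ (SX : Subgroup X) := fun hs => hs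
  rw [Subgroup.lowerCentralSeries_succ, Subgroup.lowerCentralSeries_succ, Subgroup.lowerCentralSeries_zero,
    commutator_eq_bot_iff_le_centralizer] at h2
  have := mem_centralizer_iff.1 (h2 (commutator_mem_commutator (hmem ha) (hmem hb))) ⟨c, hSX hc⟩ (hmem hc)
  simpa [commutatorElement_def] using congrArg Subtype.val this

namespace Parab

variable {u : G}

/-- The second parabolic. -/
theorem class_two {S : Sylow 2 G} (P : Parab t (S : Subgroup G) u)
    (hchar : ∀ K : Subgroup G, K ≤ (S : Subgroup G) → K ≠ ⊥ →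
      (∀ g : G, (∀ s ∈ (S : Subgroup G), g * s * g⁻¹ ∈ (S : Subgroup G)) → ∀ k ∈ K, g * k * g⁻¹ ∈ K) →
      ¬ ∀ a ∈ P.X, ∀ k ∈ K, a * k * a⁻¹ ∈ K) :
    ∀ a ∈ (S : Subgroup G), ∀ b ∈ (S : Subgroup G), ∀ c ∈ (S : Subgroup G),
      c * (a * b * a⁻¹ * b⁻¹) = a * b * a⁻¹ * b⁻¹ * c :=
  class_two_of P.sylow_le inf_le_left P.card_eq P.core P.self P.quot hchar

end Parab

end Cfsg.Lib.OrderSixCHZ
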